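import Groth.Agent.H26Gr.QuotBC

/-!
# Adding a step to a flag scheme
-/

set_option autoImplicit false
set_option backward.isDefEq.respectTransparency false
set_option backward.isDefEq.respectTransparency.types false

universe u

open CategoryTheory CategoryTheory.Limits AlgebraicGeometry Grass

namespace Groth.Agent.H26Gr

noncomputable section

/-- The last step of a flag scheme is a Grassmannian of the previous one. -/
theorem isGrass_last {X F F' : Scheme.{u}} {π : F ⟶ X} {π' : F' ⟶ X} {E : X.Modules} {m : ℕ} {n : Fin (m + 2) → ℕ}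
    {Q : Fin (m + 1) → F.Modules} {q : ∀ i, (Scheme.Modules.pullback π).obj E ⟶ Q i}
    (hF : IsFlag π E (fun i => n (Fin.castSucc i)) Q q)
    {Q' : Fin (m + 2) → F'.Modules} {q' : ∀ i, (Scheme.Modules.pullback π').obj E ⟶ Q' i}
    (hF' : IsFlag π' E n Q' q') (h₀ : F' ⟶ F) (he : h₀ ≫ π = π')
    (I : ∀ i, (Scheme.Modules.pullback h₀).obj (Q i) ≅ Q' (Fin.castSucc i))
    (hI : ∀ i, quotBC he (q i) ≫ (I i).hom = q' (Fin.castSucc i))
    (t : Q' (Fin.castSucc (Fin.last m)) ⟶ Q' (Fin.last (m + 1)))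
    (ht : q' (Fin.castSucc (Fin.last m)) ≫ t = q' (Fin.last (m + 1))) :
    IsGrass h₀ (Q (Fin.last m)) (n (Fin.last (m + 1))) (Q' (Fin.last (m + 1))) ((I (Fin.last m)).hom ≫ t) where
  rank := hF'.rank _
  epi := by
    have := hF'.epi (Fin.last (m + 1))
    have : Epi t := by
      rw [← ht] at this
      exact epi_of_epi (q' _) t
    exact epi_comp _ _
  univ T g L hL s hs := by
    let g' := g ≫ π
    let S : ∀ _ : Fin (m + 2), Type (u + 1) := fun _ => Σ M : T.Modules, ((Scheme.Modules.pullback g').obj E ⟶ M)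
    obtain ⟨D, hDl, hDc⟩ : ∃ D : ∀ i, S i,
        D (Fin.last (m + 1)) = ⟨L, quotBC rfl (q (Fin.last m)) ≫ s⟩ ∧
        ∀ i, D (Fin.castSucc i) = ⟨_, quotBC rfl (q i)⟩ :=
      ⟨Fin.lastCases (motive := S) ⟨L, quotBC rfl (q (Fin.last m)) ≫ s⟩ (fun i => ⟨_, quotBC rfl (q i)⟩),
        by rw [Fin.lastCases_last], fun i => by rw [Fin.lastCases_castSucc]⟩
    have hqepi : ∀ i, Epi (quotBC (rfl : g ≫ π = g') (q i)) := fun i =>
      haveI := hF.epi i; epi_quotBC _ _
    have key : ∀ (h : T ⟶ F') (hg : h ≫ h₀ = g) (i : Fin (m + 1)),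
        quotBC (rfl : g ≫ π = g') (q i) ≫ quotBC hg (I i).hom =
          quotBC (show h ≫ π' = g' by rw [← he, ← Category.assoc, hg]) (q' (Fin.castSucc i)) := fun h hg i => by
      have := quotBC_quotBC (π := π') he (q i) (I i).hom hg (rfl : g ≫ π = g')
      simp only [hI] at this
      exact this
    have keyl : ∀ (h : T ⟶ F') (hg : h ≫ h₀ = g),
        quotBC (rfl : g ≫ π = g') (q (Fin.last m)) ≫ quotBC hg ((I (Fin.last m)).hom ≫ t) =
          quotBC (show h ≫ π' = g' by rw [← he, ← Category.assoc, hg]) (q' (Fin.last (m + 1))) := fun h hg => by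
      rw [quotBC_comp_map, ← Category.assoc, key h hg, ← quotBC_comp_map, ht]
    obtain ⟨h, ⟨hg', e, hspec⟩, huniq⟩ := hF'.univ T g' (fun i => (D i).1)
      (fun i => by
        refine Fin.lastCases ?_ (fun j => ?_) i
        · rw [hDl]; exact hL
        · rw [hDc]; exact isFinLocFreeOfRank_pullback g (hF.rank j))
      (fun i => (D i).2)
      (fun i => by
        refine Fin.lastCases ?_ (fun j => ?_) i
        · rw [hDl]; haveI := hqepi (Fin.last m); haveI := hs; exact epi_comp _ _
        · rw [hDc]; exact hqepi j)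
      (fun i j hij => by
        revert hij
        refine Fin.lastCases (fun hij => ?_) (fun i => ?_) i <;> revert j
        · intro j hij
          rw [Fin.last_le_iff.1 hij]
          exact ⟨𝟙 _, Category.comp_id _⟩
        · intro j
          refine Fin.lastCases (fun _ => ?_) (fun j hij => ?_) j
          · rw [hDc, hDl]
            obtain ⟨u, hu⟩ := hF.nested i (Fin.last m) (Fin.le_last _)
            exact ⟨(Scheme.Modules.pullback g).map u ≫ s,
              by rw [← Category.assoc, quotBC_comp_eq rfl (q i) u hu]⟩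
          · rw [hDc, hDc]
            obtain ⟨u, hu⟩ := hF.nested i j (Fin.castSucc_le_castSucc_iff.1 hij)
            exact ⟨(Scheme.Modules.pullback g).map u, quotBC_comp_eq rfl (q i) u hu⟩)
    -- transport to the concrete data
    have hc : ∀ i, ∃ a : (Scheme.Modules.pullback h).obj (Q' (Fin.castSucc i)) ≅ (Scheme.Modules.pullback g).obj (Q i),
        quotBC hg' (q' (Fin.castSucc i)) ≫ a.hom = quotBC rfl (q i) := fun i => by
      have h1 : ∃ a : (Scheme.Modules.pullback h).obj (Q' (Fin.castSucc i)) ≅ (D (Fin.castSucc i)).1,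
          quotBC hg' (q' (Fin.castSucc i)) ≫ a.hom = (D (Fin.castSucc i)).2 := ⟨e _, hspec _⟩
      rw [hDc] at h1
      exact h1
    have hl : ∃ a : (Scheme.Modules.pullback h).obj (Q' (Fin.last (m + 1))) ≅ L,
        quotBC hg' (q' (Fin.last (m + 1))) ≫ a.hom = quotBC rfl (q (Fin.last m)) ≫ s := by
      have h1 : ∃ a : (Scheme.Modules.pullback h).obj (Q' (Fin.last (m + 1))) ≅ (D (Fin.last (m + 1))).1,
          quotBC hg' (q' (Fin.last (m + 1))) ≫ a.hom = (D (Fin.last (m + 1))).2 := ⟨e _, hspec _⟩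
      rw [hDl] at h1
      exact h1
    choose a ha using hc
    obtain ⟨al, hal⟩ := hl
    -- it lies over `g`
    have hg : h ≫ h₀ = g := by
      obtain ⟨_, -, hu⟩ := hF.univ T g' (fun i => (Scheme.Modules.pullback g).obj (Q i))
        (fun i => isFinLocFreeOfRank_pullback g (hF.rank i)) (fun i => quotBC rfl (q i)) hqepi
        (fun i j hij => by
          obtain ⟨u, hu⟩ := hF.nested i j hij
          exact ⟨(Scheme.Modules.pullback g).map u, quotBC_comp_eq rfl (q i) u hu⟩)
      have hgπ : (h ≫ h₀) ≫ π = g' := by rw [Category.assoc, he, hg']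
      refine (hu _ ?_).trans (hu _ ⟨rfl, fun i => Iso.refl _, fun i => by simp⟩).symm
      refine ⟨hgπ, fun i => (haveI := isIso_quotBC (rfl : h ≫ h₀ = h ≫ h₀) (I i).hom
        asIso (quotBC (rfl : h ≫ h₀ = h ≫ h₀) (I i).hom)) ≪≫ a i, fun i => ?_⟩
      have := quotBC_quotBC (π := π') he (q i) (I i).hom (rfl : h ≫ h₀ = h ≫ h₀) hgπ
      simp only [hI] at this
      rw [Iso.trans_hom, asIso_hom, ← Category.assoc, this]
      exact ha i
    refine ⟨h, ⟨hg, al, ?_⟩, fun h' ⟨hg'', e', he'⟩ => ?_⟩
    · haveI := hqepi (Fin.last m)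
      rw [← cancel_epi (quotBC (rfl : g ≫ π = g') (q (Fin.last m))), ← Category.assoc, keyl h hg]
      exact hal
    · have hX : h' ≫ π' = g' := by rw [← he, ← Category.assoc, hg'']
      have hex : ∀ i, ∃ b : (Scheme.Modules.pullback h').obj (Q' i) ≅ (D i).1, quotBC hX (q' i) ≫ b.hom = (D i).2 := by
        intro i
        refine Fin.lastCases ?_ (fun j => ?_) i
        · rw [hDl]
          exact ⟨e', ((congrArg (· ≫ e'.hom) (keyl h' hg'').symm).trans ((Category.assoc _ _ _).trans (congrArg _ he')))⟩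
        · rw [hDc]
          haveI := isIso_quotBC hg'' (I j).hom
          refine ⟨(asIso (quotBC hg'' (I j).hom)).symm, ?_⟩
          rw [← key h' hg'', Category.assoc, Iso.symm_hom, asIso_inv, IsIso.hom_inv_id, Category.comp_id]
      choose b hb using hex
      exact huniq h' ⟨hX, b, hb⟩

end

end Groth.Agent.H26Gr
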