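import Groth.Agent.H26Gr.Glue

/-!
# Grassmannians are local on the base
-/

set_option autoImplicit false
set_option backward.isDefEq.respectTransparency false
set_option backward.isDefEq.respectTransparency.types false

universe u

open CategoryTheory CategoryTheory.Limits AlgebraicGeometry Grass Opposite

namespace Groth.Agent.H26Gr

noncomputable section

variable {X : Scheme.{u}} {E : X.Modules} {r : ℕ}

/-- Grassmannians over the members of an open covering of the base give one over the base. -/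
theorem isRepresentable_of_local {κ : Type u} (U : κ → X.Opens) (hU : ∀ x, ∃ i, x ∈ U i)
    (h : ∀ i, ∃ (G : Scheme.{u}) (π : G ⟶ (U i : Scheme.{u})) (Q : G.Modules)
      (q : (Scheme.Modules.pullback π).obj ((Scheme.Modules.pullback (U i).ι).obj E) ⟶ Q),
        IsGrass π ((Scheme.Modules.pullback (U i).ι).obj E) r Q q) :
    (qfun E r).IsRepresentable := by
  choose G π Q q hG using h
  let c : ∀ i, (Scheme.Modules.pullback (π i ≫ (U i).ι)).obj E ⟶
      (Scheme.Modules.pullback (π i)).obj ((Scheme.Modules.pullback (U i).ι).obj E) := fun i =>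
    quotBC (rfl : π i ≫ (U i).ι = π i ≫ (U i).ι) (𝟙 _)
  have hc : ∀ i, IsIso (c i) := fun i => isIso_quotBC _ _
  have hce : ∀ i, Epi (c i ≫ q i) := fun i => by
    haveI := hc i
    haveI := (hG i).epi
    infer_instance
  let W : κ → Over X := fun i => Over.mk (π i ≫ (U i).ι)
  -- a morphism into a chart, in two steps
  have key : ∀ (i : κ) (T : Over X) (h : T ⟶ W i) (g : T.left ⟶ (U i : Scheme.{u})) (hg : h.left ≫ π i = g)
      (hg' : g ≫ (U i).ι = T.hom),
      quotBC hg' (𝟙 ((Scheme.Modules.pullback (U i).ι).obj E)) ≫ quotBC hg (q i) =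
        quotBC (Over.w h) (c i ≫ q i) := fun i T h g hg hg' =>
    quotBC_quotBC (π := π i ≫ (U i).ι) rfl (𝟙 _) (q i) hg hg'
  refine H8Props.WeilRes.isRepresentable_of_open_cover isZariskiGluing_qfun W
    (fun i => QSet.mk (c i ≫ q i) (hG i).rank (hce i)) (fun i T h h' e => ?_) fun T K => ?_
  · change QSet.map h _ = QSet.map h' _ at e
    rw [QSet.map_mk, QSet.map_mk, QSet.mk_eq_mk_iff] at e
    obtain ⟨e, he⟩ := e
    let g := h.left ≫ π i
    have hw : h'.left ≫ π i = g := (cancel_mono (U i).ι).1 (by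
      rw [Category.assoc, Category.assoc]; exact (Over.w h').trans (Over.w h).symm)
    have hg' : g ≫ (U i).ι = T.hom := by rw [Category.assoc]; exact Over.w h
    haveI := isIso_quotBC hg' (𝟙 ((Scheme.Modules.pullback (U i).ι).obj E))
    haveI := (hG i).epi
    rw [← key i T h g rfl hg', ← key i T h' g hw hg', Category.assoc, cancel_epi] at he
    exact Over.OverMorphism.ext (((hG i).univ T.left g _ (isFinLocFreeOfRank_pullback h'.left (hG i).rank) _
      (epi_quotBC hw (q i))).unique ⟨rfl, e, he⟩ ⟨hw, Iso.refl _, Category.comp_id _⟩)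
  · obtain ⟨L, s, hL, hs, rfl⟩ := QSet.exists_mk K
    refine ⟨fun i => T.hom ⁻¹ᵁ U i, fun x => hU (T.hom x), fun i T' p => ⟨?_, fun hr => ?_⟩⟩
    · rintro ⟨h, -⟩ _ ⟨y, rfl⟩
      show T.hom (p.left y) ∈ U i
      rw [← Scheme.Hom.comp_apply, Over.w p, ← Over.w h]
      exact (π i (h.left y)).2
    · have hr' : Set.range T'.hom ⊆ Set.range (U i).ι := by
        rw [Scheme.Opens.range_ι, ← Over.w p]
        rintro _ ⟨y, rfl⟩
        exact hr ⟨y, rfl⟩
      let g := IsOpenImmersion.lift (U i).ι T'.hom hr'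
      have hg' : g ≫ (U i).ι = T'.hom := IsOpenImmersion.lift_fac _ _ _
      haveI := isIso_quotBC hg' (𝟙 ((Scheme.Modules.pullback (U i).ι).obj E))
      haveI := epi_quotBC' p s hs
      obtain ⟨h, ⟨hh, e, he⟩, -⟩ := (hG i).univ T'.left g _ (isFinLocFreeOfRank_pullback p.left hL)
        (inv (quotBC hg' (𝟙 ((Scheme.Modules.pullback (U i).ι).obj E))) ≫ quotBC (Over.w p) s) inferInstance
      refine ⟨Over.homMk h (by show h ≫ π i ≫ (U i).ι = _; rw [← Category.assoc, hh, hg']), ?_⟩
      rw [qfun_map, qfun_map, QSet.map_mk, QSet.map_mk, QSet.mk_eq_mk_iff]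
      refine ⟨e, ?_⟩
      rw [← key i T' (Over.homMk h (by show h ≫ π i ≫ (U i).ι = _; rw [← Category.assoc, hh, hg'])) g hh hg',
        Category.assoc]
      exact ((IsIso.eq_inv_comp _).1 he)

end

end Groth.Agent.H26Gr
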