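import Groth.Agent.H26Gr.LocFreeGrass
import Groth.Agent.H26Gr.FlagStep
import Groth.Agent.H26Gr.Local

/-!
# Existence of flag schemes of locally free modules
-/

set_option autoImplicit false
set_option backward.isDefEq.respectTransparency false
set_option backward.isDefEq.respectTransparency.types false

universe u

open CategoryTheory CategoryTheory.Limits AlgebraicGeometry Grass

namespace Groth.Agent.H26Gr

noncomputable section

variable {X T A F F₀ : Scheme.{u}} {π : F ⟶ X} {π₀ : F₀ ⟶ X} {E : X.Modules}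

/-- Composing base changes of quotients. -/
theorem rel_comp {B : Scheme.{u}} {πB : B ⟶ X} {πA : A ⟶ X} {g : T ⟶ X} {QB : B.Modules} {QA : A.Modules}
    {L : T.Modules} {qB : (Scheme.Modules.pullback πB).obj E ⟶ QB} {qA : (Scheme.Modules.pullback πA).obj E ⟶ QA}
    {s : (Scheme.Modules.pullback g).obj E ⟶ L} {f₁ : T ⟶ A} {f₂ : A ⟶ B} (h₂ : f₂ ≫ πB = πA) (h₁ : f₁ ≫ πA = g)
    (e₂ : ∃ e : (Scheme.Modules.pullback f₂).obj QB ≅ QA, quotBC h₂ qB ≫ e.hom = qA)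
    (e₁ : ∃ e : (Scheme.Modules.pullback f₁).obj QA ≅ L, quotBC h₁ qA ≫ e.hom = s)
    (h : (f₁ ≫ f₂) ≫ πB = g) :
    ∃ e : (Scheme.Modules.pullback (f₁ ≫ f₂)).obj QB ≅ L, quotBC h qB ≫ e.hom = s := by
  obtain ⟨a, ha⟩ := e₂
  obtain ⟨b, hb⟩ := e₁
  haveI := isIso_quotBC (rfl : f₁ ≫ f₂ = f₁ ≫ f₂) a.hom
  refine ⟨asIso (quotBC (rfl : f₁ ≫ f₂ = f₁ ≫ f₂) a.hom) ≪≫ b, ?_⟩
  have := quotBC_quotBC (π := πA) h₂ qB a.hom (rfl : f₁ ≫ f₂ = f₁ ≫ f₂) h
  simp only [ha] at this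
  rw [Iso.trans_hom, asIso_hom, ← Category.assoc, this, hb]

variable {m : ℕ} {n : Fin m → ℕ} {Q : Fin m → F.Modules} {q : ∀ i, (Scheme.Modules.pullback π).obj E ⟶ Q i}

/-- Morphisms to a flag scheme with the same universal family agree. -/
theorem flag_hom_ext (hF : IsFlag π E n Q q) {g : T ⟶ X} {L : Fin m → T.Modules}
    (hL : ∀ i, FlatMod.IsFinLocFreeOfRank (n i) (L i))
    {s : ∀ i, (Scheme.Modules.pullback g).obj E ⟶ L i} (hs : ∀ i, Epi (s i))
    (hn : ∀ i j, i ≤ j → ∃ t : L i ⟶ L j, s i ≫ t = s j) {a b : T ⟶ F} (ha : a ≫ π = g) (hb : b ≫ π = g)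
    (ea : ∀ i, ∃ e : (Scheme.Modules.pullback a).obj (Q i) ≅ L i, quotBC ha (q i) ≫ e.hom = s i)
    (eb : ∀ i, ∃ e : (Scheme.Modules.pullback b).obj (Q i) ≅ L i, quotBC hb (q i) ≫ e.hom = s i) : a = b := by
  choose ea hea using ea
  choose eb heb using eb
  exact (hF.lift_unique g L hL s hs hn a ha ea hea).trans (hF.lift_unique g L hL s hs hn b hb eb heb).symm

theorem rel_id (qF : ∀ i, (Scheme.Modules.pullback π).obj E ⟶ Q i) (i : Fin m) :
    ∃ e : (Scheme.Modules.pullback (𝟙 F)).obj (Q i) ≅ Q i, quotBC (Category.id_comp π) (qF i) ≫ e.hom = qF i :=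
  ⟨(Scheme.Modules.pullbackId F).app (Q i), quotBC_id_comp (qF i)⟩

/-- Flag schemes of the same type are isomorphic. -/
theorem isIso_of_same {Q₀ : Fin m → F₀.Modules} {q₀ : ∀ i, (Scheme.Modules.pullback π₀).obj E ⟶ Q₀ i}
    (hF : IsFlag π E n Q q) (hF₀ : IsFlag π₀ E n Q₀ q₀) (f : F ⟶ F₀) (hf : f ≫ π₀ = π)
    (ef : ∀ i, ∃ e : (Scheme.Modules.pullback f).obj (Q₀ i) ≅ Q i, quotBC hf (q₀ i) ≫ e.hom = q i) : IsIso f := by
  let g := hF.lift π₀ Q₀ hF₀.rank q₀ hF₀.epi hF₀.nested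
  have hg : g ≫ π = π₀ := hF.lift_comp _ _ _ _ _ _
  have eg : ∀ i, ∃ e : (Scheme.Modules.pullback g).obj (Q i) ≅ Q₀ i, quotBC hg (q i) ≫ e.hom = q₀ i := fun i =>
    ⟨_, hF.quotBC_liftIso _ _ _ _ _ _ i⟩
  exact ⟨g,
    flag_hom_ext hF hF.rank hF.epi hF.nested (by rw [Category.assoc, hg, hf]) (Category.id_comp π)
      (fun i => rel_comp hg hf (eg i) (ef i) _) (rel_id q),
    flag_hom_ext hF₀ hF₀.rank hF₀.epi hF₀.nested (by rw [Category.assoc, hf, hg]) (Category.id_comp π₀)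
      (fun i => rel_comp hf hg (ef i) (eg i) _) (rel_id q₀)⟩

theorem isIso_of_empty {n₀ : Fin 0 → ℕ} {Q₀ : Fin 0 → F₀.Modules}
    {q₀ : ∀ i, (Scheme.Modules.pullback π₀).obj E ⟶ Q₀ i} (hF₀ : IsFlag π₀ E n₀ Q₀ q₀) : IsIso π₀ := by
  let σ := hF₀.lift (𝟙 X) (fun i => i.elim0) (fun i => i.elim0) (fun i => i.elim0) (fun i => i.elim0) (fun i => i.elim0)
  have hσ : σ ≫ π₀ = 𝟙 X := hF₀.lift_comp _ _ _ _ _ _
  exact ⟨σ, flag_hom_ext hF₀ hF₀.rank hF₀.epi hF₀.nested (by rw [Category.assoc, hσ, Category.comp_id])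
    (Category.id_comp π₀) (fun i => i.elim0) (fun i => i.elim0), hσ⟩

/-- Grassmannians of locally free modules exist. -/
theorem exists_isGrass_locFree {N : ℕ} (hE : FlatMod.IsFinLocFreeOfRank N E) (r : ℕ) :
    ∃ (G : Scheme.{u}) (ρ : G ⟶ X) (P : G.Modules) (p : (Scheme.Modules.pullback ρ).obj E ⟶ P),
      IsGrass ρ E r P p := by
  choose U hU e using exists_chart_iso hE
  refine exists_isGrass_of_isRepresentable (isRepresentable_of_local U (fun x => ⟨x, hU x⟩) fun x => ?_)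
  obtain ⟨G, ρ, P, p, h⟩ := exists_isGrass_of_isRepresentable (isRepresentable_qfun_free (U x : Scheme.{u}) N r)
  exact ⟨G, ρ, P, _, isGrass_of_iso (e x).some h⟩

/-- Adding a step to a flag scheme by a Grassmannian of the last quotient. -/
theorem exists_isFlag_snoc {m : ℕ} {n : Fin (m + 2) → ℕ}
    {Q : Fin (m + 1) → F.Modules} {q : ∀ i, (Scheme.Modules.pullback π).obj E ⟶ Q i}
    (hF : IsFlag π E (fun i => n (Fin.castSucc i)) Q q) {G : Scheme.{u}} {ρ : G ⟶ F} {Q₁ : G.Modules}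
    {q₁ : (Scheme.Modules.pullback ρ).obj (Q (Fin.last m)) ⟶ Q₁}
    (hG : IsGrass ρ (Q (Fin.last m)) (n (Fin.last (m + 1))) Q₁ q₁) :
    ∃ (Q' : Fin (m + 2) → G.Modules) (q' : ∀ i, (Scheme.Modules.pullback (ρ ≫ π)).obj E ⟶ Q' i),
      IsFlag (ρ ≫ π) E n Q' q' := by
  let S : ∀ _ : Fin (m + 2), Type (u + 1) := fun _ => Σ M : G.Modules, ((Scheme.Modules.pullback (ρ ≫ π)).obj E ⟶ M)
  obtain ⟨D, hDl, hDc⟩ : ∃ D : ∀ i, S i,
      D (Fin.last (m + 1)) = ⟨Q₁, quotBC rfl (q (Fin.last m)) ≫ q₁⟩ ∧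
      ∀ i, D (Fin.castSucc i) = ⟨_, quotBC rfl (q i)⟩ :=
    ⟨Fin.lastCases (motive := S) ⟨Q₁, quotBC rfl (q (Fin.last m)) ≫ q₁⟩ (fun i => ⟨_, quotBC rfl (q i)⟩),
      by rw [Fin.lastCases_last], fun i => by rw [Fin.lastCases_castSucc]⟩
  have hqepi : ∀ i, Epi (quotBC (rfl : ρ ≫ π = ρ ≫ π) (q i)) := fun i =>
    haveI := hF.epi i; epi_quotBC _ _
  refine ⟨fun i => (D i).1, fun i => (D i).2, fun i => ?_, fun i => ?_, fun i j hij => ?_, ?_⟩
  · refine Fin.lastCases ?_ (fun j => ?_) i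
    · rw [hDl]; exact hG.rank
    · rw [hDc]; exact isFinLocFreeOfRank_pullback ρ (hF.rank j)
  · refine Fin.lastCases ?_ (fun j => ?_) i
    · rw [hDl]; haveI := hqepi (Fin.last m); haveI := hG.epi; exact epi_comp _ _
    · rw [hDc]; exact hqepi j
  · revert hij
    refine Fin.lastCases (fun hij => ?_) (fun i => ?_) i <;> revert j
    · intro j hij
      rw [Fin.last_le_iff.1 hij]
      exact ⟨𝟙 _, Category.comp_id _⟩
    · intro j
      refine Fin.lastCases (fun _ => ?_) (fun j hij => ?_) j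
      · rw [hDc, hDl]
        obtain ⟨u, hu⟩ := hF.nested i (Fin.last m) (Fin.le_last _)
        exact ⟨(Scheme.Modules.pullback ρ).map u ≫ q₁, by rw [← Category.assoc, quotBC_comp_eq rfl (q i) u hu]⟩
      · rw [hDc, hDc]
        obtain ⟨u, hu⟩ := hF.nested i j (Fin.castSucc_le_castSucc_iff.1 hij)
        exact ⟨(Scheme.Modules.pullback ρ).map u, quotBC_comp_eq rfl (q i) u hu⟩
  · intro T g L hL s hs hn
    obtain ⟨t, ht⟩ := hn (Fin.castSucc (Fin.last m)) (Fin.last (m + 1)) (Fin.le_last _)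
    have hn' : ∀ i j : Fin (m + 1), i ≤ j → ∃ t : L (Fin.castSucc i) ⟶ L (Fin.castSucc j),
        s (Fin.castSucc i) ≫ t = s (Fin.castSucc j) := fun i j hij => hn _ _ (Fin.castSucc_le_castSucc_iff.2 hij)
    obtain ⟨h₀, ⟨hh₀, e, he⟩, hu₀⟩ := hF.univ T g (fun i => L (Fin.castSucc i)) (fun i => hL _)
      (fun i => s (Fin.castSucc i)) (fun i => hs _) hn'
    have hepi : Epi ((e (Fin.last m)).hom ≫ t) := by
      haveI : Epi (s (Fin.castSucc (Fin.last m)) ≫ t) := by rw [ht]; exact hs _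
      haveI := epi_of_epi (s (Fin.castSucc (Fin.last m))) t
      exact epi_comp _ _
    obtain ⟨h, ⟨hh, al, hal⟩, hu₁⟩ := hG.univ T h₀ (L (Fin.last (m + 1))) (hL _) _ hepi
    have hg : h ≫ ρ ≫ π = g := by rw [← Category.assoc, hh, hh₀]
    -- the last quotient through a map over `h₀`
    have keyl : ∀ (h' : T ⟶ G) (hh' : h' ≫ ρ = h₀), quotBC hh₀ (q (Fin.last m)) ≫ quotBC hh' q₁ =
        quotBC (show h' ≫ ρ ≫ π = g by rw [← Category.assoc, hh', hh₀])
          (quotBC rfl (q (Fin.last m)) ≫ q₁) := fun h' hh' =>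
      quotBC_quotBC (π := ρ ≫ π) rfl (q (Fin.last m)) q₁ hh' hh₀
    have he' : quotBC hh₀ (q (Fin.last m)) ≫ (e (Fin.last m)).hom ≫ t = s (Fin.last (m + 1)) := by
      rw [← Category.assoc, he, ht]
    have hrel : ∀ i, ∃ a : (Scheme.Modules.pullback h).obj (D i).1 ≅ L i, quotBC hg (D i).2 ≫ a.hom = s i := by
      intro i
      refine Fin.lastCases ?_ (fun j => ?_) i
      · rw [hDl]
        refine ⟨al, ?_⟩
        rw [← keyl h hh, Category.assoc, hal, he']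
      · rw [hDc]
        haveI := isIso_quotBC hh (𝟙 ((Scheme.Modules.pullback ρ).obj (Q j)))
        refine ⟨(asIso (quotBC hh (𝟙 ((Scheme.Modules.pullback ρ).obj (Q j))))).symm ≪≫ e j, ?_⟩
        have := quotBC_quotBC (π := ρ ≫ π) rfl (q j) (𝟙 _) hh hh₀
        rw [Category.comp_id] at this
        rw [← this, Iso.trans_hom, Iso.symm_hom, asIso_inv, Category.assoc, IsIso.hom_inv_id_assoc]
        exact he j
    choose a ha using hrel
    refine ⟨h, ⟨hg, a, ha⟩, fun h' ⟨hg', b, hb⟩ => ?_⟩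
    have hh' : h' ≫ ρ = h₀ := by
      have hex : ∀ j, ∃ c : (Scheme.Modules.pullback (h' ≫ ρ)).obj (Q j) ≅ L (Fin.castSucc j),
          quotBC (show (h' ≫ ρ) ≫ π = g by rw [Category.assoc, hg']) (q j) ≫ c.hom = s (Fin.castSucc j) := fun j => by
        have h1 : ∃ c : (Scheme.Modules.pullback h').obj (D (Fin.castSucc j)).1 ≅ L (Fin.castSucc j),
            quotBC hg' (D (Fin.castSucc j)).2 ≫ c.hom = s (Fin.castSucc j) := ⟨b _, hb _⟩
        rw [hDc] at h1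
        exact rel_comp (f₁ := h') (f₂ := ρ) rfl hg' ⟨Iso.refl _, Category.comp_id _⟩ h1 _
      choose c hc using hex
      exact (hu₀ _ ⟨_, c, hc⟩).trans rfl
    have h1 : ∃ c : (Scheme.Modules.pullback h').obj (D (Fin.last (m + 1))).1 ≅ L (Fin.last (m + 1)),
        quotBC hg' (D (Fin.last (m + 1))).2 ≫ c.hom = s (Fin.last (m + 1)) := ⟨b _, hb _⟩
    rw [hDl] at h1
    obtain ⟨c, hc⟩ := h1
    refine hu₁ h' ⟨hh', c, ?_⟩
    haveI := hF.epi (Fin.last m)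
    haveI := epi_quotBC hh₀ (q (Fin.last m))
    rw [← cancel_epi (quotBC hh₀ (q (Fin.last m))), ← Category.assoc, keyl h' hh', he']
    exact hc

/-- Flag schemes of locally free modules exist. -/
theorem exists_isFlag {N : ℕ} (hE : FlatMod.IsFinLocFreeOfRank N E) : ∀ {m : ℕ} (n : Fin m → ℕ),
    ∃ (F : Scheme.{u}) (π : F ⟶ X) (Q : Fin m → F.Modules) (q : ∀ i, (Scheme.Modules.pullback π).obj E ⟶ Q i),
      IsFlag π E n Q q := by
  intro m
  induction m with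
  | zero =>
    exact fun n => ⟨X, 𝟙 X, fun i => i.elim0, fun i => i.elim0, fun i => i.elim0, fun i => i.elim0,
      fun i => i.elim0, fun T g L hL s hs hn => ⟨g, ⟨Category.comp_id _, fun i => i.elim0, fun i => i.elim0⟩,
        fun h ⟨hh, _⟩ => (Category.comp_id h).symm.trans hh⟩⟩
  | succ m ih =>
    intro n
    cases m with
    | zero =>
      obtain ⟨G, ρ, P, p, hG⟩ := exists_isGrass_locFree hE (n 0)
      have hn : n = ![n 0] := funext fun i => by rw [Fin.fin_one_eq_zero i]; rfl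
      rw [hn]
      exact ⟨G, ρ, _, _, IsFlag.of_isGrass hG⟩
    | succ m =>
      obtain ⟨F, π, Q, q, hF⟩ := ih fun i => n (Fin.castSucc i)
      obtain ⟨G, ρ, P, p, hG⟩ := exists_isGrass_locFree (hF.rank (Fin.last m)) (n (Fin.last (m + 1)))
      exact ⟨G, ρ ≫ π, exists_isFlag_snoc hF hG⟩

end

end Groth.Agent.H26Gr
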