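import Groth.Agent.H26Gr.SubQuot
import Groth.Agent.H26Gr.FlagExist
import Groth.Prelude.Def_FGA

/-!
# Representing submodules with locally free quotient
-/

set_option autoImplicit false
set_option backward.isDefEq.respectTransparency false
set_option backward.isDefEq.respectTransparency.types false

universe u

open CategoryTheory CategoryTheory.Limits AlgebraicGeometry Grass

namespace Groth.Agent.H26Gr

noncomputable section

theorem isFinLocFreeOfRank_of_iso {X : Scheme.{u}} {M N : X.Modules} (e : M ≅ N) {r : ℕ}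
    (h : FlatMod.IsFinLocFreeOfRank r M) : FlatMod.IsFinLocFreeOfRank r N := fun x =>
  let ⟨U, hx, ⟨i⟩⟩ := h x
  ⟨U, hx, ⟨((Scheme.Modules.restrictFunctor U.ι).mapIso e).symm ≪≫ i⟩⟩

theorem ET_pullback_quotBC {S : Scheme.{u}} {V : S.Modules} {T T' : Over S} (g : T' ⟶ T) {Q : (PicF.XT (𝟙 S) T).Modules}
    (q : FGA.ET (𝟙 S) V T ⟶ Q) [Epi q] :
    FGA.quotPull (𝟙 S) V g (kernelSubobject q) = kernelSubobject (quotBC (FGA.XTmap_fst (𝟙 S) g) q) := by
  haveI : (Scheme.Modules.pullback (PicF.XTmap (𝟙 S) g)).IsLeftAdjoint :=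
    (Scheme.Modules.pullbackPushforwardAdjunction _).isLeftAdjoint
  rw [FGA.quotPull, image_map_kernelSubobject]
  congr 1

theorem exists_grassmannian_subobject {S : Scheme.{u}} {n : ℕ} (r : ℕ) {V : S.Modules}
    (hV : FlatMod.IsFinLocFreeOfRank n V) :
    ∃ (G : Over S) (Q : G.left.Modules) (q : (Scheme.Modules.pullback G.hom).obj V ⟶ Q)
      (_ : IsGrass G.hom V r Q q) (K : Subobject (FGA.ET (𝟙 S) V G)),
      FlatMod.IsFinLocFreeOfRank r (cokernel K.arrow) ∧
      ∀ (T : Over S) (K' : Subobject (FGA.ET (𝟙 S) V T)),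
        FlatMod.IsFinLocFreeOfRank r (cokernel K'.arrow) → ∃! g : T ⟶ G, FGA.quotPull (𝟙 S) V g K = K' := by
  obtain ⟨G₀, π, Q, q, hG⟩ := exists_isGrass_locFree hV r
  let G : Over S := Over.mk π
  have hp : ∀ T : Over S, pullback.snd (𝟙 S) T.hom ≫ T.hom = pullback.fst (𝟙 S) T.hom := fun T => by
    rw [← pullback.condition, Category.comp_id]
  let qG := quotBC (hp G) (show (Scheme.Modules.pullback G.hom).obj V ⟶ Q from q)
  haveI := hG.epi
  haveI hqG : Epi qG := epi_quotBC _ _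
  refine ⟨G, Q, q, hG, kernelSubobject qG, ?_, fun T K' hK' => ?_⟩
  · obtain ⟨e, -⟩ := (kernelSubobject_eq_iff qG (cokernel.π (kernelSubobject qG).arrow)).1
      (kernelSubobject_cokernel_π _).symm
    exact isFinLocFreeOfRank_of_iso e (isFinLocFreeOfRank_pullback _ hG.rank)
  · have hbs : ∀ g : T ⟶ G, PicF.XTmap (𝟙 S) g ≫ pullback.snd (𝟙 S) G.hom = pullback.snd (𝟙 S) T.hom ≫ g.left :=
      fun g => by simp [PicF.XTmap, pullback.map]
    have key : ∀ g : T ⟶ G, FGA.quotPull (𝟙 S) V g (kernelSubobject qG) = K' ↔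
        ∃ (hh : (pullback.snd (𝟙 S) T.hom ≫ g.left) ≫ π = pullback.fst (𝟙 S) T.hom)
          (e : (Scheme.Modules.pullback (pullback.snd (𝟙 S) T.hom ≫ g.left)).obj Q ≅ cokernel K'.arrow),
          quotBC hh q ≫ e.hom = cokernel.π K'.arrow := by
      intro g
      have hh : (pullback.snd (𝟙 S) T.hom ≫ g.left) ≫ π = pullback.fst (𝟙 S) T.hom := by
        rw [Category.assoc, show g.left ≫ π = T.hom from Over.w g, hp]
      haveI := epi_quotBC (FGA.XTmap_fst (𝟙 S) g) qG
      rw [ET_pullback_quotBC]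
      conv_lhs => rw [← kernelSubobject_cokernel_π K']
      rw [kernelSubobject_eq_iff]
      haveI := isIso_quotBC (hbs g) (𝟙 ((Scheme.Modules.pullback (pullback.snd (𝟙 S) G.hom)).obj Q))
      have e0 : quotBC hh q ≫ quotBC (hbs g) (𝟙 ((Scheme.Modules.pullback (pullback.snd (𝟙 S) G.hom)).obj Q)) =
          quotBC (FGA.XTmap_fst (𝟙 S) g) qG := by
        have := quotBC_quotBC (π := pullback.fst (𝟙 S) G.hom) (hp G) q (𝟙 _) (hbs g) hh
        rw [Category.comp_id] at this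
        exact this
      constructor
      · rintro ⟨e, he⟩
        exact ⟨hh, asIso (quotBC (hbs g) (𝟙 _)) ≪≫ e, by rw [Iso.trans_hom, asIso_hom, ← Category.assoc, e0]; exact he⟩
      · rintro ⟨_, e, he⟩
        refine ⟨(asIso (quotBC (hbs g) (𝟙 ((Scheme.Modules.pullback (pullback.snd (𝟙 S) G.hom)).obj Q)))).symm ≪≫ e, ?_⟩
        rw [← e0, Iso.trans_hom, Iso.symm_hom, asIso_inv, Category.assoc, IsIso.hom_inv_id_assoc, he]
    obtain ⟨h, ⟨hh, e, he⟩, hu⟩ := hG.univ _ (pullback.fst (𝟙 S) T.hom) (cokernel K'.arrow) hK'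
      (cokernel.π K'.arrow) inferInstance
    let g : T ⟶ G := Over.homMk (inv (pullback.snd (𝟙 S) T.hom) ≫ h) (by
      show (_ ≫ h) ≫ π = T.hom
      rw [Category.assoc, hh, IsIso.inv_comp_eq, hp])
    have hg : pullback.snd (𝟙 S) T.hom ≫ g.left = h := IsIso.hom_inv_id_assoc _ _
    refine ⟨g, (key g).2 ?_, fun g' hg' => Over.OverMorphism.ext ?_⟩
    · rw [hg]; exact ⟨hh, e, he⟩
    · rw [← cancel_epi (pullback.snd (𝟙 S) T.hom), hg]
      exact hu _ ((key g').1 hg')

end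

end Groth.Agent.H26Gr
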