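import Groth.Prelude.Def_GrassD
import Groth.Agent.H7Lim.ModHom
import Groth.Agent.H16Derived.KFlat.FinLocFree

/-!
# Base change of quotient maps along composites
-/

set_option autoImplicit false
set_option backward.isDefEq.respectTransparency false
set_option backward.isDefEq.respectTransparency.types false

universe u

open CategoryTheory CategoryTheory.Limits AlgebraicGeometry Grass

namespace Groth.Agent.H26Gr

noncomputable section

variable {X G G' T : Scheme.{u}} {π : G ⟶ X} {π' : G' ⟶ X} {E : X.Modules} {Q : G.Modules} {Q' : G'.Modules}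

theorem quotBC_comp_map {h : T ⟶ G} {g : T ⟶ X} (hg : h ≫ π = g) (q : (Scheme.Modules.pullback π).obj E ⟶ Q)
    {P : G.Modules} (t : Q ⟶ P) : quotBC hg (q ≫ t) = quotBC hg q ≫ (Scheme.Modules.pullback h).map t := by
  simp [quotBC, Functor.map_comp]

theorem quotBC_comp_eq {h : T ⟶ G} {g : T ⟶ X} (hg : h ≫ π = g) (q : (Scheme.Modules.pullback π).obj E ⟶ Q)
    {P : G.Modules} (t : Q ⟶ P) {q' : (Scheme.Modules.pullback π).obj E ⟶ P} (e : q ≫ t = q') :
    quotBC hg q ≫ (Scheme.Modules.pullback h).map t = quotBC hg q' := by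
  rw [← quotBC_comp_map, e]

theorem epi_quotBC {h : T ⟶ G} {g : T ⟶ X} (hg : h ≫ π = g) (q : (Scheme.Modules.pullback π).obj E ⟶ Q)
    [Epi q] : Epi (quotBC hg q) := by
  have := epi_pullback_map h q
  infer_instance

/-- The base change of the identity-type iso. -/
theorem isIso_quotBC {h : T ⟶ G} {g : T ⟶ X} (hg : h ≫ π = g) (q : (Scheme.Modules.pullback π).obj E ⟶ Q)
    [IsIso q] : IsIso (quotBC hg q) := by
  infer_instance

/-- Base change along a composite in two steps. -/
theorem quotBC_quotBC {F : Scheme.{u}} {ρ : G ⟶ F} {σ : F ⟶ X} {P : F.Modules}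
    (hρ : ρ ≫ σ = π) (q : (Scheme.Modules.pullback σ).obj E ⟶ P)
    (u : (Scheme.Modules.pullback ρ).obj P ⟶ Q)
    {h : T ⟶ G} {g : T ⟶ F} (hg : h ≫ ρ = g) {g' : T ⟶ X} (hg' : g ≫ σ = g') :
    quotBC hg' q ≫ quotBC hg u =
      quotBC (show h ≫ π = g' by rw [← hρ, ← Category.assoc, hg, hg']) (quotBC hρ q ≫ u) := by
  subst hρ hg hg'
  have hc := H7Lim.ModHom.coh3 h ρ σ E (p := h ≫ ρ) (π := (h ≫ ρ) ≫ σ) (q := ρ ≫ σ) rfl rfl rfl
    (Category.assoc _ _ _).symm
  simp only [Iso.trans_hom, NatTrans.comp_app] at hc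
  simp only [quotBC, Functor.map_comp, Category.assoc]
  simp only [Scheme.Modules.pullbackCongr, eqToIso.inv, eqToIso.hom, eqToHom_refl, eqToHom_app, NatTrans.id_app,
    Category.id_comp, Category.comp_id] at hc ⊢
  have hnat' : (Scheme.Modules.pullback (h ≫ ρ)).map q ≫ (Scheme.Modules.pullbackComp h ρ).inv.app P =
        (Scheme.Modules.pullbackComp h ρ).inv.app ((Scheme.Modules.pullback σ).obj E) ≫
          (Scheme.Modules.pullback h).map ((Scheme.Modules.pullback ρ).map q) :=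
    (Scheme.Modules.pullbackComp h ρ).inv.naturality q
  rw [reassoc_of% hnat']
  simp only [← Category.assoc]
  congr 2
  have hc' := congrArg (fun t => (Scheme.Modules.pullbackComp (h ≫ ρ) σ).inv.app E ≫
    (Scheme.Modules.pullbackComp h ρ).inv.app ((Scheme.Modules.pullback σ).obj E) ≫ t) hc
  simp only [Iso.inv_hom_id_app_assoc, Iso.inv_hom_id_app] at hc'
  erw [CategoryTheory.Functor.map_id, Category.comp_id]; rw [
    ← cancel_mono ((Scheme.Modules.pullback h).map ((Scheme.Modules.pullbackComp ρ σ).hom.app E)),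
    ← cancel_mono ((Scheme.Modules.pullbackComp h (ρ ≫ σ)).hom.app E)]
  simp only [Category.assoc, hc']
  rw [← Functor.map_comp_assoc, Iso.inv_hom_id_app, CategoryTheory.Functor.map_id]
  erw [Category.id_comp, Iso.inv_hom_id_app]
  rfl

theorem isFinLocFreeOfRank_pullback (f : T ⟶ G) {r : ℕ} {M : G.Modules} (hM : FlatMod.IsFinLocFreeOfRank r M) :
    FlatMod.IsFinLocFreeOfRank r ((Scheme.Modules.pullback f).obj M) := fun x => by
  obtain ⟨V, hx, ⟨e⟩⟩ := hM (f.base x)
  exact ⟨f ⁻¹ᵁ V, hx, ⟨(H16Derived.KFlat.Stalk.pullbackRestrictIso f V).app M ≪≫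
    (Scheme.Modules.pullback (f ∣_ V)).mapIso e ≪≫ H16Derived.KFlat.Stalk.freeModPullbackIso (f ∣_ V) r⟩⟩

end

end Groth.Agent.H26Gr
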