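import Groth.Agent.H26Gr.Descent
import Groth.Agent.H06EGA12.BaseChangePD
import Mathlib.LinearAlgebra.TensorProduct.Basis
import Mathlib.LinearAlgebra.StdBasis
import Mathlib.RingTheory.MvPolynomial.Basic

/-!
# The standard charts of the Grassmannian of a free module
-/

set_option autoImplicit false
set_option backward.isDefEq.respectTransparency false
set_option backward.isDefEq.respectTransparency.types false

universe u

open TensorProduct

namespace Groth.Agent.H26Gr

variable (R : Type u) [CommRing R] {n k : ℕ} (s : Fin k ↪ Fin n)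

/-- The indices outside the chart. -/
abbrev Jc : Type := {i : Fin n // i ∉ Set.range s}

section

variable (A : Type u) [CommRing A] [Algebra R A]

/-- The basis of the free module. -/
noncomputable abbrev bb : Module.Basis (Fin n) A (A ⊗[R] (Fin n → R)) := (Pi.basisFun R (Fin n)).baseChange A

variable {R A}

/-- The matrix of a point of a chart. -/
noncomputable def wmat (x : Jc s × Fin k → A) (i : Fin n) : Fin k → A := fun j =>
  open Classical in if h : i ∈ Set.range s then (if s j = i then 1 else 0) else x (⟨i, h⟩, j)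

theorem wmat_emb (x : Jc s × Fin k → A) (j : Fin k) : wmat s x (s j) = Pi.single j 1 := by
  funext l
  simp [wmat, Pi.single_apply]

theorem wmat_out (x : Jc s × Fin k → A) (i : Jc s) (j : Fin k) : wmat s x i.1 j = x (i, j) := by
  simp [wmat, i.2]

variable (R)

/-- The quotient map of a point of a chart. -/
noncomputable def piMap (x : Jc s × Fin k → A) : A ⊗[R] (Fin n → R) →ₗ[A] (Fin k → A) :=
  (bb R A).constr A (wmat s x)

/-- The section of `piMap`. -/
noncomputable def secMap : (Fin k → A) →ₗ[A] A ⊗[R] (Fin n → R) :=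
  Fintype.linearCombination A (fun j => bb R A (s j))

theorem secMap_single (j : Fin k) : secMap R s (Pi.single j (1 : A)) = bb R A (s j) := by
  simp [secMap, Fintype.linearCombination_apply_single]

theorem piMap_bb (x : Jc s × Fin k → A) (i : Fin n) : piMap R s x (bb R A i) = wmat s x i :=
  (bb R A).constr_basis A _ i

theorem piMap_secMap (x : Jc s × Fin k → A) (v : Fin k → A) : piMap R s x (secMap R s v) = v := by
  have h : piMap R s x ∘ₗ secMap R s = LinearMap.id := (Pi.basisFun A (Fin k)).ext fun j => by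
    rw [Pi.basisFun_apply, LinearMap.comp_apply, secMap_single, piMap_bb, wmat_emb, LinearMap.id_apply]
  exact congr($h v)

/-- The point of the Grassmannian with given coordinates in a chart. -/
noncomputable def chartPt (x : Jc s × Fin k → A) : Module.Grassmannian A (A ⊗[R] (Fin n → R)) k :=
  let e := (piMap R s x).quotKerEquivOfSurjective fun v => ⟨secMap R s v, piMap_secMap R s x v⟩
  { toSubmodule := LinearMap.ker (piMap R s x)
    finite_quotient := Module.Finite.equiv e.symm
    projective_quotient := Module.Projective.of_equiv e.symm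
    rankAtStalk_eq := fun p => by
      haveI : Nontrivial A := ⟨⟨0, 1, fun h => p.isPrime.ne_top (Ideal.eq_top_iff_one _ |>.2 (h ▸ p.asIdeal.zero_mem))⟩⟩
      rw [Module.rankAtStalk_eq_of_equiv e, Module.rankAtStalk_eq_finrank_of_free]
      simp }

/-- The chart condition. -/
def InChart (N : Module.Grassmannian A (A ⊗[R] (Fin n → R)) k) : Prop :=
  N.toSubmodule ⊔ Submodule.span A (Set.range fun j => bb R A (s j)) = ⊤

theorem inChart_chartPt (x : Jc s × Fin k → A) : InChart R s (chartPt R s x) := by
  refine eq_top_iff.2 fun v _ => ?_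
  have h1 : secMap R s (piMap R s x v) ∈ Submodule.span A (Set.range fun j => bb R A (s j)) := by
    rw [secMap, Fintype.linearCombination_apply]
    exact Submodule.sum_mem _ fun j _ => Submodule.smul_mem _ _ (Submodule.subset_span ⟨j, rfl⟩)
  have h2 : v - secMap R s (piMap R s x v) ∈ LinearMap.ker (piMap R s x) := by
    rw [LinearMap.mem_ker, map_sub, piMap_secMap, sub_self]
  exact Submodule.mem_sup.2 ⟨_, h2, _, h1, sub_add_cancel _ _⟩

theorem chartPt_injective : Function.Injective (chartPt R s (A := A)) := by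
  intro x x' h
  funext ⟨i, j⟩
  have hk : LinearMap.ker (piMap R s x) = LinearMap.ker (piMap R s x') :=
    congrArg Module.Grassmannian.toSubmodule h
  have hm : bb R A i.1 - secMap R s (piMap R s x (bb R A i.1)) ∈ LinearMap.ker (piMap R s x) := by
    rw [LinearMap.mem_ker, map_sub, piMap_secMap, sub_self]
  rw [hk, LinearMap.mem_ker, map_sub, piMap_secMap, sub_eq_zero, piMap_bb, piMap_bb] at hm
  rw [← wmat_out s x, ← wmat_out s x', hm]

theorem exists_chartPt_eq {N : Module.Grassmannian A (A ⊗[R] (Fin n → R)) k} (hN : InChart R s N) :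
    ∃ x, chartPt R s x = N := by
  let Q := (A ⊗[R] (Fin n → R)) ⧸ N.toSubmodule
  let ρ : (Fin k → A) →ₗ[A] Q := N.toSubmodule.mkQ ∘ₗ secMap R s
  have hρ : Function.Surjective ρ := fun q => by
    obtain ⟨v, rfl⟩ := N.toSubmodule.mkQ_surjective q
    have hv : v ∈ N.toSubmodule ⊔ Submodule.span A (Set.range fun j => bb R A (s j)) := hN ▸ Submodule.mem_top
    obtain ⟨a, ha, b, hb, rfl⟩ := Submodule.mem_sup.1 hv
    obtain ⟨c, rfl⟩ := (Submodule.mem_span_range_iff_exists_fun A).1 hb
    refine ⟨c, ?_⟩
    simp only [ρ, secMap, LinearMap.comp_apply, Fintype.linearCombination_apply, map_add, Submodule.mkQ_apply,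
      (Submodule.Quotient.mk_eq_zero _).2 ha, zero_add]
    rfl
  obtain ⟨σ, hσ⟩ := Module.projective_lifting_property ρ LinearMap.id hρ
  have hσ' : Function.Injective σ := fun a b h => by simpa [show ∀ q, ρ (σ q) = q from fun q => congr($hσ q)] using congrArg ρ h
  -- the kernel has rank zero
  let K := LinearMap.ker ρ
  let eK : (Fin k → A) ≃ₗ[A] K × Q :=
    { toFun := fun v => (⟨v - σ (ρ v), by
          show ρ (v - σ (ρ v)) = 0
          rw [map_sub, show ρ (σ (ρ v)) = ρ v from congr($hσ (ρ v)), sub_self]⟩, ρ v)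
      invFun := fun p => p.1.1 + σ p.2
      map_add' := fun a b => Prod.ext (Subtype.ext (show a + b - σ (ρ (a + b)) = (a - σ (ρ a)) + (b - σ (ρ b)) by rw [map_add, map_add]; abel)) (map_add ρ a b)
      map_smul' := fun c a => Prod.ext (Subtype.ext (by simp [map_smul, smul_sub])) (map_smul ρ c a)
      left_inv := fun v => sub_add_cancel v _
      right_inv := fun p => by
        have h1 : ρ (p.1.1 + σ p.2) = p.2 := by
          rw [map_add, show ρ p.1.1 = 0 from p.1.2, zero_add]
          exact congr($hσ p.2)
        exact Prod.ext (Subtype.ext (by simp only [h1, add_sub_cancel_right])) h1 }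
  haveI : Module.Finite A K := Module.Finite.of_surjective ((LinearMap.fst A K Q) ∘ₗ eK.toLinearMap)
    fun q => ⟨eK.symm (q, 0), by simp⟩
  haveI : Module.Projective A K := Module.Projective.of_split (LinearMap.ker ρ).subtype
    ((LinearMap.fst A K Q) ∘ₗ eK.toLinearMap) (LinearMap.ext fun q => Subtype.ext (by
      show q.1 - σ (ρ q.1) = q.1
      rw [show ρ q.1 = 0 from q.2, map_zero, sub_zero]))
  have hK : Module.rankAtStalk (R := A) K = 0 := by
    funext p
    haveI : Nontrivial A := ⟨⟨0, 1, fun h => p.isPrime.ne_top (Ideal.eq_top_iff_one _ |>.2 (h ▸ p.asIdeal.zero_mem))⟩⟩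
    have h := congrFun ((Module.rankAtStalk_eq_of_equiv eK).symm.trans
      (Module.rankAtStalk_eq_finrank_of_free (R := A) (M := Fin k → A))) p
    rw [Module.rankAtStalk_prod, Pi.add_apply, show Module.rankAtStalk (R := A) Q p = k from N.rankAtStalk_eq p] at h
    simpa using h
  haveI := Module.rankAtStalk_eq_zero_iff_subsingleton.1 hK
  have hinj : Function.Injective ρ := LinearMap.ker_eq_bot.1 (Submodule.eq_bot_of_subsingleton)
  let e := LinearEquiv.ofBijective ρ ⟨hinj, hρ⟩
  refine ⟨fun p => e.symm (N.toSubmodule.mkQ (bb R A p.1.1)) p.2, Module.Grassmannian.ext ?_⟩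
  have hmk : N.toSubmodule.mkQ = ρ ∘ₗ piMap R s (fun p => e.symm (N.toSubmodule.mkQ (bb R A p.1.1)) p.2) := by
    refine (bb R A).ext fun i => ?_
    rw [LinearMap.comp_apply, piMap_bb]
    by_cases h : i ∈ Set.range s
    · obtain ⟨j, rfl⟩ := h
      rw [wmat_emb]
      show _ = N.toSubmodule.mkQ (secMap R s (Pi.single j 1))
      rw [secMap_single]
    · conv_lhs => rw [← e.apply_symm_apply (N.toSubmodule.mkQ (bb R A i))]
      exact congrArg ρ (funext fun j => (wmat_out s (fun p => e.symm (N.toSubmodule.mkQ (bb R A p.1.1)) p.2) ⟨i, h⟩ j).symm)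
  show LinearMap.ker (piMap R s _) = N.toSubmodule
  refine Eq.trans ?_ ((congrArg LinearMap.ker hmk).symm.trans N.toSubmodule.ker_mkQ)
  rw [LinearMap.ker_comp, LinearMap.ker_eq_bot.2 hinj, Submodule.comap_bot]

variable {C : Type u} [CommRing C] [Algebra R C]

theorem bc_smul (φ : A →ₐ[R] C) (a : A) (v : A ⊗[R] (Fin n → R)) :
    bc (Fin n → R) φ (a • v) = φ a • bc (Fin n → R) φ v := by
  induction v using TensorProduct.induction_on with
  | zero => simp
  | tmul b m => simp [bc, smul_tmul']
  | add x y hx hy => simp only [smul_add, map_add, hx, hy]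

theorem bc_bb (φ : A →ₐ[R] C) (i : Fin n) : bc (Fin n → R) φ (bb R A i) = bb R C i := by
  simp [bb, bc]

theorem piMap_bc (φ : A →ₐ[R] C) (x : Jc s × Fin k → A) (v : A ⊗[R] (Fin n → R)) :
    piMap R s (φ ∘ x) (bc (Fin n → R) φ v) = φ ∘ piMap R s x v := by
  rw [← (bb R A).sum_repr v]
  simp only [map_sum, bc_smul, bc_bb, map_smul, piMap_bb]
  funext j
  simp only [Finset.sum_apply, Pi.smul_apply, Function.comp_apply, map_sum, smul_eq_mul, map_mul]
  refine Finset.sum_congr rfl fun i _ => ?_
  congr 1
  unfold wmat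
  split_ifs <;> simp

theorem map_chartPt (φ : A →ₐ[R] C) (x : Jc s × Fin k → A) :
    Module.Grassmannian.map φ (chartPt R s x) = chartPt R s (φ ∘ x) := by
  refine Module.Grassmannian.ext ?_
  rw [map_toSubmodule_eq_span]
  refine le_antisymm (Submodule.span_le.2 ?_) fun z hz => ?_
  · rintro _ ⟨v, hv, rfl⟩
    show piMap R s (φ ∘ x) _ = 0
    rw [piMap_bc, show piMap R s x v = 0 from hv]
    funext j
    exact map_zero φ
  · have hz' : z = ∑ i, ((bb R C).repr z i) • (bb R C i - secMap R s (piMap R s (φ ∘ x) (bb R C i))) := by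
      simp only [smul_sub, ← map_smul, Finset.sum_sub_distrib, ← map_sum, (bb R C).sum_repr z]
      rw [show piMap R s (φ ∘ x) z = 0 from hz, map_zero, sub_zero]
    rw [hz']
    refine Submodule.sum_mem _ fun i _ => Submodule.smul_mem _ _ (Submodule.subset_span
      ⟨bb R A i - secMap R s (piMap R s x (bb R A i)), ?_, ?_⟩)
    · show piMap R s x _ = 0
      rw [map_sub, piMap_secMap, sub_self]
    · rw [map_sub, bc_bb, ← bc_bb R φ i, piMap_bc, bc_bb]
      congr 1
      simp only [secMap, Fintype.linearCombination_apply, map_sum, bc_smul, bc_bb, Function.comp_apply]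

/-- The cokernel measuring the failure of the chart condition. -/
abbrev Coker (N : Module.Grassmannian A (A ⊗[R] (Fin n → R)) k) : Type u :=
  (A ⊗[R] (Fin n → R)) ⧸ (N.toSubmodule ⊔ Submodule.span A (Set.range fun j => bb R A (s j)))

theorem inChart_map_iff (φ : A →ₐ[R] C) (N : Module.Grassmannian A (A ⊗[R] (Fin n → R)) k) :
    InChart R s (Module.Grassmannian.map φ N) ↔
      ∀ q : PrimeSpectrum C, PrimeSpectrum.comap φ.toRingHom q ∉ Module.support A (Coker R s N) := by
  let : Algebra A C := φ.toRingHom.toAlgebra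
  let : IsScalarTower R A C := IsScalarTower.of_algebraMap_eq fun r => (φ.commutes r).symm
  let K := N.toSubmodule ⊔ Submodule.span A (Set.range fun j => bb R A (s j))
  have hφ : φ = IsScalarTower.toAlgHom R A C := AlgHom.ext fun a => rfl
  have hK : Submodule.span C (bcA R C (Fin n → R) '' (K : Set (A ⊗[R] (Fin n → R)))) =
      (Module.Grassmannian.map φ N).toSubmodule ⊔ Submodule.span C (Set.range fun j => bb R C (s j)) := by
    rw [← bcA_image, ← hφ, map_toSubmodule_eq_span, ← Submodule.span_union]
    refine le_antisymm (Submodule.span_le.2 ?_) (Submodule.span_le.2 ?_)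
    · rintro _ ⟨v, hv, rfl⟩
      obtain ⟨a, ha, b, hb, rfl⟩ := Submodule.mem_sup.1 hv
      rw [map_add]
      refine add_mem (Submodule.subset_span (Or.inl ⟨a, ha, rfl⟩)) ?_
      obtain ⟨c, rfl⟩ := (Submodule.mem_span_range_iff_exists_fun A).1 hb
      rw [map_sum]
      refine Submodule.sum_mem _ fun j _ => ?_
      rw [bc_smul, bc_bb]
      exact Submodule.smul_mem _ _ (Submodule.subset_span (Or.inr ⟨j, rfl⟩))
    · rintro _ (⟨v, hv, rfl⟩ | ⟨j, rfl⟩)
      · exact Submodule.subset_span ⟨v, Submodule.mem_sup_left hv, rfl⟩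
      · exact Submodule.subset_span ⟨bb R A (s j),
          Submodule.mem_sup_right (Submodule.subset_span ⟨j, rfl⟩), bc_bb R φ _⟩
  rw [InChart, ← hK, ← ker_baseChangeMkQ_eq_span, LinearMap.ker_eq_top]
  have hsurj := Module.Grassmannian.baseChangeMkQ_surjective (B := C) K
  have h0 : Module.Grassmannian.baseChangeMkQ C K = 0 ↔ Subsingleton (C ⊗[A] Coker R s N) := by
    constructor
    · intro h
      exact subsingleton_of_forall_eq 0 fun y => by
        obtain ⟨z, rfl⟩ := hsurj y
        exact congr($h z)
    · intro h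
      exact LinearMap.ext fun z => Subsingleton.elim (α := C ⊗[A] Coker R s N) _ _
  rw [h0, ← Module.support_eq_empty_iff (R := C), Set.eq_empty_iff_forall_notMem]
  exact forall_congr' fun q => not_congr (H06EGA12.mem_support_baseChange_iff (Coker R s N) q)

theorem inChart_iff (N : Module.Grassmannian A (A ⊗[R] (Fin n → R)) k) :
    InChart R s N ↔ ∀ q : PrimeSpectrum A, q ∉ Module.support A (Coker R s N) := by
  rw [InChart, ← Submodule.Quotient.subsingleton_iff, ← Module.support_eq_empty_iff (R := A),
    Set.eq_empty_iff_forall_notMem]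

end

/-- Over a field every point lies in some chart. -/
theorem exists_inChart_of_field (K : Type u) [Field K] [Algebra R K]
    (N : Module.Grassmannian K (K ⊗[R] (Fin n → R)) k) : ∃ s : Fin k ↪ Fin n, InChart R s N := by
  let Q := (K ⊗[R] (Fin n → R)) ⧸ N.toSubmodule
  let f : Fin n → Q := fun i => N.toSubmodule.mkQ (bb R K i)
  have hspan : Submodule.span K (Set.range f) = ⊤ := by
    rw [show f = N.toSubmodule.mkQ ∘ bb R K from rfl, Set.range_comp, ← Submodule.map_span, Module.Basis.span_eq,
      Submodule.map_top, Submodule.range_mkQ]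
  have hd : Module.finrank K Q = k := by
    have h := N.rankAtStalk_eq ⟨⊥, Ideal.isPrime_bot⟩
    rw [Module.rankAtStalk_eq_finrank_of_free] at h
    exact h
  obtain ⟨g, hg, hgs, hli⟩ := Submodule.exists_fun_fin_finrank_span_eq K (Set.range f)
  have hd' : Module.finrank K (Submodule.span K (Set.range f)) = k := by rw [hspan, finrank_top, hd]
  choose a ha using hg
  have hainj : Function.Injective a := fun i i' h => hli.injective (by rw [← ha, ← ha, h])
  let e := finCongr hd'.symm
  refine ⟨⟨fun j => a (e j), fun j j' h => e.injective (hainj h)⟩, ?_⟩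
  refine eq_top_iff.2 fun v _ => ?_
  have hv : N.toSubmodule.mkQ v ∈ Submodule.span K (Set.range g) := by rw [hgs, hspan]; exact Submodule.mem_top
  obtain ⟨c, hc⟩ := (Submodule.mem_span_range_iff_exists_fun K).1 hv
  refine Submodule.mem_sup.2 ⟨v - ∑ l, c l • bb R K (a l), ?_, ∑ l, c l • bb R K (a l), ?_, sub_add_cancel _ _⟩
  · rw [← Submodule.Quotient.mk_eq_zero, ← Submodule.mkQ_apply, map_sub, map_sum, sub_eq_zero, ← hc]
    refine Finset.sum_congr rfl fun l _ => ?_
    rw [map_smul, show N.toSubmodule.mkQ (bb R K (a l)) = g l from ha l]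
  · exact Submodule.sum_mem _ fun l _ => Submodule.smul_mem _ _ (Submodule.subset_span
      ⟨e.symm l, by show bb R K (a (e (e.symm l))) = _; rw [Equiv.apply_symm_apply]⟩)

end Groth.Agent.H26Gr
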