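import Groth.Agent.H26Gr.Kers
import Groth.Agent.H16Derived.KFlat.FlatCover

/-!
# A quotient with prescribed kernels on stalks
-/

set_option autoImplicit false
set_option backward.isDefEq.respectTransparency false
set_option backward.isDefEq.respectTransparency.types false

universe u

open CategoryTheory CategoryTheory.Limits AlgebraicGeometry
open Groth.Agent.H06Mod

namespace Groth.Agent.H26Gr

noncomputable section

variable {X : Scheme.{u}} {M : X.Modules}

/-- A family of submodules of stalks given locally by sections is the kernel of a quotient. -/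
theorem exists_quot_of_family (K : ∀ x : X, Submodule (X.presheaf.stalk x) (M.presheaf.stalk x))
    (h : ∀ x, ∀ m ∈ K x, ∃ (V : X.Opens) (hx : x ∈ V) (t : Γ(M, V)),
      M.presheaf.germ V x hx t = m ∧ ∀ (y : X) (hy : y ∈ V), M.presheaf.germ V y hy t ∈ K y) :
    ∃ (L : X.Modules) (s : M ⟶ L), Epi s ∧ kers s = K := by
  let κ : ∀ x : X, M ⟶ sky x (M.presheaf.stalk x ⧸ K x) := fun x => homOfStalk (K x).mkQ
  let Φ : M ⟶ ∏ᶜ fun x => sky x (M.presheaf.stalk x ⧸ K x) := Pi.lift κ
  refine ⟨cokernel (kernel.ι Φ), cokernel.π (kernel.ι Φ), inferInstance, funext fun x => le_antisymm ?_ ?_⟩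
  · -- the kernel consists of the given submodule
    intro m hm
    obtain ⟨U, hU, a, rfl⟩ := M.presheaf.exists_germ_eq m
    have hker : M.presheaf.germ U x hU a ∈ LinearMap.range (stalkLin (kernel.ι Φ) x) := by
      have hS : (ShortComplex.mk (kernel.ι Φ) (cokernel.π (kernel.ι Φ)) (cokernel.condition _)).ShortExact :=
        { exact := ShortComplex.exact_cokernel _ }
      exact (stalk_exact _ hS x _).1 hm
    obtain ⟨k, hk⟩ := hker
    have h0 : stalkLin (κ x) x (M.presheaf.germ U x hU a) = 0 := by
      rw [← hk, ← stalkLin_comp_apply, show kernel.ι Φ ≫ κ x = 0 by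
        rw [show κ x = Φ ≫ Pi.π _ x from (Pi.lift_π κ x).symm, kernel.condition_assoc, zero_comp],
        stalkLin_zero_apply]
    rw [stalkLin_germ] at h0
    obtain ⟨V, hxV, i, j, hij⟩ := TopCat.Presheaf.germ_eq _ x hU hU _ _ (h0.trans (map_zero _).symm)
    rw [map_zero] at hij
    have h1 : (κ x).app V (M.presheaf.map i.op a) = 0 := (H11Tilde.app_map_apply (κ x) (leOfHom i) a).trans hij
    have h2 := congrArg (skyEval x (M.presheaf.stalk x ⧸ K x) V hxV) h1
    rw [skyEval_homOfStalk, map_zero, TopCat.Presheaf.germ_res_apply] at h2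
    exact (Submodule.Quotient.mk_eq_zero _).1 h2
  · intro m hm
    obtain ⟨V, hxV, t, rfl, ht⟩ := h x m hm
    let a : H16Derived.KFlat.Stalk.gen V ⟶ M := (H16Derived.KFlat.Stalk.genEquiv V M).symm t
    have hat : a.app V (H16Derived.KFlat.Stalk.genSect V) = t := by
      rw [← H16Derived.KFlat.Stalk.genEquiv_eq, Equiv.apply_symm_apply]
    have ha : a ≫ Φ = 0 := by
      refine Pi.hom_ext _ _ fun y => ?_
      rw [Category.assoc, Pi.lift_π, zero_comp]
      refine (H16Derived.KFlat.Stalk.genEquiv V _).injective ?_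
      rw [H16Derived.KFlat.Stalk.genEquiv_eq, H16Derived.KFlat.Stalk.genEquiv_eq]
      refine skyEval_ext (N := M.presheaf.stalk y ⧸ K y) y fun hy => ?_
      show skyEval y _ V hy ((κ y).app V (a.app V (H16Derived.KFlat.Stalk.genSect V))) =
        skyEval y (M.presheaf.stalk y ⧸ K y) V hy 0
      rw [hat, skyEval_homOfStalk, map_zero]
      exact (Submodule.Quotient.mk_eq_zero _).2 (ht y hy)
    rw [mem_kers, ← hat, ← stalkLin_germ, ← kernel.lift_ι Φ a ha, ← stalkLin_comp_apply, Category.assoc,
      cokernel.condition, comp_zero, stalkLin_zero_apply]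

end

end Groth.Agent.H26Gr
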