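import Groth.Agent.H26Gr.QFun
import Groth.Agent.H26Gr.SubFam
import Groth.Agent.H11Sym.BundleTaut
import Groth.Agent.H17.StalkTransfer

/-!
# Locally free quotients glue along open coverings
-/

set_option autoImplicit false
set_option backward.isDefEq.respectTransparency false
set_option backward.isDefEq.respectTransparency.types false

universe u

open CategoryTheory CategoryTheory.Limits AlgebraicGeometry Grass Opposite
open Groth.Agent.H06Mod

namespace Groth.Agent.H26Gr

noncomputable section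

theorem pullStalk_comp_apply {A B C : Scheme.{u}} (a : A ⟶ B) (p : B ⟶ C) (M : C.Modules) (w : A)
    (m : M.presheaf.stalk (p (a w))) :
    stalkLin ((Scheme.Modules.pullbackComp a p).inv.app M) w (pullStalk (a ≫ p) M w m) =
      pullStalk a ((Scheme.Modules.pullback p).obj M) w (pullStalk p M (a w) m) := by
  obtain ⟨U, hU, t, rfl⟩ := M.presheaf.exists_germ_eq m
  rw [show pullStalk (a ≫ p) M w (M.presheaf.germ U (p (a w)) hU t) = _ from pullStalk_germ (a ≫ p) M w U hU t,
    stalkLin_germ, pullStalk_germ p M (a w) U hU t]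
  erw [pullStalk_germ a _ w (p ⁻¹ᵁ U) hU (OmegaSh.pullSect p M U t), ← H11Sym.pullSect_comp a p M U t]
  rfl

variable {X : Scheme.{u}} {E : X.Modules} {r : ℕ} {T T' T'' : Over X}

variable (E) in
/-- The comparison of inverse images along a morphism over the base. -/
abbrev uIso (p : T' ⟶ T) :
    (Scheme.Modules.pullback T'.hom).obj E ⟶ (Scheme.Modules.pullback p.left).obj ((Scheme.Modules.pullback T.hom).obj E) :=
  quotBC (Over.w p) (𝟙 _)

/-- Corresponding elements of stalks along a morphism over the base. -/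
def Tr (p : T' ⟶ T) (y : T'.left) (v : ((Scheme.Modules.pullback T'.hom).obj E).presheaf.stalk y)
    (m : ((Scheme.Modules.pullback T.hom).obj E).presheaf.stalk (p.left y)) : Prop :=
  stalkLin (uIso E p) y v = pullStalk p.left ((Scheme.Modules.pullback T.hom).obj E) y m

theorem Tr.congr {p p' : T' ⟶ T} (h : p = p') {y : T'.left}
    {v : ((Scheme.Modules.pullback T'.hom).obj E).presheaf.stalk y}
    {m : ((Scheme.Modules.pullback T.hom).obj E).presheaf.stalk (p.left y)} (hm : Tr p y v m)
    (e : p.left y = p'.left y) : Tr p' y v (e ▸ m) := by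
  subst h
  exact hm

theorem Tr.comp {a : T'' ⟶ T'} {p : T' ⟶ T} {w : T''.left}
    {v' : ((Scheme.Modules.pullback T''.hom).obj E).presheaf.stalk w}
    {v : ((Scheme.Modules.pullback T'.hom).obj E).presheaf.stalk (a.left w)}
    {m : ((Scheme.Modules.pullback T.hom).obj E).presheaf.stalk (p.left (a.left w))}
    (h₁ : Tr a w v' v) (h₂ : Tr p (a.left w) v m) : Tr (a ≫ p) w v' m := by
  let M := (Scheme.Modules.pullback T.hom).obj E
  let C := (Scheme.Modules.pullbackComp a.left p.left).inv.app M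
  have key : uIso E (a ≫ p) ≫ C = uIso E a ≫ (Scheme.Modules.pullback a.left).map (uIso E p) := by
    have h := quotBC_quotBC (π := T'.hom) (Over.w p) (𝟙 M) (𝟙 ((Scheme.Modules.pullback p.left).obj M))
      (rfl : a.left ≫ p.left = a.left ≫ p.left) (g' := T''.hom) (Over.w (a ≫ p))
    rw [← quotBC_comp_map, Category.id_comp]
    rw [Category.comp_id] at h
    refine Eq.trans ?_ h
    congr 1
    simp [quotBC, Scheme.Modules.pullbackCongr, C]
  have hC : Function.Injective (stalkLin C w) := ((H8Props.FunDescent.isIso_iff C).1 inferInstance w).1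
  unfold Tr at h₁ h₂ ⊢
  refine hC ?_
  refine (stalkLin_comp_apply (uIso E (a ≫ p)) C w v').symm.trans ?_
  rw [key, stalkLin_comp_apply, h₁]
  refine (pullStalk_naturality a.left _ w (uIso E p) v).trans ?_
  refine (congrArg _ h₂).trans ?_
  exact (pullStalk_comp_apply a.left p.left M w m).symm

theorem isIso_uIso (p : T' ⟶ T) : IsIso (uIso E p) := isIso_quotBC _ _

theorem stalk_uIso_bijective (p : T' ⟶ T) (y : T'.left) : Function.Bijective (stalkLin (uIso E p) y) :=
  (H8Props.FunDescent.isIso_iff _).1 (isIso_uIso p) y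

theorem Tr.add {p : T' ⟶ T} {y : T'.left} {v v'} {m m' : ((Scheme.Modules.pullback T.hom).obj E).presheaf.stalk (p.left y)}
    (h : Tr p y v m) (h' : Tr p y v' m') : Tr p y (v + v') (m + m') :=
  (map_add _ v v').trans ((congrArg₂ (· + ·) h h').trans (map_add _ m m').symm)

theorem Tr.smul {p : T' ⟶ T} {y : T'.left} {v} {m : ((Scheme.Modules.pullback T.hom).obj E).presheaf.stalk (p.left y)}
    (c : T.left.presheaf.stalk (p.left y)) (h : Tr p y v m) :
    Tr p y ((p.left.stalkMap y).hom c • v) (c • m) :=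
  (map_smul _ _ v).trans ((congrArg _ h).trans (pullStalk_smul p.left _ y c m).symm)

theorem exists_tr (p : T' ⟶ T) (y : T'.left) (m : ((Scheme.Modules.pullback T.hom).obj E).presheaf.stalk (p.left y)) :
    ∃ v, Tr p y v m :=
  (stalk_uIso_bijective p y).2 _

theorem Tr.unique {p : T' ⟶ T} {y : T'.left} {v v'} {m : ((Scheme.Modules.pullback T.hom).obj E).presheaf.stalk (p.left y)}
    (h : Tr p y v m) (h' : Tr p y v' m) : v = v' :=
  (stalk_uIso_bijective p y).1 (h.trans h'.symm)

theorem exists_tr' (p : T' ⟶ T) [IsOpenImmersion p.left] (y : T'.left)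
    (v : ((Scheme.Modules.pullback T'.hom).obj E).presheaf.stalk y) : ∃ m, Tr p y v m :=
  let ⟨m, hm⟩ := (H17.StalkTransfer.pullStalk_bijective p.left ((Scheme.Modules.pullback T.hom).obj E) y).2 (stalkLin (uIso E p) y v)
  ⟨m, hm.symm⟩

/-- Membership in a base change along an open immersion. -/
theorem Tr.mem_map_iff {p : T' ⟶ T} [IsOpenImmersion p.left] {y : T'.left} {v}
    {m : ((Scheme.Modules.pullback T.hom).obj E).presheaf.stalk (p.left y)}
    (h : Tr p y v m) (K : QSet E r T) : v ∈ (QSet.map p K).1 y ↔ m ∈ K.1 (p.left y) := by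
  obtain ⟨L, s, hL, hs, rfl⟩ := K.exists_mk
  rw [QSet.map_mk]
  show v ∈ kers (quotBC (Over.w p) s) y ↔ m ∈ kers s (p.left y)
  rw [mem_kers, mem_kers, show quotBC (Over.w p) s = uIso E p ≫ (Scheme.Modules.pullback p.left).map s by
    rw [← quotBC_comp_map, Category.id_comp], stalkLin_comp_apply]
  unfold Tr at h
  rw [h]
  refine Iff.trans (Eq.to_iff (congrArg (· = 0) (pullStalk_naturality p.left _ y s m))) ?_
  exact ⟨fun h0 => (H17.StalkTransfer.pullStalk_bijective p.left L y).1 (h0.trans (map_zero _).symm),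
    fun h0 => (congrArg _ h0).trans (map_zero _)⟩

/-- Finite locally free of a given rank is local for open immersions. -/
theorem isFinLocFreeOfRank_of_cover {S : Scheme.{u}} {κ : Type*} {C : κ → Scheme.{u}} (π : ∀ i, C i ⟶ S)
    [∀ i, IsOpenImmersion (π i)] (hc : ∀ x : S, ∃ i, x ∈ Set.range (π i)) {L : S.Modules}
    (h : ∀ i, FlatMod.IsFinLocFreeOfRank r ((Scheme.Modules.pullback (π i)).obj L)) :
    FlatMod.IsFinLocFreeOfRank r L := fun x => by
  obtain ⟨i, y, rfl⟩ := hc x
  obtain ⟨W, hy, ⟨e⟩⟩ := h i y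
  let U := π i ''ᵁ W
  refine ⟨U, ⟨y, hy, rfl⟩, ⟨?_⟩⟩
  let j := IsOpenImmersion.isoOfRangeEq U.ι (W.ι ≫ π i) (by
    rw [Scheme.Opens.range_ι, Scheme.Hom.comp_base, TopCat.coe_comp, Set.range_comp, Scheme.Opens.range_ι]
    rfl)
  exact (Scheme.Modules.restrictFunctorIsoPullback U.ι).app L ≪≫
    (Scheme.Modules.pullbackCongr (IsOpenImmersion.isoOfRangeEq_hom_fac U.ι (W.ι ≫ π i) _).symm).app L ≪≫
    ((Scheme.Modules.pullbackComp j.hom (W.ι ≫ π i)).symm).app L ≪≫
    (Scheme.Modules.pullback j.hom).mapIso (((Scheme.Modules.pullbackComp W.ι (π i)).symm).app L ≪≫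
      (Scheme.Modules.restrictFunctorIsoPullback W.ι).symm.app _ ≪≫ e) ≪≫
    H16Derived.KFlat.Stalk.freeModPullbackIso j.hom r

theorem isZariskiGluing_qfun : H8Props.WeilRes.IsZariskiGluing (qfun E r) := by
  intro T κ C π ho hc s hs
  haveI := ho
  let M := (Scheme.Modules.pullback T.hom).obj E
  -- compatibility on stalks
  have compat : ∀ (i j : κ) (y : (C i).left) (z : (C j).left) (hz : (π j).left z = (π i).left y) v v'
      (m : M.presheaf.stalk ((π i).left y)), Tr (π i) y v m → Tr (π j) z v' (hz ▸ m) →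
        (v ∈ (s i).1 y ↔ v' ∈ (s j).1 z) := by
    intro i j y z hz v v' m hv hv'
    let P : Over X := Over.mk (pullback.fst (π i).left (π j).left ≫ (C i).hom)
    let a : P ⟶ C i := Over.homMk (pullback.fst _ _) rfl
    let b : P ⟶ C j := Over.homMk (pullback.snd _ _) (by
      show pullback.snd _ _ ≫ _ = pullback.fst _ _ ≫ _
      rw [← Over.w (π i), ← Over.w (π j), pullback.condition_assoc])
    have hab : a ≫ π i = b ≫ π j := Over.OverMorphism.ext pullback.condition
    obtain ⟨w, hw₁, hw₂⟩ := Scheme.Pullback.exists_preimage_pullback y z hz.symm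
    haveI : IsOpenImmersion a.left := inferInstanceAs (IsOpenImmersion (pullback.fst (π i).left (π j).left))
    haveI : IsOpenImmersion b.left := inferInstanceAs (IsOpenImmersion (pullback.snd (π i).left (π j).left))
    have hw₁' : a.left w = y := hw₁
    have hw₂' : b.left w = z := hw₂
    subst hw₁' hw₂'
    obtain ⟨v₁, h₁⟩ := exists_tr a w v
    obtain ⟨v₂, h₂⟩ := exists_tr b w v'
    have e₁ := (h₁.comp hv).congr hab (congrArg (fun t : P ⟶ T => t.left w) hab)
    have e₂ := h₂.comp hv'
    have : v₁ = v₂ := e₁.unique e₂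
    rw [← h₁.mem_map_iff, ← h₂.mem_map_iff, this]
    exact Iff.of_eq (congrArg (fun K : QSet E r P => v₂ ∈ K.1 w) (hs i j P a b hab))
  -- the family
  let K : ∀ x : T.left, Submodule (T.left.presheaf.stalk x) (M.presheaf.stalk x) := fun x =>
    { carrier := {m | ∀ (i : κ) (y : (C i).left) (h : (π i).left y = x) v, Tr (π i) y v (h ▸ m) → v ∈ (s i).1 y}
      add_mem' := fun {a b} ha hb i y h v hv => by
        subst h
        obtain ⟨va, hva⟩ := exists_tr (π i) y a
        obtain ⟨vb, hvb⟩ := exists_tr (π i) y b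
        exact (Tr.unique (Tr.add hva hvb) hv) ▸ add_mem (ha i y rfl va hva) (hb i y rfl vb hvb)
      zero_mem' := fun i y h v hv => by
        subst h
        have h0 : Tr (E := E) (π i) y 0 0 :=
          (map_zero (stalkLin (uIso E (π i)) y)).trans (map_zero (pullStalk (π i).left M y).hom).symm
        exact (h0.unique hv) ▸ zero_mem _
      smul_mem' := fun c a ha i y h v hv => by
        subst h
        obtain ⟨va, hva⟩ := exists_tr (π i) y a
        exact ((Tr.smul c hva).unique hv) ▸ Submodule.smul_mem _ _ (ha i y rfl va hva) }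
  have hmem : ∀ (i : κ) (y : (C i).left) v m, Tr (π i) y v m → (m ∈ K ((π i).left y) ↔ v ∈ (s i).1 y) :=
    fun i y v m hv => ⟨fun h => h i y rfl v hv, fun h j z hz v' hv' => (compat i j y z hz v v' m hv hv').1 h⟩
  -- it is locally given by sections
  obtain ⟨L, q, hq, hK⟩ := exists_quot_of_family K fun x m hm => by
    obtain ⟨i, y, rfl⟩ := hc x
    obtain ⟨U, hU, t, rfl⟩ := M.presheaf.exists_germ_eq m
    haveI := isIso_uIso (E := E) (π i)
    let τ : Γ((Scheme.Modules.pullback (C i).hom).obj E, (π i).left ⁻¹ᵁ U) :=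
      (inv (uIso E (π i))).app _ (OmegaSh.pullSect (π i).left M U t)
    have hτ : ∀ (y' : (C i).left) (hy' : (π i).left y' ∈ U),
        Tr (π i) y' (((Scheme.Modules.pullback (C i).hom).obj E).presheaf.germ ((π i).left ⁻¹ᵁ U) y' hy' τ)
          (M.presheaf.germ U ((π i).left y') hy' t) := fun y' hy' => by
      unfold Tr
      rw [stalkLin_germ, pullStalk_germ]
      congr 1
      show (inv (uIso E (π i)) ≫ uIso E (π i)).app _ (OmegaSh.pullSect (π i).left M U t) = _
      rw [IsIso.inv_hom_id]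
      rfl
    obtain ⟨Li, si, hLi, hsi, hK⟩ := (s i).exists_mk
    have h0 := (hmem i y _ _ (hτ y hU)).1 hm
    rw [hK] at h0
    change _ ∈ kers si y at h0
    rw [mem_kers, stalkLin_germ] at h0
    obtain ⟨W, hyW, ι₁, ι₂, hW⟩ := TopCat.Presheaf.germ_eq _ y (show y ∈ (π i).left ⁻¹ᵁ U from hU) (show y ∈ (π i).left ⁻¹ᵁ U from hU) _ _ (h0.trans (map_zero _).symm)
    rw [map_zero] at hW
    refine ⟨(π i).left ''ᵁ W, ⟨y, hyW, rfl⟩, M.presheaf.map (homOfLE (fun _ ⟨y', hy', e⟩ =>
      e ▸ leOfHom ι₁ hy' : (π i).left ''ᵁ W ≤ U)).op t, TopCat.Presheaf.germ_res_apply _ _ _ _ _, ?_⟩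
    rintro _ ⟨y', hy', rfl⟩
    rw [TopCat.Presheaf.germ_res_apply]
    refine (hmem i y' _ _ (hτ y' (leOfHom ι₁ hy'))).2 ?_
    rw [hK]
    show _ ∈ kers si y'
    rw [mem_kers, stalkLin_germ, ← TopCat.Presheaf.germ_res_apply _ ι₁ y' hy', hW, map_zero]
  haveI := hq
  -- it restricts to the given quotients
  have hres : ∀ i, kers (quotBC (Over.w (π i)) q) = (s i).1 := fun i => funext fun y => Submodule.ext fun v => by
    obtain ⟨m, hm⟩ := exists_tr' (π i) y v
    rw [← hmem i y v m hm, ← hK, mem_kers, mem_kers, show quotBC (Over.w (π i)) q =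
      uIso E (π i) ≫ (Scheme.Modules.pullback (π i).left).map q by rw [← quotBC_comp_map, Category.id_comp],
      stalkLin_comp_apply]
    unfold Tr at hm
    rw [hm]
    refine Iff.trans (Eq.to_iff (congrArg (· = 0) (pullStalk_naturality (π i).left _ y q m))) ?_
    exact ⟨fun h0 => (H17.StalkTransfer.pullStalk_bijective (π i).left L y).1 (h0.trans (map_zero _).symm),
      fun h0 => (congrArg _ h0).trans (map_zero _)⟩
  have hL : FlatMod.IsFinLocFreeOfRank r L := isFinLocFreeOfRank_of_cover (fun i => (π i).left) hc fun i => by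
    obtain ⟨Li, si, hLi, hsi, hK⟩ := (s i).exists_mk
    haveI := hsi
    haveI := epi_quotBC' (π i) q hq
    obtain ⟨e, -⟩ := exists_iso_of_kers_eq (quotBC (Over.w (π i)) q) si ((hres i).trans (congrArg Subtype.val hK))
    intro y
    obtain ⟨W, hW, ⟨f⟩⟩ := hLi y
    exact ⟨W, hW, ⟨(Scheme.Modules.restrictFunctor W.ι).mapIso e ≪≫ f⟩⟩
  refine ⟨QSet.mk q hL hq, fun i => ?_, fun t ht => ?_⟩
  · rw [qfun_map, QSet.map_mk]
    exact Subtype.ext (hres i)
  · refine Subtype.ext (funext fun x => Submodule.ext fun m => ?_)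
    obtain ⟨i, y, rfl⟩ := hc x
    obtain ⟨v, hv⟩ := exists_tr (π i) y m
    show _ ↔ m ∈ kers q _
    rw [hK, hmem i y v m hv, ← hv.mem_map_iff t, ← ht i]
    rfl

end

end Groth.Agent.H26Gr
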