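import Groth.Agent.H8Props.FunDescent.Stalk
import Groth.Agent.H17.StalkTransfer

/-!
# Quotients of a sheaf of modules through the kernels on stalks
-/

set_option autoImplicit false
set_option backward.isDefEq.respectTransparency false
set_option backward.isDefEq.respectTransparency.types false

universe u

open CategoryTheory CategoryTheory.Limits AlgebraicGeometry

namespace Groth.Agent.H26Gr

noncomputable section

variable {X : Scheme.{u}} {M L L' : X.Modules}

theorem stalkLin_comp_apply {A B C : X.Modules} (φ : A ⟶ B) (ψ : B ⟶ C) (x : X) (v : A.presheaf.stalk x) :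
    H06Mod.stalkLin (φ ≫ ψ) x v = H06Mod.stalkLin ψ x (H06Mod.stalkLin φ x v) := by
  obtain ⟨U, hU, a, rfl⟩ := A.presheaf.exists_germ_eq v
  rw [H06Mod.stalkLin_germ, H06Mod.stalkLin_germ, H06Mod.stalkLin_germ]
  rfl

theorem stalkLin_zero_apply {A B : X.Modules} (x : X) (v : A.presheaf.stalk x) :
    H06Mod.stalkLin (0 : A ⟶ B) x v = 0 := by
  rw [(H8Props.FunDescent.eq_zero_iff (0 : A ⟶ B)).1 rfl x]
  rfl

/-- The kernels on stalks of a morphism. -/
def kers (s : M ⟶ L) (x : X) : Submodule (X.presheaf.stalk x) (M.presheaf.stalk x) :=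
  LinearMap.ker (H06Mod.stalkLin s x)

theorem mem_kers {s : M ⟶ L} {x : X} {v : M.presheaf.stalk x} : v ∈ kers s x ↔ H06Mod.stalkLin s x v = 0 :=
  LinearMap.mem_ker

theorem kers_le_comp (s : M ⟶ L) (t : L ⟶ L') (x : X) : kers s x ≤ kers (s ≫ t) x := fun v hv => by
  rw [mem_kers, stalkLin_comp_apply, mem_kers.1 hv, map_zero]

theorem kers_comp_iso (s : M ⟶ L) (t : L ⟶ L') [IsIso t] : kers (s ≫ t) = kers s := by
  funext x
  refine le_antisymm (fun v hv => ?_) (kers_le_comp s t x)
  have := kers_le_comp (s ≫ t) (inv t) x hv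
  rwa [Category.assoc, IsIso.hom_inv_id, Category.comp_id] at this

theorem comp_eq_zero_iff_kers {A : X.Modules} (ι : A ⟶ M) (s : M ⟶ L) :
    ι ≫ s = 0 ↔ ∀ x v, H06Mod.stalkLin ι x v ∈ kers s x := by
  rw [H8Props.FunDescent.eq_zero_iff]
  refine forall_congr' fun x => ⟨fun h v => ?_, fun h => LinearMap.ext fun v => ?_⟩
  · rw [mem_kers, ← stalkLin_comp_apply, h]; rfl
  · rw [stalkLin_comp_apply, LinearMap.zero_apply]; exact h v

/-- A map vanishing on the stalk kernels of an epimorphism factors through it. -/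
theorem exists_desc_of_kers (s : M ⟶ L) [Epi s] (s' : M ⟶ L') (h : ∀ x, kers s x ≤ kers s' x) :
    ∃ t, s ≫ t = s' := by
  have h0 : kernel.ι s ≫ s' = 0 := (comp_eq_zero_iff_kers _ _).2 fun x v => h x (by
    rw [mem_kers, ← stalkLin_comp_apply, kernel.condition, stalkLin_zero_apply])
  have hc : IsColimit (CokernelCofork.ofπ s (kernel.condition s)) :=
    Abelian.epiIsCokernelOfKernel (KernelFork.ofι (kernel.ι s) (kernel.condition s)) (kernelIsKernel s)
  exact ⟨_, (CokernelCofork.IsColimit.desc' hc s' h0).2⟩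

/-- Quotients with the same stalk kernels are isomorphic. -/
theorem exists_iso_of_kers_eq (s : M ⟶ L) [Epi s] (s' : M ⟶ L') [Epi s'] (h : kers s = kers s') :
    ∃ e : L ≅ L', s ≫ e.hom = s' := by
  obtain ⟨t, ht⟩ := exists_desc_of_kers s s' fun x => (congrFun h x).le
  obtain ⟨t', ht'⟩ := exists_desc_of_kers s' s fun x => (congrFun h x).ge
  refine ⟨⟨t, t', ?_, ?_⟩, ht⟩
  · rw [← cancel_epi s, ← Category.assoc, ht, ht', Category.comp_id]
  · rw [← cancel_epi s', ← Category.assoc, ht', ht, Category.comp_id]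

theorem kers_eq_iff (s : M ⟶ L) [Epi s] (s' : M ⟶ L') [Epi s'] :
    kers s = kers s' ↔ ∃ e : L ≅ L', s ≫ e.hom = s' :=
  ⟨exists_iso_of_kers_eq s s', fun ⟨e, he⟩ => by rw [← he, kers_comp_iso]⟩

end

end Groth.Agent.H26Gr
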