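import Groth.Agent.H26Gr.QuotBC
import Groth.Agent.H26Gr.Kers
import Groth.Agent.H8Props.WeilRes.Cover

/-!
# The functor of locally free quotients of a module
-/

set_option autoImplicit false
set_option backward.isDefEq.respectTransparency false
set_option backward.isDefEq.respectTransparency.types false

universe u

open CategoryTheory CategoryTheory.Limits AlgebraicGeometry Grass Opposite

namespace Groth.Agent.H26Gr

noncomputable section

variable {X : Scheme.{u}} {E : X.Modules} {r : ℕ}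

variable (E r) in
/-- A locally free quotient of rank `r` of an inverse image, by its kernels on stalks. -/
def QSet (T : Over X) : Type u :=
  {K : ∀ x : T.left, Submodule (T.left.presheaf.stalk x) (((Scheme.Modules.pullback T.hom).obj E).presheaf.stalk x) //
    ∃ (L : T.left.Modules) (s : (Scheme.Modules.pullback T.hom).obj E ⟶ L),
      FlatMod.IsFinLocFreeOfRank r L ∧ Epi s ∧ kers s = K}

/-- The class of a quotient. -/
def QSet.mk {T : Over X} {L : T.left.Modules} (s : (Scheme.Modules.pullback T.hom).obj E ⟶ L)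
    (hL : FlatMod.IsFinLocFreeOfRank r L) (hs : Epi s) : QSet E r T :=
  ⟨kers s, L, s, hL, hs, rfl⟩

theorem QSet.mk_eq_mk_iff {T : Over X} {L L' : T.left.Modules} (s : (Scheme.Modules.pullback T.hom).obj E ⟶ L)
    (hL : FlatMod.IsFinLocFreeOfRank r L) (hs : Epi s) (s' : (Scheme.Modules.pullback T.hom).obj E ⟶ L')
    (hL' : FlatMod.IsFinLocFreeOfRank r L') (hs' : Epi s') :
    QSet.mk s hL hs = QSet.mk s' hL' hs' ↔ ∃ e : L ≅ L', s ≫ e.hom = s' := by
  haveI := hs
  haveI := hs'
  rw [← kers_eq_iff]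
  exact ⟨fun h => congrArg Subtype.val h, fun h => Subtype.ext h⟩

theorem QSet.exists_mk {T : Over X} (K : QSet E r T) :
    ∃ (L : T.left.Modules) (s : (Scheme.Modules.pullback T.hom).obj E ⟶ L)
      (hL : FlatMod.IsFinLocFreeOfRank r L) (hs : Epi s), K = QSet.mk s hL hs := by
  obtain ⟨L, s, hL, hs, h⟩ := K.2
  exact ⟨L, s, hL, hs, Subtype.ext h.symm⟩

theorem epi_quotBC' {T' T : Over X} (p : T' ⟶ T) {L : T.left.Modules}
    (s : (Scheme.Modules.pullback T.hom).obj E ⟶ L) (hs : Epi s) : Epi (quotBC (Over.w p) s) := by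
  haveI := hs
  exact epi_quotBC _ _

/-- Base change of classes of quotients. -/
def QSet.map {T' T : Over X} (p : T' ⟶ T) (K : QSet E r T) : QSet E r T' :=
  let L := K.2.choose
  let s := K.2.choose_spec.choose
  QSet.mk (quotBC (Over.w p) s) (isFinLocFreeOfRank_pullback p.left K.2.choose_spec.choose_spec.1)
    (epi_quotBC' p s K.2.choose_spec.choose_spec.2.1)

theorem QSet.map_mk {T' T : Over X} (p : T' ⟶ T) {L : T.left.Modules}
    (s : (Scheme.Modules.pullback T.hom).obj E ⟶ L) (hL : FlatMod.IsFinLocFreeOfRank r L) (hs : Epi s) :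
    QSet.map p (QSet.mk s hL hs) =
      QSet.mk (quotBC (Over.w p) s) (isFinLocFreeOfRank_pullback p.left hL) (epi_quotBC' p s hs) := by
  set K := QSet.mk s hL hs
  obtain ⟨-, hs', hk⟩ := K.2.choose_spec.choose_spec
  haveI := hs
  haveI := hs'
  obtain ⟨e, he⟩ := exists_iso_of_kers_eq _ s hk
  haveI := epi_quotBC' p _ hs'
  haveI := epi_quotBC' p s hs
  exact Subtype.ext ((kers_eq_iff _ _).2 ⟨(Scheme.Modules.pullback p.left).mapIso e, quotBC_comp_eq _ _ _ he⟩)

theorem quotBC_id_comp {T : Scheme.{u}} {g : T ⟶ X} {L : T.Modules} (s : (Scheme.Modules.pullback g).obj E ⟶ L) :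
    quotBC (Category.id_comp g) s ≫ (Scheme.Modules.pullbackId T).hom.app L = s := by
  have h := congr($(Scheme.Modules.pseudofunctor_right_unitality (f := g)).app E)
  have hn : (Scheme.Modules.pullback (𝟙 T)).map s ≫ (Scheme.Modules.pullbackId T).hom.app L =
      (Scheme.Modules.pullbackId T).hom.app _ ≫ s := (Scheme.Modules.pullbackId T).hom.naturality s
  simp only [NatTrans.comp_app, Functor.whiskerLeft_app, Functor.rightUnitor_hom_app, Category.comp_id] at h
  simp only [quotBC, Category.assoc]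
  erw [hn, ← Category.assoc, ← Category.assoc, h]
  simp [Scheme.Modules.pullbackCongr]
  exact Category.id_comp _

theorem QSet.map_id {T : Over X} (K : QSet E r T) : QSet.map (𝟙 T) K = K := by
  obtain ⟨L, s, hL, hs, rfl⟩ := K.exists_mk
  rw [QSet.map_mk]
  exact (QSet.mk_eq_mk_iff _ _ _ _ _ _).2 ⟨(Scheme.Modules.pullbackId T.left).app L, quotBC_id_comp s⟩

theorem QSet.map_map {T'' T' T : Over X} (a : T'' ⟶ T') (b : T' ⟶ T) (K : QSet E r T) :
    QSet.map a (QSet.map b K) = QSet.map (a ≫ b) K := by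
  obtain ⟨L, s, hL, hs, rfl⟩ := K.exists_mk
  rw [QSet.map_mk, QSet.map_mk, QSet.map_mk]
  haveI := isIso_quotBC (rfl : a.left ≫ b.left = a.left ≫ b.left) (𝟙 ((Scheme.Modules.pullback b.left).obj L))
  refine ((QSet.mk_eq_mk_iff _ _ _ _ _ _).2
    ⟨asIso (quotBC (rfl : a.left ≫ b.left = a.left ≫ b.left) (𝟙 ((Scheme.Modules.pullback b.left).obj L))), ?_⟩).symm
  have := quotBC_quotBC (π := T'.hom) (Over.w b) s (𝟙 _) (rfl : a.left ≫ b.left = a.left ≫ b.left)
    (g' := T''.hom) (Over.w (a ≫ b))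
  rw [Category.comp_id] at this
  exact this

variable (E r) in
/-- The functor of locally free quotients of rank `r`. -/
def qfun : (Over X)ᵒᵖ ⥤ Type u where
  obj T := QSet E r T.unop
  map p := ↾(QSet.map p.unop)
  map_id T := ConcreteCategory.hom_ext _ _ fun K => QSet.map_id K
  map_comp p q := ConcreteCategory.hom_ext _ _ fun K => (QSet.map_map q.unop p.unop K).symm

theorem qfun_map {T' T : Over X} (p : T' ⟶ T) (K : QSet E r T) : (qfun E r).map p.op K = QSet.map p K := rfl

/-- A representing object gives a Grassmannian. -/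
theorem exists_isGrass_of_isRepresentable (h : (qfun E r).IsRepresentable) :
    ∃ (G : Scheme.{u}) (π : G ⟶ X) (Q : G.Modules) (q : (Scheme.Modules.pullback π).obj E ⟶ Q),
      IsGrass π E r Q q := by
  obtain ⟨G, ⟨Φ⟩⟩ := h.has_representation
  obtain ⟨Q, q, hQ, hq, hu⟩ := QSet.exists_mk (E := E) (r := r) (T := G) (Φ.homEquiv (𝟙 G))
  refine ⟨G.left, G.hom, Q, q, hQ, hq, fun T g L hL s hs => ?_⟩
  let T' : Over X := Over.mk g
  have key : ∀ p : T' ⟶ G, Φ.homEquiv p = QSet.map p (QSet.mk q hQ hq) := fun p => by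
    rw [Φ.homEquiv_eq]
    exact congrArg (QSet.map p) hu
  obtain ⟨p, hp⟩ := Φ.homEquiv.surjective (QSet.mk (T := T') s hL hs)
  replace hp := (key p).symm.trans hp
  rw [QSet.map_mk] at hp
  refine ⟨p.left, ⟨Over.w p, (QSet.mk_eq_mk_iff _ _ _ _ _ _).1 hp⟩, fun h' ⟨hg', e'⟩ => ?_⟩
  let p' : T' ⟶ G := Over.homMk h' hg'
  have hp' : Φ.homEquiv p' = Φ.homEquiv p := by
    refine (key p').trans (Eq.trans ?_ (key p).symm)
    rw [QSet.map_mk, QSet.map_mk, hp]
    exact (QSet.mk_eq_mk_iff _ _ _ _ _ _).2 e'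
  exact congrArg (fun t : T' ⟶ G => t.left) (Φ.homEquiv.injective hp')

/-- A Grassmannian represents the functor. -/
theorem isRepresentable_of_isGrass {G : Scheme.{u}} {π : G ⟶ X} {Q : G.Modules}
    {q : (Scheme.Modules.pullback π).obj E ⟶ Q} (h : IsGrass π E r Q q) :
    ∀ T : Over X, Function.Bijective fun p : T ⟶ Over.mk π => QSet.map p (QSet.mk (T := Over.mk π) q h.rank h.epi) := by
  refine fun T => ⟨fun p p' e => ?_, fun K => ?_⟩
  · simp only [QSet.map_mk] at e
    refine Over.OverMorphism.ext ((h.univ T.left T.hom _ (isFinLocFreeOfRank_pullback p'.left h.rank) _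
      (epi_quotBC' p' q h.epi)).unique ⟨Over.w p, (QSet.mk_eq_mk_iff _ _ _ _ _ _).1 e⟩
        ⟨Over.w p', Iso.refl _, Category.comp_id _⟩)
  · obtain ⟨L, s, hL, hs, rfl⟩ := K.exists_mk
    obtain ⟨g, ⟨hg, e⟩, -⟩ := h.univ T.left T.hom L hL s hs
    exact ⟨Over.homMk g hg, (QSet.map_mk _ _ _ _).trans ((QSet.mk_eq_mk_iff _ _ _ _ _ _).2 e)⟩

end

end Groth.Agent.H26Gr
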