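import Groth.Agent.H26Gr.FreeSec
import Groth.Agent.H26Gr.Chart
import Groth.Agent.H26Gr.QFun
import Groth.Agent.H26Gr.Glue

/-!
# The Grassmannian of a free module over any base
-/

set_option autoImplicit false
set_option backward.isDefEq.respectTransparency false
set_option backward.isDefEq.respectTransparency.types false

universe u

open CategoryTheory CategoryTheory.Limits AlgebraicGeometry Grass
open Groth.Agent.H06Mod Groth.Agent.H11Ample TensorProduct Opposite

namespace Groth.Agent.H26Gr

noncomputable section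

variable {X : Scheme.{u}} {n r : ℕ}

theorem isFinLocFreeOfRank_freeMod (X : Scheme.{u}) (r : ℕ) :
    FlatMod.IsFinLocFreeOfRank r (FlatMod.freeMod X r) := fun x =>
  ⟨⊤, trivial, ⟨(Scheme.Modules.restrictFunctorIsoPullback (⊤ : X.Opens).ι).app _ ≪≫
    H16Derived.KFlat.Stalk.freeModPullbackIso (⊤ : X.Opens).ι r⟩⟩

/-- Selecting a basis among generators over a local ring. -/
theorem exists_sel_alg {R M : Type*} [CommRing R] [IsLocalRing R] [AddCommGroup M] [Module R M]
    (b : Module.Basis (Fin r) R M) (v : Fin n → M) (hv : Submodule.span R (Set.range v) = ⊤) :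
    ∃ s : Fin r ↪ Fin n, Submodule.span R (Set.range fun j => v (s j)) = ⊤ := by
  haveI : Module.Finite R M := Module.Finite.of_basis b
  let k := IsLocalRing.ResidueField R
  let f : Fin n → k ⊗[R] M := fun i => (1 : k) ⊗ₜ v i
  have hspan : Submodule.span k (Set.range f) = ⊤ := by
    refine eq_top_iff.2 fun z _ => ?_
    clear * - z hv
    induction z with
    | zero => exact zero_mem _
    | add a b ha hb => exact add_mem ha hb
    | tmul c m =>
      rw [show c ⊗ₜ[R] m = c • ((1 : k) ⊗ₜ[R] m) by rw [smul_tmul', smul_eq_mul, mul_one]]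
      refine Submodule.smul_mem _ _ ?_
      have hm : m ∈ Submodule.span R (Set.range v) := hv ▸ Submodule.mem_top
      induction hm using Submodule.span_induction with
      | mem a ha =>
        obtain ⟨i, rfl⟩ := ha
        exact Submodule.subset_span ⟨i, rfl⟩
      | zero => rw [tmul_zero]; exact zero_mem _
      | add a b _ _ ha hb => rw [tmul_add]; exact add_mem ha hb
      | smul a v _ hv =>
        rw [tmul_smul, ← algebraMap_smul k a ((1 : k) ⊗ₜ[R] v)]
        exact Submodule.smul_mem _ _ hv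
  obtain ⟨g, hg, hgs, hli⟩ := Submodule.exists_fun_fin_finrank_span_eq k (Set.range f)
  have hd : Module.finrank k (Submodule.span k (Set.range f)) = r := by
    rw [hspan, finrank_top, Module.finrank_eq_card_basis (b.baseChange k), Fintype.card_fin]
  choose a ha using hg
  have hainj : Function.Injective a := fun i i' h => hli.injective (by rw [← ha, ← ha, h])
  let e := finCongr hd.symm
  refine ⟨⟨fun j => a (e j), fun j j' h => e.injective (hainj h)⟩, ?_⟩
  let B := (Module.Basis.mk hli (by rw [hgs, hspan])).reindex e.symm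
  refine IsLocalRing.span_eq_top_of_tmul_eq_basis (fun j => v (a (e j))) B fun j => ?_
  show (1 : k) ⊗ₜ v (a (e j)) = B j
  rw [Module.Basis.reindex_apply, Module.Basis.mk_apply, Equiv.symm_symm]
  exact ha _

theorem linearIndependent_gen (r : ℕ) (x : X) : LinearIndependent (X.presheaf.stalk x)
    fun j => (FlatMod.freeMod X r).presheaf.germ ⊤ x trivial (H29Fitt.gen X r j ⊤) := by
  classical
  obtain ⟨p, hp, -⟩ := H29Fitt.exists_coord (X := X) r
  refine Fintype.linearIndependent_iff.2 fun c hc i => ?_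
  have hpe : ∀ j, (p i).app ⊤ (H29Fitt.gen X r j ⊤) = if j = i then H10Coh.oneSec ⊤ else 0 := by
    intro j
    rw [H29Fitt.gen, ← ConcreteCategory.comp_apply, ← Scheme.Modules.Hom.comp_app, hp]
    split_ifs <;> rfl
  have h' := congrArg (stalkLin (p i) x) hc
  simp only [map_sum, map_smul, stalkLin_germ, hpe, map_zero, apply_ite, smul_zero, Finset.sum_ite_eq',
    Finset.mem_univ, if_true] at h'
  obtain ⟨V, hV, c', hc'⟩ := X.presheaf.exists_germ_eq (c i)
  rw [← hc'] at h' ⊢
  rw [← TopCat.Presheaf.germ_res_apply (Coh.structureModule X).presheaf (homOfLE (le_top : V ≤ ⊤)) x hV,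
    ← germ_smul] at h'
  obtain ⟨W, hW, i₁, i₂, hWe⟩ := (Coh.structureModule X).presheaf.germ_eq x hV hV _ 0
    (h'.trans (map_zero _).symm)
  rw [map_zero, Scheme.Modules.map_smul] at hWe
  rw [← TopCat.Presheaf.germ_res_apply X.presheaf i₁ x hW]
  refine (congrArg _ ((mul_one _).symm.trans ?_)).trans (map_zero _)
  refine Eq.trans ?_ hWe
  congr 1
  show (1 : Γ(X, W)) = _
  rw [← ConcreteCategory.comp_apply, ← Functor.map_comp]
  exact (map_one (X.presheaf.map _).hom).symm

theorem exists_sel {L : X.Modules} (hL : FlatMod.IsFinLocFreeOfRank r L) (w : Fin n → Γ(L, ⊤)) {x : X}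
    (hw : GenAt L w x) : ∃ s : Fin r ↪ Fin n, GenAt L (fun j => w (s j)) x := by
  obtain ⟨U, hxU, ⟨e⟩⟩ := exists_chart_iso hL x
  let y : (U : Scheme.{u}) := ⟨x, hxU⟩
  let M := FlatMod.freeMod (U : Scheme.{u}) r
  have hb := genAt_free (X := (U : Scheme.{u})) r y
  obtain ⟨s, hs⟩ := exists_sel_alg (Module.Basis.mk (linearIndependent_gen r y) hb.ge)
    (fun i => M.presheaf.germ ⊤ y trivial (e.hom.app ⊤ (pullTop U.ι (w i))))
    ((genAt_iso_iff e.hom (fun i => pullTop U.ι (w i)) y).2 ((genAt_pull_iff U.ι hL w y).2 hw))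
  exact ⟨s, (genAt_pull_iff U.ι hL (fun j => w (s j)) y).1
    ((genAt_iso_iff e.hom (fun j => pullTop U.ι (w (s j))) y).1 hs)⟩

/-- The sections given by a matrix of a chart. -/
def lc {L : X.Modules} (s : Fin r ↪ Fin n) (x : Jc s × Fin r → Γ(X, ⊤)) (v : Fin r → Γ(L, ⊤)) (i : Fin n) :
    Γ(L, ⊤) :=
  ∑ j, wmat s x i j • v j

theorem lc_emb {L : X.Modules} (s : Fin r ↪ Fin n) (x : Jc s × Fin r → Γ(X, ⊤)) (v : Fin r → Γ(L, ⊤)) (j : Fin r) :
    lc s x v (s j) = v j := by
  classical
  simp only [lc, wmat_emb]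
  rw [Finset.sum_eq_single j (fun l _ hl => by rw [Pi.single_eq_of_ne hl, zero_smul]) (by simp),
    Pi.single_eq_same, one_smul]

theorem app_lc {L L' : X.Modules} (φ : L ⟶ L') (s : Fin r ↪ Fin n) (x : Jc s × Fin r → Γ(X, ⊤))
    (v : Fin r → Γ(L, ⊤)) (i : Fin n) : φ.app ⊤ (lc s x v i) = lc s x (fun j => φ.app ⊤ (v j)) i := by
  simp only [lc, map_sum, Scheme.Modules.Hom.app_smul]

theorem wmat_map {A B : Type u} [CommRing A] [CommRing B] (f : A →+* B) (s : Fin r ↪ Fin n)
    (x : Jc s × Fin r → A) (i : Fin n) (j : Fin r) : f (wmat s x i j) = wmat s (f ∘ x) i j := by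
  unfold wmat
  split_ifs <;> simp

theorem pullTop_lc {Y : Scheme.{u}} (h : X ⟶ Y) {L : Y.Modules} (s : Fin r ↪ Fin n)
    (x : Jc s × Fin r → Γ(Y, ⊤)) (v : Fin r → Γ(L, ⊤)) (i : Fin n) :
    pullTop h (lc s x v i) = lc s (fun q => h.appTop (x q)) (fun j => pullTop h (v j)) i := by
  refine (map_sum (ConcreteCategory.hom (((Scheme.Modules.pullbackPushforwardAdjunction h).unit.app L).app ⊤)) _ _).trans
    (Finset.sum_congr rfl fun j _ => ?_)
  refine (OmegaSh.pullSect_smul h L ⊤ _ _).trans ?_
  exact congrArg (fun a : Γ(X, ⊤) => a • pullTop h (v j)) (wmat_map h.appTop.hom s x i j)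

section charts

variable (X) (s : Fin r ↪ Fin n)

/-- The coordinate index set of a chart. -/
abbrev Crd : Type u := ULift.{u} (Jc s × Fin r)

/-- The chart. -/
abbrev chartOver : Over X := Over.mk (AffineSpace (Crd s) X ↘ X)

/-- The coordinates. -/
def crd (q : Jc s × Fin r) : Γ(AffineSpace (Crd s) X, ⊤) := AffineSpace.coord X (ULift.up q)

/-- The universal sections. -/
def univSec (i : Fin n) : Γ(FlatMod.freeMod (AffineSpace (Crd s) X) r, ⊤) :=
  lc s (crd X s) (fun j => H29Fitt.gen _ r j ⊤) i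

/-- The universal quotient over a chart. -/
def univMap : (Scheme.Modules.pullback (chartOver X s).hom).obj (FlatMod.freeMod X n) ⟶
    FlatMod.freeMod (AffineSpace (Crd s) X) r :=
  (exists_fsec (univSec X s)).choose

theorem fsec_univMap (i : Fin n) : fsec (univMap X s) i = univSec X s i :=
  (exists_fsec (univSec X s)).choose_spec i

theorem epi_univMap : Epi (univMap X s) := by
  refine (epi_iff_genAt _).2 fun x => eq_top_iff.2 ?_
  rw [← genAt_free r x]
  refine Submodule.span_mono ?_
  rintro _ ⟨j, rfl⟩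
  exact ⟨s j, by simp only [fsec_univMap, univSec, lc_emb]⟩


/-- The point given by a chart. -/
def chartPtU : QSet (FlatMod.freeMod X n) r (chartOver X s) :=
  QSet.mk (univMap X s) (isFinLocFreeOfRank_freeMod _ r) (epi_univMap X s)

variable {X}

/-- The coordinates of a map into a chart. -/
def hcrd {T : Over X} (h : T ⟶ chartOver X s) (q : Jc s × Fin r) : Γ(T.left, ⊤) := h.left.appTop (crd X s q)

/-- The pulled back basis. -/
def hgen {T : Over X} (h : T ⟶ chartOver X s) (j : Fin r) :
    Γ((Scheme.Modules.pullback h.left).obj (FlatMod.freeMod (AffineSpace (Crd s) X) r), ⊤) :=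
  pullTop h.left (H29Fitt.gen (AffineSpace (Crd s) X) r j ⊤)

theorem genAt_hgen {T : Over X} (h : T ⟶ chartOver X s) (y : T.left) : GenAt _ (hgen s h) y :=
  genAt_pull_of_genAt h.left _ y (genAt_free r _)

theorem fsec_chart {T : Over X} (h : T ⟶ chartOver X s) (i : Fin n) :
    fsec (quotBC (Over.w h) (univMap X s)) i = lc s (hcrd s h) (hgen s h) i := by
  rw [fsec_quotBC, fsec_univMap]
  exact pullTop_lc h.left s _ _ i


/-- A map into a chart is determined by the quotient it gives. -/
theorem chart_inj {T : Over X} {h h' : T ⟶ chartOver X s}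
    (e : QSet.map h (chartPtU X s) = QSet.map h' (chartPtU X s)) : h = h' := by
  unfold chartPtU at e
  rw [QSet.map_mk, QSet.map_mk, QSet.mk_eq_mk_iff] at e
  obtain ⟨e, he⟩ := e
  have hsec : ∀ i, lc s (hcrd s h) (fun j => e.hom.app ⊤ (hgen s h j)) i = lc s (hcrd s h') (hgen s h') i := fun i => by
    rw [← app_lc, ← fsec_chart s h, ← fsec_chart s h', ← fsec_comp, he]
  have hv : (fun j => e.hom.app ⊤ (hgen s h j)) = hgen s h' := funext fun j => by
    simpa only [lc_emb] using hsec (s j)
  rw [hv] at hsec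
  refine Over.OverMorphism.ext (AffineSpace.hom_ext ((Over.w h).trans (Over.w h').symm) fun q => ?_)
  obtain ⟨i, j⟩ := q
  have hu := (existsUnique_coeff (isFinLocFreeOfRank_pullback h'.left (isFinLocFreeOfRank_freeMod _ r)) (hgen s h')
    (genAt_hgen s h') (lc s (hcrd s h') (hgen s h') i.1)).unique
      (y₁ := wmat s (hcrd s h) i.1) (y₂ := wmat s (hcrd s h') i.1) (hsec i.1) rfl
  have := congrFun hu j
  rwa [wmat_out, wmat_out] at this

/-- Where the selected sections generate a quotient, it comes from the chart. -/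
theorem exists_chart_iff {T T' : Over X} (p : T' ⟶ T) {L : T.left.Modules}
    (f : (Scheme.Modules.pullback T.hom).obj (FlatMod.freeMod X n) ⟶ L) (hL : FlatMod.IsFinLocFreeOfRank r L)
    (hf : Epi f) :
    (∃ h : T' ⟶ chartOver X s, QSet.map h (chartPtU X s) = QSet.map p (QSet.mk f hL hf)) ↔
      Set.range p.left ⊆ {x | GenAt L (fun j => fsec f (s j)) x} := by
  unfold chartPtU
  simp only [QSet.map_mk, QSet.mk_eq_mk_iff]
  constructor
  · rintro ⟨h, e, he⟩ _ ⟨y, rfl⟩
    have hv : ∀ j, e.hom.app ⊤ (hgen s h j) = pullTop p.left (fsec f (s j)) := fun j => by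
      rw [← fsec_quotBC f (Over.w p), ← he, fsec_comp, fsec_chart, lc_emb]
    refine (genAt_pull_iff p.left hL (fun j => fsec f (s j)) y).1 ?_
    have := (genAt_iso_iff e.hom (hgen s h) y).2 (genAt_hgen s h y)
    rwa [funext hv] at this
  · intro hr
    have hpL := isFinLocFreeOfRank_pullback p.left hL
    let v : Fin r → Γ((Scheme.Modules.pullback p.left).obj L, ⊤) := fun j => pullTop p.left (fsec f (s j))
    have hv : ∀ y, GenAt _ v y := fun y => genAt_pull_of_genAt p.left _ y (hr ⟨y, rfl⟩)
    choose c hc using fun i => (existsUnique_coeff hpL v hv (pullTop p.left (fsec f i))).exists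
    let h : T' ⟶ chartOver X s := Over.homMk
      (AffineSpace.homOfVector T'.hom fun q : Crd s => c q.down.1.1 q.down.2) (AffineSpace.homOfVector_over _ _)
    have hx : hcrd s h = fun q => c q.1.1 q.2 := funext fun q => AffineSpace.homOfVector_appTop_coord _ _ _
    have hW := isFinLocFreeOfRank_pullback h.left (isFinLocFreeOfRank_freeMod (AffineSpace (Crd s) X) r)
    haveI := isIso_freeHom hW (hgen s h) (genAt_hgen s h)
    haveI := isIso_freeHom hpL v hv
    let e := (asIso (H29Fitt.freeHom _ (hgen s h))).symm ≪≫ asIso (H29Fitt.freeHom _ v)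
    have hev : ∀ j, e.hom.app ⊤ (hgen s h j) = v j := fun j => by
      have h1 : (H29Fitt.freeHom _ (hgen s h)).app ⊤ (H29Fitt.gen T'.left r j ⊤) = hgen s h j :=
        (H29Fitt.freeHom_gen _ _ j ⊤).trans (H10Coh.mres_self _ _ _)
      rw [← h1, ← ConcreteCategory.comp_apply, ← Scheme.Modules.Hom.comp_app]
      simp only [e, Iso.trans_hom, Iso.symm_hom, asIso_inv, asIso_hom, IsIso.hom_inv_id_assoc]
      exact (H29Fitt.freeHom_gen _ v j ⊤).trans (H10Coh.mres_self _ _ _)
    refine ⟨h, e, fsec_ext fun i => ?_⟩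
    rw [fsec_comp, fsec_chart, app_lc, funext hev, fsec_quotBC f (Over.w p), hx]
    by_cases hi : i ∈ Set.range s
    · obtain ⟨j, rfl⟩ := hi
      exact lc_emb s _ v j
    · refine (Finset.sum_congr rfl fun j _ => ?_).trans (hc i)
      rw [wmat_out s _ ⟨i, hi⟩ j]

end charts

theorem isRepresentable_qfun_free (X : Scheme.{u}) (n r : ℕ) : (qfun (FlatMod.freeMod X n) r).IsRepresentable := by
  let ι := ULift.{u} (Fin r ↪ Fin n)
  refine H8Props.WeilRes.isRepresentable_of_open_cover isZariskiGluing_qfun (fun s : ι => chartOver X s.down)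
    (fun s => chartPtU X s.down) (fun s T h h' e => chart_inj s.down e) fun T K => ?_
  obtain ⟨L, f, hL, hf, rfl⟩ := QSet.exists_mk K
  refine ⟨fun s => ⟨{x | GenAt L (fun j => fsec f (s.down j)) x}, isOpen_genAt hL _⟩, fun x => ?_,
    fun s T' p => exists_chart_iff s.down p f hL hf⟩
  obtain ⟨s, hs⟩ := exists_sel hL (fsec f) ((epi_iff_genAt f).1 hf x)
  exact ⟨⟨s⟩, hs⟩

end

end Groth.Agent.H26Gr
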