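import Groth.Agent.H26Gr.QuotBC
import Mathlib.AlgebraicGeometry.Pullbacks

/-!
# Base change of Grassmannians
-/

set_option autoImplicit false
set_option backward.isDefEq.respectTransparency false
set_option backward.isDefEq.respectTransparency.types false

universe u

open CategoryTheory CategoryTheory.Limits AlgebraicGeometry Grass

namespace Groth.Agent.H26Gr

noncomputable section

variable {X G : Scheme.{u}} {π : G ⟶ X} {r : ℕ} {Q : G.Modules}

/-- Grassmannians are invariant under isomorphisms of modules. -/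
theorem isGrass_of_iso {E E' : X.Modules} (e : E' ≅ E) {q : (Scheme.Modules.pullback π).obj E ⟶ Q}
    (h : IsGrass π E r Q q) : IsGrass π E' r Q ((Scheme.Modules.pullback π).map e.hom ≫ q) where
  rank := h.rank
  epi := by haveI := h.epi; infer_instance
  univ T g L hL s hs := by
    haveI := hs
    have key : ∀ (h' : T ⟶ G) (hg : h' ≫ π = g), quotBC hg ((Scheme.Modules.pullback π).map e.hom ≫ q) =
        (Scheme.Modules.pullback g).map e.hom ≫ quotBC hg q := fun h' hg => by
      subst hg
      simp [quotBC]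
    obtain ⟨h', ⟨hg, a, ha⟩, hu⟩ := h.univ T g L hL ((Scheme.Modules.pullback g).map e.inv ≫ s) inferInstance
    refine ⟨h', ⟨hg, a, ?_⟩, fun h'' ⟨hg', a', ha'⟩ => hu h'' ⟨hg', a', ?_⟩⟩
    · rw [key, Category.assoc, ha, ← Functor.map_comp_assoc, Iso.hom_inv_id, CategoryTheory.Functor.map_id,
        Category.id_comp]
    · rw [key, Category.assoc] at ha'
      rw [← ha', ← Functor.map_comp_assoc, Iso.inv_hom_id, CategoryTheory.Functor.map_id, Category.id_comp]

/-- Grassmannians commute with base change. -/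
theorem isGrass_pullback {X' : Scheme.{u}} (f : X' ⟶ X) {E : X.Modules} {q : (Scheme.Modules.pullback π).obj E ⟶ Q}
    (hG : IsGrass π E r Q q) :
    ∃ q' : (Scheme.Modules.pullback (pullback.snd π f)).obj ((Scheme.Modules.pullback f).obj E) ⟶
        (Scheme.Modules.pullback (pullback.fst π f)).obj Q,
      IsGrass (pullback.snd π f) ((Scheme.Modules.pullback f).obj E) r
        ((Scheme.Modules.pullback (pullback.fst π f)).obj Q) q' := by
  let p₁ := pullback.fst π f
  let p₂ := pullback.snd π f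
  let c := quotBC (rfl : p₂ ≫ f = p₂ ≫ f) (𝟙 ((Scheme.Modules.pullback f).obj E))
  haveI : IsIso c := isIso_quotBC _ _
  haveI := hG.epi
  let q' := inv c ≫ quotBC (show p₁ ≫ π = p₂ ≫ f from pullback.condition) q
  have hq' : c ≫ q' = quotBC (show p₁ ≫ π = p₂ ≫ f from pullback.condition) q := IsIso.hom_inv_id_assoc _ _
  refine ⟨q', isFinLocFreeOfRank_pullback p₁ hG.rank, ?_, fun T g L hL s hs => ?_⟩
  · haveI := epi_quotBC (show p₁ ≫ π = p₂ ≫ f from pullback.condition) q
    exact epi_comp _ _
  · haveI := hs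
    let a := quotBC (rfl : g ≫ f = g ≫ f) (𝟙 ((Scheme.Modules.pullback f).obj E))
    haveI : IsIso a := isIso_quotBC _ _
    -- the quotient pulled back along a map into the fibre product, as a quotient of `E`
    have key : ∀ (h : T ⟶ pullback π f) (hg : h ≫ p₂ = g),
        a ≫ quotBC hg q' = quotBC (show h ≫ p₂ ≫ f = g ≫ f by rw [← Category.assoc, hg])
          (quotBC (show p₁ ≫ π = p₂ ≫ f from pullback.condition) q) := fun h hg => by
      have := quotBC_quotBC (π := p₂ ≫ f) rfl (𝟙 _) q' hg (rfl : g ≫ f = g ≫ f)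
      simp only [show quotBC (rfl : p₂ ≫ f = p₂ ≫ f) (𝟙 _) = c from rfl, hq'] at this
      exact this
    have key2 : ∀ (h : T ⟶ pullback π f) (hg : h ≫ p₂ = g) (h₀ : T ⟶ G) (hh : h ≫ p₁ = h₀),
        ∃ i : (Scheme.Modules.pullback h₀).obj Q ≅ (Scheme.Modules.pullback h).obj ((Scheme.Modules.pullback p₁).obj Q),
          quotBC (show h₀ ≫ π = g ≫ f by rw [← hh, Category.assoc, pullback.condition, ← Category.assoc, hg]) q ≫ i.hom =
            a ≫ quotBC hg q' := fun h hg h₀ hh => by
      haveI := isIso_quotBC hh (𝟙 ((Scheme.Modules.pullback p₁).obj Q))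
      refine ⟨asIso (quotBC hh (𝟙 ((Scheme.Modules.pullback p₁).obj Q))), ?_⟩
      rw [key h hg]
      have := quotBC_quotBC (π := p₂ ≫ f) (show p₁ ≫ π = p₂ ≫ f from pullback.condition) q (𝟙 _) hh
        (show h₀ ≫ π = g ≫ f by rw [← hh, Category.assoc, pullback.condition, ← Category.assoc, hg])
      rw [Category.comp_id] at this
      exact this
    obtain ⟨h₀, ⟨hh₀, e, he⟩, hu⟩ := hG.univ T (g ≫ f) L hL (a ≫ s) inferInstance
    let h := pullback.lift h₀ g hh₀
    have hg : h ≫ p₂ = g := pullback.lift_snd _ _ _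
    obtain ⟨i, hi⟩ := key2 h hg h₀ (pullback.lift_fst _ _ _)
    refine ⟨h, ⟨hg, i.symm ≪≫ e, ?_⟩, fun h' ⟨hg', e', he'⟩ => ?_⟩
    · rw [← cancel_epi a, ← Category.assoc, ← hi, Iso.trans_hom, Iso.symm_hom, Category.assoc, Iso.hom_inv_id_assoc,
        he]
    · obtain ⟨i', hi'⟩ := key2 h' hg' (h' ≫ p₁) rfl
      refine pullback.hom_ext ?_ (hg'.trans hg.symm)
      refine Eq.trans (hu (h' ≫ p₁) ⟨by rw [Category.assoc, pullback.condition, ← Category.assoc, hg'], i' ≪≫ e', ?_⟩)
        (pullback.lift_fst _ _ _).symm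
      rw [Iso.trans_hom, ← Category.assoc, hi', Category.assoc, he']

end

end Groth.Agent.H26Gr
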