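import Groth.Agent.H26Gr.FreeProper
import Groth.Agent.H26Gr.GrassBC

/-!
# Grassmannians of locally free modules
-/

set_option autoImplicit false
set_option backward.isDefEq.respectTransparency false
set_option backward.isDefEq.respectTransparency.types false

universe u

open CategoryTheory CategoryTheory.Limits AlgebraicGeometry Grass

namespace Groth.Agent.H26Gr

noncomputable section

variable {X G : Scheme.{u}} {π : G ⟶ X} {E : X.Modules} {N r : ℕ} {Q : G.Modules}
  {q : (Scheme.Modules.pullback π).obj E ⟶ Q}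

/-- An affine open covering trivializing a locally free module, with the Grassmannians over its members. -/
theorem exists_free_cover (hE : FlatMod.IsFinLocFreeOfRank N E) (h : IsGrass π E r Q q) :
    ∃ 𝒰 : Scheme.OpenCover.{u} X, ∀ i, IsAffine (𝒰.X i) ∧ ∃ (Q' : (pullback π (𝒰.f i)).Modules)
      (q' : (Scheme.Modules.pullback (pullback.snd π (𝒰.f i))).obj (FlatMod.freeMod (𝒰.X i) N) ⟶ Q'),
        IsGrass (pullback.snd π (𝒰.f i)) (FlatMod.freeMod (𝒰.X i) N) r Q' q' := by
  have key : ∀ x : X, ∃ W : X.Opens, x ∈ W ∧ IsAffineOpen W ∧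
      Nonempty (FlatMod.freeMod (W : Scheme.{u}) N ≅ (Scheme.Modules.pullback W.ι).obj E) := by
    intro x
    obtain ⟨U, hxU, ⟨e⟩⟩ := exists_chart_iso hE x
    obtain ⟨_, ⟨W, hW, rfl⟩, hxW, hWU⟩ := X.isBasis_affineOpens.exists_subset_of_mem_open hxU U.2
    let i := X.homOfLE (show W ≤ U from hWU)
    haveI := isIso_quotBC (X.homOfLE_ι (show W ≤ U from hWU)) (𝟙 ((Scheme.Modules.pullback U.ι).obj E))
    exact ⟨W, hxW, hW, ⟨(H16Derived.KFlat.Stalk.freeModPullbackIso i N).symm ≪≫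
      (Scheme.Modules.pullback i).mapIso e.symm ≪≫
      (asIso (quotBC (X.homOfLE_ι (show W ≤ U from hWU)) (𝟙 ((Scheme.Modules.pullback U.ι).obj E)))).symm⟩⟩
  choose W hW hWa hWe using key
  have hc : TopologicalSpace.IsOpenCover W :=
    eq_top_iff.2 fun x _ => TopologicalSpace.Opens.mem_iSup.2 ⟨x, hW x⟩
  refine ⟨X.openCoverOfIsOpenCover W hc, fun i => ⟨hWa i, ?_⟩⟩
  obtain ⟨q', hq'⟩ := isGrass_pullback (W i).ι h
  exact ⟨_, _, isGrass_of_iso (hWe i).some hq'⟩

theorem smooth_locFree (hE : FlatMod.IsFinLocFreeOfRank N E) (h : IsGrass π E r Q q) :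
    SmoothOfRelativeDimension (r * (N - r)) π := by
  obtain ⟨𝒰, h𝒰⟩ := exists_free_cover hE h
  refine (IsZariskiLocalAtTarget.iff_of_openCover (P := @SmoothOfRelativeDimension (r * (N - r))) 𝒰).2 fun i => ?_
  obtain ⟨-, Q', q', hq'⟩ := h𝒰 i
  exact smooth_free hq'

theorem surjective_locFree (hE : FlatMod.IsFinLocFreeOfRank N E) (h : IsGrass π E r Q q) (hr : r ≤ N) :
    Surjective π := by
  obtain ⟨𝒰, h𝒰⟩ := exists_free_cover hE h
  refine (IsZariskiLocalAtTarget.iff_of_openCover (P := @Surjective) 𝒰).2 fun i => ?_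
  obtain ⟨-, Q', q', hq'⟩ := h𝒰 i
  exact surjective_free hq' hr

theorem isProper_locFree (hE : FlatMod.IsFinLocFreeOfRank N E) (h : IsGrass π E r Q q) : IsProper π := by
  obtain ⟨𝒰, h𝒰⟩ := exists_free_cover hE h
  refine (IsZariskiLocalAtTarget.iff_of_openCover (P := @IsProper) 𝒰).2 fun i => ?_
  obtain ⟨ha, Q', q', hq'⟩ := h𝒰 i
  exact isProper_free hq'

end

end Groth.Agent.H26Gr
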