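import Groth.Agent.H8Props.FunDescent.PullHom
import Groth.Agent.H8Props.FinLocFree.Sheaf
import Groth.Agent.H19Grp.PiClosed
import Groth.Agent.H29Fitt.PullbackQCoh

/-!
# The vanishing locus of a map into a finite locally free module
-/

set_option autoImplicit false
set_option backward.isDefEq.respectTransparency false
set_option backward.isDefEq.respectTransparency.types false

universe u

open CategoryTheory AlgebraicGeometry TensorProduct

namespace Groth.Agent.H26Gr

/-- The ideal where a linear map into a finite projective module vanishes. -/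
def lvanIdeal {A : Type u} [CommRing A] {M N : Type u} [AddCommGroup M] [Module A M] [AddCommGroup N] [Module A N]
    (f : M →ₗ[A] N) : Ideal A :=
  Ideal.span {a | ∃ (x : M) (l : N →ₗ[A] A), a = l (f x)}

theorem lTensor_eq_zero_iff {A C : Type u} [CommRing A] [CommRing C] [Algebra A C] {M N : Type u}
    [AddCommGroup M] [Module A M] [AddCommGroup N] [Module A N] [Module.Finite A N] [Module.Projective A N]
    (f : M →ₗ[A] N) : f.lTensor C = 0 ↔ lvanIdeal f ≤ RingHom.ker (algebraMap A C) := by
  constructor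
  · intro h
    rw [lvanIdeal, Ideal.span_le]
    rintro _ ⟨x, l, rfl⟩
    have h3 := congrArg (TensorProduct.rid A C ∘ l.lTensor C) (congr($h ((1 : C) ⊗ₜ x)))
    simp only [Function.comp_apply, LinearMap.lTensor_tmul, rid_tmul, LinearMap.zero_apply, map_zero] at h3
    rw [Algebra.smul_def, mul_one] at h3
    exact RingHom.mem_ker.2 h3
  · intro h
    obtain ⟨n, r, hr⟩ := Module.Finite.exists_fin' A N
    obtain ⟨s, hs⟩ := Module.projective_lifting_property r LinearMap.id hr
    refine TensorProduct.ext' fun c x => ?_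
    rw [LinearMap.lTensor_tmul, LinearMap.zero_apply, ← show r (s (f x)) = f x from congr($hs (f x)),
      pi_eq_sum_univ' (s (f x)), map_sum, tmul_sum]
    refine Finset.sum_eq_zero fun i _ => ?_
    rw [map_smul, ← smul_tmul]
    have h0 : algebraMap A C (s (f x) i) = 0 :=
      RingHom.mem_ker.mp (h (Ideal.subset_span ⟨x, (LinearMap.proj i).comp s, rfl⟩))
    rw [Algebra.smul_def, h0, zero_mul, zero_tmul]

open H8Props in
/-- The vanishing locus of a map of quasi-coherent modules into a finite locally free one. -/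
theorem exists_vanishing_locus {S : Scheme.{u}} {E F : S.Modules} (hE : Coh.IsQCoh E) (hF : FlatMod.IsFinLocFree F)
    (v : E ⟶ F) :
    ∃ I : S.IdealSheafData, ∀ (T : Scheme.{u}) (f : T ⟶ S),
      (∃ g : T ⟶ I.subscheme, g ≫ I.subschemeι = f) ↔ (Scheme.Modules.pullback f).map v = 0 := by
  have hFq : Coh.IsQCoh F := FinLocFree.isQCoh_of_isFinLocFree F hF
  let Iw : ∀ W : S.affineOpens, Ideal Γ(S, W.1) := fun W => lvanIdeal (FunDescent.secLin v W.1)
  -- the criterion on affine pieces
  have hloc : ∀ (T : Scheme.{u}) (f : T ⟶ S) (W : S.affineOpens) (V : T.affineOpens) (h : V.1 ≤ f ⁻¹ᵁ W.1),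
      (∀ m, ((Scheme.Modules.pullback f).map v).app V.1 m = 0) ↔ Iw W ≤ RingHom.ker (f.appLE W.1 V.1 h).hom := by
    intro T f W V h
    letI := (f.appLE W.1 V.1 h).hom.toAlgebra
    haveI := (FinLocFree.finite_projective_sections F hF W.2).1
    haveI := (FinLocFree.finite_projective_sections F hF W.2).2
    exact (FunDescent.app_eq_zero_iff f v h W.2 V.2 hE hFq).symm.trans (lTensor_eq_zero_iff _)
  have hglob : ∀ (T : Scheme.{u}) (f : T ⟶ S),
      (Scheme.Modules.pullback f).map v = 0 ↔
        ∀ (W : S.affineOpens) (V : T.affineOpens) (h : V.1 ≤ f ⁻¹ᵁ W.1), Iw W ≤ RingHom.ker (f.appLE W.1 V.1 h).hom := by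
    intro T f
    constructor
    · exact fun h W V hVW => (hloc T f W V hVW).1 fun m => by rw [h]; rfl
    · intro h
      rw [FunDescent.eq_zero_iff]
      intro x
      obtain ⟨W, hW, hxW, -⟩ := exists_isAffineOpen_mem_and_subset (x := f x) (U := (⊤ : S.Opens)) trivial
      obtain ⟨V, hV, hxV, hVW⟩ := exists_isAffineOpen_mem_and_subset (x := x) (U := f ⁻¹ᵁ W) hxW
      exact FunDescent.stalkLin_eq_zero_of_app _ hV hxV (H29Fitt.isQCoh_pullback f E hE)
        ((hloc T f ⟨W, hW⟩ ⟨V, hV⟩ hVW).2 (h ⟨W, hW⟩ ⟨V, hV⟩ hVW))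
  have hKW : ∀ (W : S.affineOpens) {C : CommRingCat.{u}} (φ : Γ(S, W.1) ⟶ C),
      (Scheme.Modules.pullback (Spec.map φ ≫ W.2.fromSpec)).map v = 0 ↔ Iw W ≤ RingHom.ker φ.hom := by
    intro W C φ
    let g := Spec.map φ ≫ W.2.fromSpec
    have hle : (⊤ : (Spec C).Opens) ≤ g ⁻¹ᵁ W.1 := fun x _ =>
      (W.2.range_fromSpec.le ⟨Spec.map φ x, rfl⟩ : g x ∈ W.1)
    have happ : g.appLE W.1 ⊤ hle = φ ≫ (Scheme.ΓSpecIso C).inv := by
      rw [Scheme.Hom.comp_appLE, W.2.fromSpec_app_self]
      simp [Scheme.Hom.appLE]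
      rw [← Functor.map_comp, Subsingleton.elim (_ ≫ _) (𝟙 _)]
      erw [CategoryTheory.Functor.map_id, Category.comp_id]
    have hkerφ : RingHom.ker (g.appLE W.1 ⊤ hle).hom = RingHom.ker φ.hom := by
      rw [happ, CommRingCat.hom_comp]
      exact RingHom.ker_comp_of_injective _ (ConcreteCategory.bijective_of_isIso (Scheme.ΓSpecIso C).inv).injective
    constructor
    · intro h
      exact hkerφ ▸ (hglob _ g).1 h W ⟨⊤, isAffineOpen_top _⟩ hle
    · intro h
      rw [FunDescent.eq_zero_iff]
      intro x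
      exact FunDescent.stalkLin_eq_zero_of_app _ (isAffineOpen_top _) trivial (H29Fitt.isQCoh_pullback g E hE)
        ((hloc _ g W ⟨⊤, isAffineOpen_top _⟩ hle).2 (hkerφ.symm ▸ h))
  let J : S.IdealSheafData :=
    { ideal := Iw
      map_ideal_basicOpen := fun W r => by
        let W' := S.affineBasicOpen r
        let res := S.presheaf.map (homOfLE (S.basicOpen_le r)).op
        have hres : Spec.map res ≫ W.2.fromSpec = W'.2.fromSpec :=
          W.2.map_fromSpec W'.2 (homOfLE (S.basicOpen_le r)).op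
        have key : ∀ J : Ideal Γ(S, W'.1), (Iw W).map res.hom ≤ J ↔ Iw W' ≤ J := by
          intro J
          let q : Γ(S, W'.1) ⟶ CommRingCat.of (Γ(S, W'.1) ⧸ J) :=
            CommRingCat.ofHom (Ideal.Quotient.mk J)
          have hq : RingHom.ker q.hom = J := Ideal.mk_ker
          have h1 := hKW W' q
          have h2 := hKW W (res ≫ q)
          rw [Spec.map_comp, Category.assoc, hres, h1, hq, CommRingCat.hom_comp, ← RingHom.comap_ker, hq,
            ← Ideal.map_le_iff_le_comap] at h2
          exact h2.symm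
        exact le_antisymm ((key _).mpr le_rfl) ((key _).mp le_rfl) }
  refine ⟨J, fun T f => ?_⟩
  rw [hglob]
  constructor
  · rintro ⟨g, hg⟩ W V hVW y hy
    have hle : J ≤ f.ker := by
      rw [← hg]
      exact le_of_eq_of_le J.ker_subschemeι.symm (Scheme.Hom.le_ker_comp _ _)
    have := f.ideal_ker_le W (hle W hy)
    rw [RingHom.mem_ker] at this ⊢
    rw [Scheme.Hom.appLE, CommRingCat.hom_comp, RingHom.comp_apply, this, map_zero]
  · intro h
    refine ⟨IsClosedImmersion.lift J.subschemeι f ?_, IsClosedImmersion.lift_fac _ _ _⟩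
    rw [Scheme.IdealSheafData.ker_subschemeι]
    exact H19Grp.le_ker_of_forall_appLE _ _ fun W V hVW => h W V hVW

end Groth.Agent.H26Gr
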