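import Groth.Agent.H26Gr.QuotBC
import Groth.Agent.H26Gr.VanLocus
import Groth.Agent.H10Coh.QCohOps

/-!
# The closed immersion of Grassmannians of an epimorphism
-/

set_option autoImplicit false
set_option backward.isDefEq.respectTransparency false
set_option backward.isDefEq.respectTransparency.types false

universe u

open CategoryTheory CategoryTheory.Limits AlgebraicGeometry Grass

namespace Groth.Agent.H26Gr

noncomputable section

variable {X G T : Scheme.{u}} {π : G ⟶ X} {E E' : X.Modules} {Q : G.Modules}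

theorem quotBC_pre {h : T ⟶ G} {g : T ⟶ X} (hg : h ≫ π = g) (w : E' ⟶ E)
    (q : (Scheme.Modules.pullback π).obj E ⟶ Q) :
    quotBC hg ((Scheme.Modules.pullback π).map w ≫ q) = (Scheme.Modules.pullback g).map w ≫ quotBC hg q := by
  subst hg
  simp only [quotBC, Scheme.Modules.pullbackCongr, eqToIso.inv, eqToHom_refl, NatTrans.id_app, Category.id_comp,
    Functor.map_comp]
  exact ((Scheme.Modules.pullbackComp h π).inv.naturality_assoc w _).symm

theorem quotBC_congr {h h' : T ⟶ G} {g : T ⟶ X} (hg : h ≫ π = g) (hh : h = h')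
    (q : (Scheme.Modules.pullback π).obj E ⟶ Q) :
    quotBC hg q ≫ (Scheme.Modules.pullbackCongr hh).hom.app Q = quotBC (hh ▸ hg : h' ≫ π = g) q := by
  subst hh
  simp [Scheme.Modules.pullbackCongr]

/-- The pullback of a cokernel. -/
theorem exists_desc_pullback (f : T ⟶ X) (v : E ⟶ E') [Epi v] {L : T.Modules}
    (s : (Scheme.Modules.pullback f).obj E ⟶ L)
    (h : (Scheme.Modules.pullback f).map (kernel.ι v) ≫ s = 0) :
    ∃ t, (Scheme.Modules.pullback f).map v ≫ t = s := by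
  let F := Scheme.Modules.pullback f
  haveI : PreservesColimitsOfSize.{0, 0} F :=
    (Scheme.Modules.pullbackPushforwardAdjunction f).leftAdjoint_preservesColimits
  haveI : F.PreservesZeroMorphisms := Functor.preservesZeroMorphisms_of_isLeftAdjoint F
  have hc := CokernelCofork.mapIsColimit _ (Abelian.epiIsCokernelOfKernel (KernelFork.ofι (kernel.ι v) (kernel.condition v))
    (kernelIsKernel v)) F
  obtain ⟨t, ht⟩ := CokernelCofork.IsColimit.desc' hc s h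
  exact ⟨t, ht⟩

variable {G₁ G₂ : Scheme.{u}} {π₁ : G₁ ⟶ X} {π₂ : G₂ ⟶ X} {E₁ E₂ : X.Modules} {e : ℕ} {Q₁ : G₁.Modules}
  {q₁ : (Scheme.Modules.pullback π₁).obj E₁ ⟶ Q₁} {Q₂ : G₂.Modules} {q₂ : (Scheme.Modules.pullback π₂).obj E₂ ⟶ Q₂}

theorem isClosedImmersion_mapOfEpi (hE₁ : Coh.IsQCoh E₁) (hE₂ : Coh.IsQCoh E₂) (v : E₁ ⟶ E₂) [Epi v]
    (hG₁ : IsGrass π₁ E₁ e Q₁ q₁) (hG₂ : IsGrass π₂ E₂ e Q₂ q₂) : IsClosedImmersion (hG₁.mapOfEpi hG₂ v) := by
  let φ : (Scheme.Modules.pullback π₁).obj (kernel v) ⟶ Q₁ := (Scheme.Modules.pullback π₁).map (kernel.ι v) ≫ q₁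
  have hQ : FlatMod.IsFinLocFree Q₁ := fun x => let ⟨U, hx, h⟩ := hG₁.rank x; ⟨U, e, hx, h⟩
  haveI : E₁.IsQuasicoherent := hE₁
  haveI : E₂.IsQuasicoherent := hE₂
  obtain ⟨I, hI⟩ := exists_vanishing_locus
    (H29Fitt.isQCoh_pullback π₁ _ (H10Coh.isQuasicoherent_kernel v)) hQ φ
  let ι := I.subschemeι
  set m := hG₁.mapOfEpi hG₂ v with hm
  have hmπ : m ≫ π₁ = π₂ := hG₁.mapOfEpi_comp hG₂ v
  obtain ⟨ψ, hψ⟩ : ∃ ψ : (Scheme.Modules.pullback m).obj Q₁ ≅ Q₂,
      quotBC hmπ q₁ ≫ ψ.hom = (Scheme.Modules.pullback π₂).map v ≫ q₂ :=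
    ⟨_, hG₁.quotBC_liftIso _ _ _ _ _⟩
  have hψT : ∀ {T : Scheme.{u}} (a : T ⟶ G₂) (g₀ : T ⟶ X) (ha : a ≫ π₂ = g₀),
      quotBC (show (a ≫ m) ≫ π₁ = g₀ by rw [Category.assoc, hmπ, ha]) q₁ ≫ quotBC (rfl : a ≫ m = a ≫ m) ψ.hom =
        (Scheme.Modules.pullback g₀).map v ≫ quotBC ha q₂ := fun a g₀ ha => by
    have := quotBC_quotBC (π := π₂) hmπ q₁ ψ.hom (rfl : a ≫ m = a ≫ m) (g' := g₀)
      (by rw [Category.assoc, hmπ, ha])
    simp only [hψ] at this
    rw [this, quotBC_pre]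
  -- it lands in the vanishing locus
  obtain ⟨g, hg⟩ := (hI G₂ m).2 (by
    have h0 : quotBC hmπ φ = 0 := by
      rw [quotBC_pre, show quotBC hmπ q₁ = ((Scheme.Modules.pullback π₂).map v ≫ q₂) ≫ ψ.inv by
        rw [← hψ, Category.assoc, Iso.hom_inv_id, Category.comp_id]]
      rw [Category.assoc, ← Functor.map_comp_assoc, kernel.condition]
      haveI : (Scheme.Modules.pullback π₂).PreservesZeroMorphisms := Functor.preservesZeroMorphisms_of_isLeftAdjoint _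
      rw [Functor.map_zero, zero_comp]
    rw [quotBC, ← Category.assoc] at h0
    rwa [← cancel_epi ((Scheme.Modules.pullbackCongr hmπ).inv.app (kernel v) ≫
      (Scheme.Modules.pullbackComp m π₁).inv.app (kernel v)), comp_zero])
  -- the inverse
  let ρ := ι ≫ π₁
  have hz : (Scheme.Modules.pullback ρ).map (kernel.ι v) ≫ quotBC (rfl : ι ≫ π₁ = ρ) q₁ = 0 := by
    rw [← quotBC_pre]
    show _ ≫ _ ≫ (Scheme.Modules.pullback ι).map φ = 0
    rw [(hI _ ι).1 ⟨𝟙 _, Category.id_comp _⟩, comp_zero, comp_zero]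
  obtain ⟨s, hs⟩ := exists_desc_pullback ρ v _ hz
  have hs' : Epi s := by
    haveI := hG₁.epi
    haveI : Epi ((Scheme.Modules.pullback ρ).map v ≫ s) := by rw [hs]; exact epi_quotBC _ _
    exact epi_of_epi ((Scheme.Modules.pullback ρ).map v) s
  have hL := isFinLocFreeOfRank_pullback ι hG₁.rank
  let k := hG₂.lift ρ _ hL s hs'
  have hkm : k ≫ m = ι := by
    have hk := hG₂.lift_comp ρ _ hL s hs'
    have hk' : (k ≫ m) ≫ π₁ = ρ := by rw [Category.assoc, hmπ]; exact hk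
    haveI := isIso_quotBC (rfl : k ≫ m = k ≫ m) ψ.hom
    refine (hG₁.univ _ ρ _ hL _ (by haveI := hG₁.epi; exact epi_quotBC rfl q₁)).unique
      ⟨hk', asIso (quotBC (rfl : k ≫ m = k ≫ m) ψ.hom) ≪≫ hG₂.liftIso ρ _ hL s hs', ?_⟩
      ⟨rfl, Iso.refl _, Category.comp_id _⟩
    rw [Iso.trans_hom, asIso_hom, ← Category.assoc, hψT k ρ hk, Category.assoc, hG₂.quotBC_liftIso, hs]
  have hmono : ∀ {T : Scheme.{u}} (a b : T ⟶ G₂), a ≫ m = b ≫ m → a = b := fun a b hab => by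
    have hb : b ≫ π₂ = a ≫ π₂ := by rw [← hmπ, ← Category.assoc, ← hab, Category.assoc]
    have h1 := hψT a _ rfl
    have h2 := hψT b _ hb
    haveI := isIso_quotBC (rfl : a ≫ m = a ≫ m) ψ.hom
    haveI := isIso_quotBC (rfl : b ≫ m = b ≫ m) ψ.hom
    haveI := epi_pullback_map (a ≫ π₂) v
    let χ : (Scheme.Modules.pullback b).obj Q₂ ≅ (Scheme.Modules.pullback a).obj Q₂ :=
      (asIso (quotBC (rfl : b ≫ m = b ≫ m) ψ.hom)).symm ≪≫ (Scheme.Modules.pullbackCongr hab.symm).app Q₁ ≪≫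
        asIso (quotBC (rfl : a ≫ m = a ≫ m) ψ.hom)
    refine (hG₂.univ _ (a ≫ π₂) _ (isFinLocFreeOfRank_pullback a hG₂.rank) (quotBC rfl q₂)
      (by haveI := hG₂.epi; exact epi_quotBC _ _)).unique ⟨rfl, Iso.refl _, Category.comp_id _⟩
      ⟨hb, χ, ?_⟩
    rw [← cancel_epi ((Scheme.Modules.pullback (a ≫ π₂)).map v), ← h1, ← Category.assoc, ← h2]
    simp only [χ, Iso.trans_hom, Iso.symm_hom, asIso_inv, asIso_hom, Category.assoc, IsIso.hom_inv_id_assoc]
    have h3 := congrArg (· ≫ quotBC (rfl : a ≫ m = a ≫ m) ψ.hom)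
      (quotBC_congr (show (b ≫ m) ≫ π₁ = a ≫ π₂ by rw [Category.assoc, hmπ, hb]) hab.symm q₁)
    simp only [quotBC, Category.assoc] at h3 ⊢
    exact h3
  have hmι : Mono ι := inferInstance
  haveI : IsIso g := ⟨k, hmono _ _ (by rw [Category.assoc, hkm, hg, Category.id_comp]),
    (cancel_mono ι).1 (by rw [Category.assoc, hg, hkm, Category.id_comp])⟩
  rw [← hg]
  infer_instance

end

end Groth.Agent.H26Gr
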