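import Groth.Agent.H26Gr.QuotBC
import Groth.Agent.H11Sym.BundleTaut
import Groth.Agent.H17.PullSect
import Groth.Agent.H22Alg.ExtPowSum
import Groth.Agent.H06Mod.StalkPullback
import Groth.Agent.H26Gr.Kers

/-!
# Bases of stalks and base change of quotients on stalks
-/

set_option autoImplicit false
set_option backward.isDefEq.respectTransparency false
set_option backward.isDefEq.respectTransparency.types false

universe u

open CategoryTheory CategoryTheory.Limits AlgebraicGeometry Grass TensorProduct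
open Groth.Agent.H06Mod

namespace Groth.Agent.H26Gr

noncomputable section

variable {X T G : Scheme.{u}}

theorem exists_germBasis {F : X.Modules} (hF : Coh.IsQCoh F) {U : X.Opens} (hU : IsAffineOpen U) {r : ℕ}
    (b : Module.Basis (Fin r) Γ(X, U) Γ(F, U)) {x : X} (hx : x ∈ U) :
    ∃ β : Module.Basis (Fin r) (X.presheaf.stalk x) (F.presheaf.stalk x), ∀ k, β k = F.presheaf.germ U x hx (b k) := by
  letI := TopCat.Presheaf.algebra_section_stalk X.presheaf (⟨x, hx⟩ : U)
  letI := Module.compHom (F.presheaf.stalk x) (algebraMap Γ(X, U) (X.presheaf.stalk x))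
  haveI : IsScalarTower Γ(X, U) (X.presheaf.stalk x) (F.presheaf.stalk x) :=
    .of_algebraMap_smul fun _ _ => rfl
  haveI : IsLocalization (hU.primeIdealOf ⟨x, hx⟩).asIdeal.primeCompl (X.presheaf.stalk x) :=
    hU.isLocalization_stalk ⟨x, hx⟩
  haveI : IsLocalizedModule (hU.primeIdealOf ⟨x, hx⟩).asIdeal.primeCompl (H29Fitt.germLin F (⟨x, hx⟩ : U)) :=
    H29Fitt.isLocalizedModule_germLin F hF hU ⟨x, hx⟩
  exact ⟨b.ofIsLocalizedModule (X.presheaf.stalk x) (hU.primeIdealOf ⟨x, hx⟩).asIdeal.primeCompl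
    (H29Fitt.germLin F (⟨x, hx⟩ : U)), fun k => Module.Basis.ofIsLocalizedModule_apply _ _ _ _ k⟩

attribute [local instance] stalkAlgebra

theorem exists_pullBasis (f : T ⟶ X) (M : X.Modules) (y : T) {r : ℕ}
    (β : Module.Basis (Fin r) (X.presheaf.stalk (f y)) (M.presheaf.stalk (f y))) :
    ∃ γ : Module.Basis (Fin r) (T.presheaf.stalk y) (((Scheme.Modules.pullback f).obj M).presheaf.stalk y),
      ∀ k, γ k = pullStalk f M y (β k) := by
  refine ⟨(β.baseChange (T.presheaf.stalk y)).map (pullStalkEquiv f M y), fun k => ?_⟩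
  rw [Module.Basis.map_apply, Module.Basis.baseChange_apply]
  show pullStalkLin f M y ((1 : T.presheaf.stalk y) ⊗ₜ β k) = _
  rw [pullStalkLin_tmul, one_smul]

theorem pullStalk_sum_smul (f : T ⟶ X) (M : X.Modules) (y : T) {κ : Type*} [Fintype κ]
    (c : κ → X.presheaf.stalk (f y)) (v : κ → M.presheaf.stalk (f y)) :
    pullStalk f M y (∑ l, c l • v l) = ∑ l, (f.stalkMap y).hom (c l) • pullStalk f M y (v l) := by
  rw [map_sum]
  exact Finset.sum_congr rfl fun l _ => pullStalk_smul f M y (c l) (v l)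

/-- Base change of a map on the stalks, on pulled back sections. -/
theorem stalk_quotBC_pullSect {π : G ⟶ X} {E : X.Modules} {Q : G.Modules}
    (q : (Scheme.Modules.pullback π).obj E ⟶ Q) {h : T ⟶ G} {g : T ⟶ X} (hg : h ≫ π = g) (U : X.Opens)
    (m : Γ(E, U)) (y : T) (hy : g y ∈ U) :
    stalkLin (quotBC hg q) y
        (((Scheme.Modules.pullback g).obj E).presheaf.germ (g ⁻¹ᵁ U) y hy (OmegaSh.pullSect g E U m)) =
      pullStalk h Q y (Q.presheaf.germ (π ⁻¹ᵁ U) (h y)
        (show π (h y) ∈ U by rw [← Scheme.Hom.comp_apply, hg]; exact hy)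
        (q.app (π ⁻¹ᵁ U) (OmegaSh.pullSect π E U m))) := by
  subst hg
  rw [stalkLin_germ, pullStalk_germ]
  refine congrArg _ ?_
  simp only [quotBC, Scheme.Modules.pullbackCongr, eqToIso.inv, eqToHom_refl, NatTrans.id_app, Category.id_comp]
  refine (congrArg (((Scheme.Modules.pullback h).map q).app _) (H11Sym.pullSect_comp h π E U m)).trans ?_
  exact (H17.PullSect.pullSect_natural h q (π ⁻¹ᵁ U) _).symm

/-- Pulled-back sections of a basis give a basis of the stalk. -/
theorem exists_basis_pullSect (f : T ⟶ X) {E : X.Modules} (hE : Coh.IsQCoh E) {U : X.Opens} (hU : IsAffineOpen U)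
    {n : ℕ} (b : Module.Basis (Fin n) Γ(X, U) Γ(E, U)) (y : T) (hy : f y ∈ U) :
    ∃ γ : Module.Basis (Fin n) (T.presheaf.stalk y) (((Scheme.Modules.pullback f).obj E).presheaf.stalk y),
      ∀ i, γ i = ((Scheme.Modules.pullback f).obj E).presheaf.germ (f ⁻¹ᵁ U) y hy (OmegaSh.pullSect f E U (b i)) := by
  obtain ⟨β, hβ⟩ := exists_germBasis hE hU b hy
  obtain ⟨γ, hγ⟩ := exists_pullBasis f E y β
  exact ⟨γ, fun i => by rw [hγ, hβ, pullStalk_germ]⟩

end

end Groth.Agent.H26Gr
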