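import Groth.Agent.H26Gr.PlAlg
import Groth.Agent.H26Gr.PlStalk
import Groth.Agent.H26Gr.FlagExist
import Groth.Agent.H22Alg.PB.Push
import Mathlib.AlgebraicGeometry.ZariskisMainTheorem

/-!
# The Plücker morphism to the projective bundle of an exterior power
-/

set_option autoImplicit false
set_option backward.isDefEq.respectTransparency false
set_option backward.isDefEq.respectTransparency.types false

universe u

open CategoryTheory CategoryTheory.Limits AlgebraicGeometry Grass TensorProduct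
open Groth.Agent.H06Mod Groth.Agent.H22Alg

namespace Groth.Agent.H26Gr

noncomputable section

theorem bijective_smul_top {R M : Type u} [CommRing R] [AddCommGroup M] [Module R M] {r : ℕ}
    (b : Module.Basis (Fin r) R M) :
    (∀ y, exteriorPower.ιMulti R r y = b.det y • exteriorPower.ιMulti R r b) ∧
      Function.Bijective fun c : R => c • exteriorPower.ιMulti R r b := by
  have h1 : ∀ y, exteriorPower.ιMulti R r y = b.det y • exteriorPower.ιMulti R r b := by
    intro y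
    let f : M [⋀^Fin r]→ₗ[R] ⋀[R]^r M :=
      (LinearMap.id.smulRight (exteriorPower.ιMulti R r b)).compAlternatingMap b.det
    suffices exteriorPower.ιMulti R r = f from congrArg (fun g : M [⋀^Fin r]→ₗ[R] ⋀[R]^r M => g y) this
    refine b.ext_alternating fun v hv => ?_
    obtain ⟨σ, rfl⟩ : ∃ σ : Equiv.Perm (Fin r), (σ : Fin r → Fin r) = v :=
      ⟨Equiv.ofBijective v (Finite.injective_iff_bijective.1 hv), rfl⟩
    simp only [f, LinearMap.compAlternatingMap_apply, LinearMap.smulRight_apply, LinearMap.id_apply]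
    rw [show (fun i => b (σ i)) = (⇑b ∘ σ) from rfl, AlternatingMap.map_perm, AlternatingMap.map_perm,
      b.det_self, smul_one_smul]
  refine ⟨h1, fun c c' h => ?_, fun z => ?_⟩
  · have := congrArg (exteriorPower.alternatingMapLinearEquiv b.det) h
    simpa [map_smul, exteriorPower.alternatingMapLinearEquiv_apply_ιMulti, b.det_self] using this
  · have hz : z ∈ Submodule.span R (Set.range (exteriorPower.ιMulti R r (M := M))) := by
      rw [exteriorPower.ιMulti_span]; exact Submodule.mem_top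
    induction hz using Submodule.span_induction with
    | mem w hw => obtain ⟨y, rfl⟩ := hw; exact ⟨b.det y, (h1 y).symm⟩
    | zero => exact ⟨0, zero_smul _ _⟩
    | add a a' _ _ ha ha' =>
      obtain ⟨c, rfl⟩ := ha
      obtain ⟨c', rfl⟩ := ha'
      exact ⟨c + c', add_smul _ _ _⟩
    | smul t a _ ha =>
      obtain ⟨c, rfl⟩ := ha
      exact ⟨t * c, mul_smul _ _ _⟩

variable {X G T : Scheme.{u}} {π : G ⟶ X} {E L : X.Modules} {Q : G.Modules} {n r : ℕ}
  {qq : (Scheme.Modules.pullback π).obj E ⟶ Q}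

/-- The image of a section of `E`. -/
def qsec (qq : (Scheme.Modules.pullback π).obj E ⟶ Q) (U : X.Opens) (e : Γ(E, U)) : Γ(Q, π ⁻¹ᵁ U) :=
  qq.app (π ⁻¹ᵁ U) (OmegaSh.pullSect π E U e)

/-- The determinant of the quotient on decomposable sections. -/
theorem exists_plucker_map (hL : ExtPow.IsExtPow r E L) :
    ∃ w : (Scheme.Modules.pullback π).obj L ⟶ ExtPowSheaf.sheaf r Q, ∀ (U : X.affineOpens) (e : Fin r → Γ(E, U.1)),
      ∃ m : Γ(L, U.1), w.app (π ⁻¹ᵁ U.1) (OmegaSh.pullSect π L U.1 m) =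
        ExtPowSheaf.η r Q (π ⁻¹ᵁ U.1) (exteriorPower.ιMulti _ r fun j => qsec qq U.1 (e j)) := by
  let pQ : ∀ U : X.Opens, Γ(E, U) →ₛₗ[(π.app U).hom] Γ(Q, π ⁻¹ᵁ U) := fun U =>
    { toFun := qsec qq U
      map_add' := fun a b => by simp only [qsec, map_add]
      map_smul' := fun t m => by
        show qq.app _ _ = _
        rw [OmegaSh.pullSect_smul, Scheme.Modules.Hom.app_smul]
        rfl }
  let aU : ∀ U : X.affineOpens, ↥(⋀[Γ(X, U.1)]^r Γ(E, U.1)) →ₗ[Γ(X, U.1)]
      Γ((Scheme.Modules.pushforward π).obj (ExtPowSheaf.sheaf r Q), U.1) := fun U =>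
    { toFun := fun z => ExtPowSheaf.η r Q (π ⁻¹ᵁ U.1) (ExtPowAlg.wmap r _ (pQ U.1) z)
      map_add' := fun x y => by simp only [map_add]
      map_smul' := fun t x => by
        simp only [LinearMap.map_smulₛₗ, RingHom.id_apply]
        rfl }
  obtain ⟨φ, g, hg⟩ := ExtPowHom.exists_hom hL aU fun U V h e => by
    show ExtPowSheaf.η r Q _ (ExtPowAlg.wmap r _ (pQ V.1) _) =
      (ExtPowSheaf.sheaf r Q).presheaf.map (homOfLE (π.preimage_mono h)).op
        (ExtPowSheaf.η r Q _ (ExtPowAlg.wmap r _ (pQ U.1) _))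
    rw [ExtPowSheaf.η_res, ExtPowAlg.wmap_ιMulti, ExtPowAlg.wmap_ιMulti, ExtPowSheaf.res_ιMulti]
    refine congrArg _ (congrArg _ (funext fun j => ?_))
    show qsec qq V.1 _ = Q.presheaf.map _ (qsec qq U.1 (e j))
    unfold qsec
    rw [← H11Tilde.app_map_apply]
    exact congrArg (qq.app _) (NatTrans.naturality_apply
      (((Scheme.Modules.pullbackPushforwardAdjunction π).unit.app E).mapPresheaf) (homOfLE h).op (e j))
  refine ⟨((Scheme.Modules.pullbackPushforwardAdjunction π).homEquiv L _).symm g,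
    fun U e => ⟨(φ U).symm (exteriorPower.ιMulti _ r e), ?_⟩⟩
  rw [← homEquiv_app, Equiv.apply_symm_apply]
  refine (hg U _).trans ?_
  rw [LinearEquiv.apply_symm_apply]
  exact congrArg _ (ExtPowAlg.wmap_ιMulti r _ (pQ U.1) e)

variable (hG : IsGrass π E r Q qq)

include hG in
theorem rank_det : FlatMod.IsFinLocFreeOfRank 1 (ExtPowSheaf.sheaf r Q) := by
  have hQ := KPullLam.finLocFree_of_rank hG.rank
  have hD := ExtPowSheaf.isExtPow_sheaf (i := r) (H8Props.FinLocFree.isQCoh_of_isFinLocFree _ hQ)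
  exact PB.rank_of_rk (ExtPowHom.finLocFree_of_isExtPow hQ hD) fun x => by
    rw [KExists.rk_extPow hQ hD, KExists.rk_of_rank hG.rank, Nat.choose_self]

include hG in
/-- The Plücker coordinates at a point of the Grassmannian. -/
theorem plucker_stalk (hE : Coh.IsQCoh E) (U : X.affineOpens) (b : Module.Basis (Fin n) Γ(X, U.1) Γ(E, U.1))
    (x : G) (hx : π x ∈ U.1) :
    ∃ (β : Module.Basis (Fin r) (G.presheaf.stalk x) (Q.presheaf.stalk x))
      (ζ : Module.Basis (Fin 1) (G.presheaf.stalk x) ((ExtPowSheaf.sheaf r Q).presheaf.stalk x)),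
      Submodule.span (G.presheaf.stalk x)
          (Set.range fun i => Q.presheaf.germ (π ⁻¹ᵁ U.1) x hx (qsec qq U.1 (b i))) = ⊤ ∧
        ∀ I : Fin r → Fin n, (ExtPowSheaf.sheaf r Q).presheaf.germ (π ⁻¹ᵁ U.1) x hx
            (ExtPowSheaf.η r Q (π ⁻¹ᵁ U.1) (exteriorPower.ιMulti _ r fun j => qsec qq U.1 (b (I j)))) =
          β.det (fun j => Q.presheaf.germ (π ⁻¹ᵁ U.1) x hx (qsec qq U.1 (b (I j)))) • ζ 0 := by
  have hQ := H8Props.FinLocFree.isQCoh_of_isFinLocFree _ (KPullLam.finLocFree_of_rank hG.rank)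
  obtain ⟨W, hxW, ⟨e⟩⟩ := hG.rank x
  obtain ⟨O, hO, hxO, hle⟩ := exists_isAffineOpen_mem_and_subset (x := x) (U := W ⊓ π ⁻¹ᵁ U.1) ⟨hxW, hx⟩
  obtain ⟨bO⟩ := H8Props.FinLocFree.exists_basis_of_chart Q e (fun y hy => (hle hy).1 : O ≤ W)
  have hOU : O ≤ π ⁻¹ᵁ U.1 := fun y hy => (hle hy).2
  obtain ⟨β, hβ⟩ := exists_germBasis hQ hO bO hxO
  obtain ⟨hdet, hbij⟩ := bijective_smul_top bO
  let φD := ExtPowSheaf.loc (i := r) hQ ⟨O, hO⟩
  let bD : Module.Basis (Fin 1) Γ(G, O) Γ(ExtPowSheaf.sheaf r Q, O) :=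
    ((Module.Basis.singleton (Fin 1) Γ(G, O)).map
      (LinearEquiv.ofBijective (LinearMap.toSpanSingleton Γ(G, O) _ (exteriorPower.ιMulti _ r bO)) hbij)).map φD.symm
  obtain ⟨ζ, hζ⟩ := exists_germBasis (ExtPowHom.isQCoh_sheaf hQ) hO bD hxO
  refine ⟨β, ζ, ?_, fun I => ?_⟩
  · obtain ⟨γ, hγ⟩ := exists_basis_pullSect π hE U.2 b x hx
    have hs : Function.Surjective (stalkLin qq x) := (H8Props.FunDescent.epi_iff qq).1 hG.epi x
    rw [← LinearMap.range_eq_top.2 hs, ← Submodule.map_top, ← γ.span_eq, Submodule.map_span, ← Set.range_comp]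
    congr 1
    exact congrArg Set.range (funext fun i => by rw [Function.comp_apply, hγ, stalkLin_germ]; rfl)
  · let v : Fin r → Γ(Q, O) := fun j => Q.presheaf.map (homOfLE hOU).op (qsec qq U.1 (b (I j)))
    have hv : (fun j => Q.presheaf.germ (π ⁻¹ᵁ U.1) x hx (qsec qq U.1 (b (I j)))) =
        fun j => Q.presheaf.germ O x hxO (v j) := funext fun j =>
      (TopCat.Presheaf.germ_res_apply Q.presheaf (homOfLE hOU) x hxO _).symm
    have hmat : β.toMatrix (fun j => Q.presheaf.germ O x hxO (v j)) =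
        (bO.toMatrix v).map (G.presheaf.germ O x hxO).hom := by
      ext k j
      have h := congrArg (fun z => β.repr (Q.presheaf.germ O x hxO z) k) (bO.sum_repr (v j))
      simp only [map_sum, germ_smul, ← hβ] at h
      rw [← map_sum, β.repr_sum_self] at h
      exact h.symm
    rw [hv, ← TopCat.Presheaf.germ_res_apply (ExtPowSheaf.sheaf r Q).presheaf (homOfLE hOU) x hxO,
      ExtPowSheaf.η_res, ExtPowSheaf.res_ιMulti, show (fun j => Q.presheaf.map (homOfLE hOU).op _) = v from rfl,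
      hdet v, map_smul, germ_smul, β.det_apply, hmat, bO.det_apply]
    rw [hζ, RingHom.map_det]
    congr 1
    simp [bD, φD, ExtPowSheaf.loc_symm_apply]
    rfl

include hG in
/-- Plücker coordinates on a test scheme. -/
theorem plucker_point (hE : Coh.IsQCoh E) {w : (Scheme.Modules.pullback π).obj L ⟶ ExtPowSheaf.sheaf r Q}
    (U : X.affineOpens) (b : Module.Basis (Fin n) Γ(X, U.1) Γ(E, U.1)) (m : (Fin r → Fin n) → Γ(L, U.1))
    (hm : ∀ I : Fin r → Fin n, w.app (π ⁻¹ᵁ U.1) (OmegaSh.pullSect π L U.1 (m I)) =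
        ExtPowSheaf.η r Q (π ⁻¹ᵁ U.1) (exteriorPower.ιMulti _ r fun j => qsec qq U.1 (b (I j))))
    {f : T ⟶ X} {a : T ⟶ G} (ha : a ≫ π = f) (y : T) (hy : f y ∈ U.1) :
    ∃ (γ : Module.Basis (Fin 1) (T.presheaf.stalk y)
        (((Scheme.Modules.pullback a).obj (ExtPowSheaf.sheaf r Q)).presheaf.stalk y))
      (d : (Fin r → Fin n) → T.presheaf.stalk y),
      (∀ I, stalkLin (quotBC ha w) y (((Scheme.Modules.pullback f).obj L).presheaf.germ (f ⁻¹ᵁ U.1) y hy
          (OmegaSh.pullSect f L U.1 (m I))) = d I • γ 0) ∧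
        (∃ s : Fin r ↪ Fin n, IsUnit (d s)) ∧
        ∀ s : Fin r → Fin n, IsUnit (d s) → ∃ c : Fin n → Fin r → T.presheaf.stalk y,
          (∀ i l, d (Function.update s l i) = c i l * d s) ∧
          LinearIndependent (T.presheaf.stalk y) (fun j => stalkLin (quotBC ha qq) y
            (((Scheme.Modules.pullback f).obj E).presheaf.germ (f ⁻¹ᵁ U.1) y hy
              (OmegaSh.pullSect f E U.1 (b (s j))))) ∧
          ∀ i, ∑ l, c i l • stalkLin (quotBC ha qq) y (((Scheme.Modules.pullback f).obj E).presheaf.germ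
              (f ⁻¹ᵁ U.1) y hy (OmegaSh.pullSect f E U.1 (b (s l)))) =
            stalkLin (quotBC ha qq) y (((Scheme.Modules.pullback f).obj E).presheaf.germ (f ⁻¹ᵁ U.1) y hy
              (OmegaSh.pullSect f E U.1 (b i))) := by
  have hx : π (a y) ∈ U.1 := by rw [← Scheme.Hom.comp_apply, ha]; exact hy
  obtain ⟨β, ζ, hspan, hform⟩ := plucker_stalk hG hE U b (a y) hx
  obtain ⟨γ, hγ⟩ := exists_pullBasis a _ y ζ
  let v : Fin n → Q.presheaf.stalk (a y) := fun i => Q.presheaf.germ (π ⁻¹ᵁ U.1) (a y) hx (qsec qq U.1 (b i))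
  have hva : ∀ i, stalkLin (quotBC ha qq) y (((Scheme.Modules.pullback f).obj E).presheaf.germ (f ⁻¹ᵁ U.1) y hy
      (OmegaSh.pullSect f E U.1 (b i))) = pullStalk a Q y (v i) := fun i =>
    stalk_quotBC_pullSect qq ha U.1 (b i) y hy
  refine ⟨γ, fun I => (a.stalkMap y).hom (β.det fun j => v (I j)), fun I => ?_, ?_, fun s hs => ?_⟩
  · rw [stalk_quotBC_pullSect w ha U.1 (m I) y hy, hm I, hform I, pullStalk_smul, hγ]
  · obtain ⟨s, hs⟩ := exists_det_isUnit_sel β v hspan
    exact ⟨s, hs.map (a.stalkMap y).hom⟩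
  · have hu : IsUnit (β.det fun j => v (s j)) := IsUnit.of_map (a.stalkMap y).hom _ hs
    obtain ⟨hli, hco⟩ := exists_coeff_of_det β v s hu
    choose c hc using hco
    refine ⟨fun i l => (a.stalkMap y).hom (c i l), fun i l => ?_, ?_, fun i => ?_⟩
    · rw [← map_mul]
      exact congrArg _ (det_update_eq β v s i (c i) (hc i) l)
    · obtain ⟨hli', hsp'⟩ := (β.is_basis_iff_det).2 hu
      obtain ⟨γ', hγ'⟩ := exists_pullBasis a Q y (Module.Basis.mk hli' hsp'.ge)
      have : (fun j => stalkLin (quotBC ha qq) y (((Scheme.Modules.pullback f).obj E).presheaf.germ (f ⁻¹ᵁ U.1) y hy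
          (OmegaSh.pullSect f E U.1 (b (s j))))) = γ' := funext fun j => by
        rw [hva, hγ', Module.Basis.mk_apply]
      rw [this]
      exact γ'.linearIndependent
    · simp only [hva]
      rw [← pullStalk_sum_smul, hc]

include hG in
theorem epi_plucker_map (hE : FlatMod.IsFinLocFreeOfRank n E)
    {w : (Scheme.Modules.pullback π).obj L ⟶ ExtPowSheaf.sheaf r Q}
    (hw : ∀ (U : X.affineOpens) (e : Fin r → Γ(E, U.1)), ∃ m : Γ(L, U.1),
      w.app (π ⁻¹ᵁ U.1) (OmegaSh.pullSect π L U.1 m) =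
        ExtPowSheaf.η r Q (π ⁻¹ᵁ U.1) (exteriorPower.ιMulti _ r fun j => qsec qq U.1 (e j))) :
    Epi w := by
  refine (H8Props.FunDescent.epi_iff w).2 fun x z => ?_
  obtain ⟨W, hxW, ⟨e⟩⟩ := hE (π x)
  obtain ⟨U, hU, hxU, hle⟩ := exists_isAffineOpen_mem_and_subset (x := π x) (U := W) hxW
  obtain ⟨b⟩ := H8Props.FinLocFree.exists_basis_of_chart E e (hle : U ≤ W)
  choose m hm using fun I : Fin r → Fin n => hw ⟨U, hU⟩ fun j => b (I j)
  obtain ⟨β, ζ, hspan, hform⟩ :=
    plucker_stalk hG (H8Props.FinLocFree.isQCoh_of_isFinLocFree _ (KPullLam.finLocFree_of_rank hE)) ⟨U, hU⟩ b x hxU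
  obtain ⟨s, hs⟩ := exists_det_isUnit_sel β _ hspan
  obtain ⟨k, rfl⟩ : ∃ k, k • ζ 0 = z := ⟨ζ.repr z 0, by
    conv_rhs => rw [← ζ.sum_repr z]
    simp⟩
  refine ⟨(k * ↑(hs.unit⁻¹)) •
    ((Scheme.Modules.pullback π).obj L).presheaf.germ (π ⁻¹ᵁ U) x hxU (OmegaSh.pullSect π L U (m s)), ?_⟩
  rw [map_smul, stalkLin_germ, hm, hform, smul_smul, mul_assoc, hs.val_inv_mul, mul_one]

include hG in
/-- The Plücker map separates quotients. -/
theorem kers_le_of_plucker (hE : FlatMod.IsFinLocFreeOfRank n E)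
    {w : (Scheme.Modules.pullback π).obj L ⟶ ExtPowSheaf.sheaf r Q}
    (hw : ∀ (U : X.affineOpens) (e : Fin r → Γ(E, U.1)), ∃ m : Γ(L, U.1),
      w.app (π ⁻¹ᵁ U.1) (OmegaSh.pullSect π L U.1 m) =
        ExtPowSheaf.η r Q (π ⁻¹ᵁ U.1) (exteriorPower.ιMulti _ r fun j => qsec qq U.1 (e j)))
    {f : T ⟶ X} {a a' : T ⟶ G} (ha : a ≫ π = f) (ha' : a' ≫ π = f)
    (e : (Scheme.Modules.pullback a).obj (ExtPowSheaf.sheaf r Q) ≅
      (Scheme.Modules.pullback a').obj (ExtPowSheaf.sheaf r Q))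
    (he : quotBC ha w ≫ e.hom = quotBC ha' w) (y : T) : kers (quotBC ha qq) y ≤ kers (quotBC ha' qq) y := by
  have hEq := H8Props.FinLocFree.isQCoh_of_isFinLocFree _ (KPullLam.finLocFree_of_rank hE)
  obtain ⟨W, hyW, ⟨c⟩⟩ := hE (f y)
  obtain ⟨U, hU, hyU, hle⟩ := exists_isAffineOpen_mem_and_subset (x := f y) (U := W) hyW
  obtain ⟨b⟩ := H8Props.FinLocFree.exists_basis_of_chart E c (hle : U ≤ W)
  choose m hm using fun I : Fin r → Fin n => hw ⟨U, hU⟩ fun j => b (I j)
  obtain ⟨γ, d, hd, ⟨s, hs⟩, hcoef⟩ := plucker_point hG hEq ⟨U, hU⟩ b m hm ha y hyU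
  obtain ⟨γ', d', hd', -, hcoef'⟩ := plucker_point hG hEq ⟨U, hU⟩ b m hm ha' y hyU
  have key : ∀ I, stalkLin e.hom y (d I • γ 0) = d' I • γ' 0 := fun I => by
    rw [← hd, ← hd', ← stalkLin_comp_apply, he]
  have hs' : IsUnit (d' s) := by
    obtain ⟨v, hv⟩ := ((H8Props.FunDescent.isIso_iff e.hom).1 inferInstance y).2 (γ' 0)
    have hv0 : v = (γ.repr v 0 * ↑(hs.unit⁻¹)) • d s • γ 0 := by
      rw [smul_smul, mul_assoc, hs.val_inv_mul, mul_one]
      conv_lhs => rw [← γ.sum_repr v]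
      simp
    rw [hv0, map_smul, key, smul_smul] at hv
    have := congrArg (fun z => γ'.repr z 0) hv
    simp only [map_smul, Module.Basis.repr_self, Finsupp.smul_apply, Finsupp.single_eq_same, smul_eq_mul,
      mul_one] at this
    exact IsUnit.of_mul_eq_one _ ((mul_comm _ _).trans this)
  obtain ⟨co, hco, hli, hsum⟩ := hcoef s hs
  obtain ⟨co', hco', -, hsum'⟩ := hcoef' s hs'
  have hcc : co' = co := funext fun i => funext fun l => by
    have h := key (Function.update s l i)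
    rw [hco, hco', mul_smul, map_smul, key, smul_smul] at h
    have h' := congrArg (fun z => γ'.repr z 0) h
    simp only [map_smul, Module.Basis.repr_self, Finsupp.smul_apply, Finsupp.single_eq_same, smul_eq_mul,
      mul_one, mul_smul] at h'
    exact (hs'.mul_left_inj.1 h').symm
  subst hcc
  obtain ⟨ε, hε⟩ := exists_basis_pullSect f hEq hU b y hyU
  let Ev : Fin n → ((Scheme.Modules.pullback f).obj E).presheaf.stalk y := fun i =>
    ((Scheme.Modules.pullback f).obj E).presheaf.germ (f ⁻¹ᵁ U) y hyU (OmegaSh.pullSect f E U (b i))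
  have hEv : Submodule.span (T.presheaf.stalk y) (Set.range Ev) = ⊤ := by
    rw [show Ev = ε from funext fun i => (hε i).symm]; exact ε.span_eq
  exact ker_le_of_coeff (R := T.presheaf.stalk y) (stalkLin (quotBC ha qq) y) (stalkLin (quotBC ha' qq) y) Ev
    hEv s hli co' hsum hsum'

include hG in
/-- The Grassmannian is a closed subscheme of the projective bundle of the exterior power. -/
theorem exists_plucker_bundle (hE : FlatMod.IsFinLocFreeOfRank n E) (hL : ExtPow.IsExtPow r E L) {P : Scheme.{u}}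
    {πP : P ⟶ X} {O1 : P.Modules} {u : (Scheme.Modules.pullback πP).obj L ⟶ O1}
    (hP : KRR.IsProjBundle πP L O1 u) : ∃ c : G ⟶ P, IsClosedImmersion c ∧ c ≫ πP = π := by
  obtain ⟨w, hw⟩ := exists_plucker_map (π := π) (qq := qq) hL
  have hD := rank_det hG
  have hwe := epi_plucker_map hG hE hw
  have hP' := IsGrass.of_isProjBundle hP
  let c := hP'.lift π _ hD w hwe
  have hc : c ≫ πP = π := hP'.lift_comp _ _ _ _ _
  have ec : ∃ e : (Scheme.Modules.pullback c).obj O1 ≅ ExtPowSheaf.sheaf r Q, quotBC hc u ≫ e.hom = w :=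
    ⟨_, hP'.quotBC_liftIso _ _ _ _ _⟩
  have hE' := KPullLam.finLocFree_of_rank hE
  have hLrank : FlatMod.IsFinLocFreeOfRank (n.choose r) L :=
    PB.rank_of_rk (ExtPowHom.finLocFree_of_isExtPow hE' hL) fun x => by
      rw [KExists.rk_extPow hE' hL, KExists.rk_of_rank hE]
  haveI := isProper_locFree hLrank hP'
  haveI : IsProper (c ≫ πP) := by rw [hc]; exact isProper_locFree hE hG
  haveI : IsProper c := IsProper.of_comp c πP
  refine ⟨c, (IsClosedImmersion.iff_isProper_and_mono c).2 ⟨inferInstance, ⟨fun {T} a a' haa => ?_⟩⟩, hc⟩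
  have hf : a' ≫ π = a ≫ π := by rw [← hc, ← Category.assoc, ← Category.assoc, haa]
  have h1 : ∀ (b : T ⟶ G) (hb : b ≫ π = a ≫ π) (h : T ⟶ P) (hh : b ≫ c = h) (hhπ : h ≫ πP = a ≫ π),
      ∃ e : (Scheme.Modules.pullback h).obj O1 ≅ (Scheme.Modules.pullback b).obj (ExtPowSheaf.sheaf r Q),
        quotBC hhπ u ≫ e.hom = quotBC hb w := by
    rintro b hb _ rfl hhπ
    exact rel_comp hc hb ec ⟨Iso.refl _, Category.comp_id _⟩ hhπ
  obtain ⟨e₁, he₁⟩ := h1 a rfl _ rfl (by rw [Category.assoc, hc])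
  obtain ⟨e₂, he₂⟩ := h1 a' hf (a ≫ c) haa.symm (by rw [Category.assoc, hc])
  have he : quotBC (rfl : a ≫ π = a ≫ π) w ≫ (e₁.symm ≪≫ e₂).hom = quotBC hf w := by
    rw [← he₁, ← he₂]; simp
  have he' : quotBC hf w ≫ (e₁.symm ≪≫ e₂).inv = quotBC (rfl : a ≫ π = a ≫ π) w := by
    rw [← he, Category.assoc, Iso.hom_inv_id, Category.comp_id]
  haveI := hG.epi
  have h₁ := epi_quotBC (rfl : a ≫ π = a ≫ π) qq
  have h₂ := epi_quotBC hf qq
  obtain ⟨ε, hε⟩ := exists_iso_of_kers_eq (quotBC hf qq) (quotBC (rfl : a ≫ π = a ≫ π) qq) (funext fun y =>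
    le_antisymm (kers_le_of_plucker hG hE hw hf rfl (e₁.symm ≪≫ e₂).symm he' y)
      (kers_le_of_plucker hG hE hw rfl hf (e₁.symm ≪≫ e₂) he y))
  exact (hG.univ T (a ≫ π) _ (isFinLocFreeOfRank_pullback a hG.rank) _ h₁).unique
    ⟨rfl, Iso.refl _, Category.comp_id _⟩ ⟨hf, ε, hε⟩

end

end Groth.Agent.H26Gr
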