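import Groth.Agent.H19Grp.PiClosed

/-!
# Schemes over an affine base through their affine points
-/

set_option autoImplicit false
set_option backward.isDefEq.respectTransparency false
set_option backward.isDefEq.respectTransparency.types false

universe u

open CategoryTheory CategoryTheory.Limits AlgebraicGeometry

namespace Groth.Agent.H26Gr

variable {R : Type u} [CommRing R] {X Y : Over (Spec (CommRingCat.of R))}

/-- The spectrum of an algebra over the base. -/
noncomputable abbrev SR (A : CommAlgCat.{u} R) : Over (Spec (CommRingCat.of R)) :=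
  Over.mk (Spec.map (CommRingCat.ofHom (algebraMap R A)))

/-- The algebra structure carried by a point with values in a ring. -/
noncomputable abbrev algOf {C : CommRingCat.{u}} (a : Spec C ⟶ X.left) : Algebra R C :=
  (Spec.preimage (a ≫ X.hom)).hom.toAlgebra

/-- The algebra of a point with values in a ring. -/
noncomputable def ofPt {C : CommRingCat.{u}} (a : Spec C ⟶ X.left) : CommAlgCat.{u} R :=
  letI := algOf a
  CommAlgCat.of R C

/-- A point with values in a ring as a point over the base. -/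
noncomputable def gOf {C : CommRingCat.{u}} (a : Spec C ⟶ X.left) : SR (ofPt a) ⟶ X :=
  Over.homMk a (Spec.map_preimage _).symm

/-- A map of rings compatible with two points as an algebra map. -/
noncomputable def algHomOf (A : CommAlgCat.{u} R) (g : SR A ⟶ X) {C : CommRingCat.{u}} (a : Spec C ⟶ X.left)
    (φ : CommRingCat.of A ⟶ C) (h : Spec.map φ ≫ g.left = a) : A ⟶ ofPt a :=
  letI := algOf a
  CommAlgCat.ofHom
    { φ.hom with
      commutes' := fun c => by
        have hc : CommRingCat.ofHom (algebraMap R A) ≫ φ = Spec.preimage (a ≫ X.hom) := Spec.map_injective (by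
          rw [Spec.map_comp, Spec.map_preimage, ← h, Category.assoc]
          exact congrArg (Spec.map φ ≫ ·) (Over.w g).symm)
        exact congr($(hc).hom c) }

/-- The cover of a scheme by the spectra of all its affine opens. -/
noncomputable abbrev specCover (T : Scheme.{u}) : T.OpenCover where
  I₀ := T.affineOpens
  X W := Spec Γ(T, W.1)
  f W := W.2.fromSpec
  mem₀ := by
    rw [Scheme.presieve₀_mem_precoverage_iff]
    refine ⟨fun x => ?_, fun W => inferInstance⟩
    obtain ⟨W, hW, hxW, -⟩ := exists_isAffineOpen_mem_and_subset (x := x) (U := (⊤ : T.Opens)) trivial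
    exact ⟨⟨W, hW⟩, show x ∈ Set.range hW.fromSpec from hW.range_fromSpec.symm ▸ hxW⟩

/-- Morphisms out of a scheme agree when they agree on its affine opens. -/
theorem hom_ext_fromSpec {T Z : Scheme.{u}} {a b : T ⟶ Z}
    (h : ∀ (V : T.Opens) (hV : IsAffineOpen V), hV.fromSpec ≫ a = hV.fromSpec ≫ b) : a = b :=
  Precoverage.ZeroHypercover.hom_ext (specCover T) fun W => h W.1 W.2

/-- Morphisms out of a scheme agree when they agree on the affine opens mapping into affine opens. -/
theorem hom_ext_fromSpec_of_le {T S Z : Scheme.{u}} (f : T ⟶ S) {a b : T ⟶ Z}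
    (h : ∀ (V : T.Opens) (hV : IsAffineOpen V) (W : S.Opens), IsAffineOpen W → V ≤ f ⁻¹ᵁ W →
      hV.fromSpec ≫ a = hV.fromSpec ≫ b) : a = b := by
  let κ := { V : T.affineOpens // ∃ W : S.Opens, IsAffineOpen W ∧ V.1 ≤ f ⁻¹ᵁ W }
  let 𝒰 : T.OpenCover :=
    { I₀ := κ
      X := fun V => Spec Γ(T, V.1.1)
      f := fun V => V.1.2.fromSpec
      mem₀ := by
        rw [Scheme.presieve₀_mem_precoverage_iff]
        refine ⟨fun x => ?_, fun V => inferInstance⟩
        obtain ⟨W, hW, hxW, -⟩ := exists_isAffineOpen_mem_and_subset (x := f x) (U := (⊤ : S.Opens)) trivial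
        obtain ⟨V, hV, hxV, hVW⟩ := exists_isAffineOpen_mem_and_subset (x := x) (U := f ⁻¹ᵁ W) hxW
        exact ⟨⟨⟨V, hV⟩, W, hW, hVW⟩, show x ∈ Set.range hV.fromSpec from hV.range_fromSpec.symm ▸ hxV⟩ }
  exact Precoverage.ZeroHypercover.hom_ext 𝒰 fun ⟨V, W, hW, hVW⟩ => h V.1 V.2 W hW hVW

/-- Morphisms on the affine opens agreeing on overlaps glue. -/
theorem exists_glue {T Z : Scheme.{u}} (d : ∀ W : T.affineOpens, Spec Γ(T, W.1) ⟶ Z)
    (hd : ∀ (i j : T.affineOpens) (C : CommRingCat.{u}) (a : Spec C ⟶ Spec Γ(T, i.1))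
      (b : Spec C ⟶ Spec Γ(T, j.1)), a ≫ i.2.fromSpec = b ≫ j.2.fromSpec → a ≫ d i = b ≫ d j) :
    ∃ c : T ⟶ Z, ∀ W : T.affineOpens, W.2.fromSpec ≫ c = d W :=
  ⟨Scheme.Cover.glueMorphisms (specCover T) d fun i j => hom_ext_fromSpec fun V hV => by
    rw [← Category.assoc, ← Category.assoc]
    exact hd i j _ (hV.fromSpec ≫ pullback.fst _ _) (hV.fromSpec ≫ pullback.snd _ _)
      (by rw [Category.assoc, Category.assoc]; exact congrArg (hV.fromSpec ≫ ·) pullback.condition),
    fun W => Scheme.Cover.ι_glueMorphisms (specCover T) d _ W⟩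

section points

variable (η : ∀ A : CommAlgCat.{u} R, (SR A ⟶ X) → (SR A ⟶ Y))
  (hη : ∀ (A B : CommAlgCat.{u} R) (φ : A ⟶ B) (g : SR A ⟶ X) (g' : SR B ⟶ X),
    g'.left = Spec.map (CommRingCat.ofHom φ.hom.toRingHom) ≫ g.left →
      (η B g').left = Spec.map (CommRingCat.ofHom φ.hom.toRingHom) ≫ (η A g).left)

include hη in
theorem eta_comp (A : CommAlgCat.{u} R) (g : SR A ⟶ X) {C : CommRingCat.{u}} (a : Spec C ⟶ X.left)
    (t : Spec C ⟶ Spec (CommRingCat.of A)) (h : t ≫ g.left = a) :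
    (η (ofPt a) (gOf a)).left = t ≫ (η A g).left := by
  obtain ⟨φ, rfl⟩ : ∃ φ, Spec.map φ = t := ⟨Spec.preimage t, Spec.map_preimage t⟩
  exact hη A (ofPt a) (algHomOf A g a φ h) g (gOf a) h.symm

include hη in
/-- A natural family of maps on affine points comes from a morphism. -/
theorem exists_hom_of_points : ∃ c : X ⟶ Y, ∀ (A : CommAlgCat.{u} R) (g : SR A ⟶ X), g ≫ c = η A g := by
  let 𝒰 := specCover X.left
  let d : ∀ i : X.left.affineOpens, Spec Γ(X.left, i.1) ⟶ Y.left := fun i =>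
    (η (ofPt i.2.fromSpec) (gOf i.2.fromSpec)).left
  have key : ∀ (i : X.left.affineOpens) (C : CommRingCat.{u}) (a : Spec C ⟶ Spec Γ(X.left, i.1))
      (a' : Spec C ⟶ X.left), a ≫ i.2.fromSpec = a' → a ≫ d i = (η (ofPt a') (gOf a')).left :=
    fun i C a a' h => (eta_comp η hη (ofPt i.2.fromSpec) (gOf i.2.fromSpec) a' a h).symm
  obtain ⟨c₀, hc₀⟩ := exists_glue d fun i j C a b e =>
    (key i C a _ e).trans (key j C b _ rfl).symm
  refine ⟨Over.homMk c₀ (hom_ext_fromSpec fun V hV => ?_), fun A g => ?_⟩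
  · let i : X.left.affineOpens := ⟨V, hV⟩
    rw [← Category.assoc, hc₀ i]
    exact (Over.w (η (ofPt i.2.fromSpec) (gOf i.2.fromSpec))).trans (Over.w (gOf (X := X) i.2.fromSpec)).symm
  · refine Over.OverMorphism.ext ?_
    show g.left ≫ c₀ = (η A g).left
    refine hom_ext_fromSpec_of_le g.left fun V hV W hW hVW => ?_
    have e := hW.SpecMap_appLE_fromSpec g.left hV hVW
    refine (Category.assoc _ _ _).symm.trans ((congrArg (· ≫ c₀) e.symm).trans ?_)
    refine (Category.assoc _ _ _).trans ((congrArg (_ ≫ ·) (hc₀ ⟨W, hW⟩)).trans ?_)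
    refine (key ⟨W, hW⟩ _ _ _ e).trans ?_
    exact eta_comp η hη A g _ hV.fromSpec rfl

end points

/-- Morphisms over the base agree when they agree on affine points. -/
theorem hom_ext_points {c c' : X ⟶ Y} (h : ∀ (A : CommAlgCat.{u} R) (g : SR A ⟶ X), g ≫ c = g ≫ c') : c = c' :=
  Over.OverMorphism.ext (hom_ext_fromSpec fun V hV =>
    congrArg (fun t : SR (ofPt hV.fromSpec) ⟶ Y => t.left) (h _ (gOf hV.fromSpec)))

/-- An obstruction ideal on affine points cuts out a closed subscheme. -/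
theorem exists_closed (P : ∀ A : CommAlgCat.{u} R, (SR A ⟶ X) → Prop)
    (I : ∀ A : CommAlgCat.{u} R, (SR A ⟶ X) → Ideal A)
    (hP : ∀ (A B : CommAlgCat.{u} R) (φ : A ⟶ B) (g : SR A ⟶ X) (g' : SR B ⟶ X),
      g'.left = Spec.map (CommRingCat.ofHom φ.hom.toRingHom) ≫ g.left →
        (P B g' ↔ I A g ≤ RingHom.ker φ.hom.toRingHom)) :
    ∃ (Z : Scheme.{u}) (ι : Z ⟶ X.left), IsClosedImmersion ι ∧
      ∀ (A : CommAlgCat.{u} R) (g : SR A ⟶ X), (∃ h, h ≫ ι = g.left) ↔ P A g := by
  let K : ∀ {C : CommRingCat.{u}} (_ : Spec C ⟶ X.left), Prop := fun a => P (ofPt a) (gOf a)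
  have hK : ∀ (A : CommAlgCat.{u} R) (g : SR A ⟶ X) {C : CommRingCat.{u}} (φ : CommRingCat.of A ⟶ C),
      K (Spec.map φ ≫ g.left) ↔ I A g ≤ RingHom.ker φ.hom := fun A g C φ =>
    hP A _ (algHomOf A g (Spec.map φ ≫ g.left) φ rfl) g _ rfl
  let Iw : ∀ W : X.left.affineOpens, Ideal Γ(X.left, W.1) := fun W => I _ (gOf W.2.fromSpec)
  have hKW : ∀ (W : X.left.affineOpens) {C : CommRingCat.{u}} (φ : Γ(X.left, W.1) ⟶ C),
      K (Spec.map φ ≫ W.2.fromSpec) ↔ Iw W ≤ RingHom.ker φ.hom := fun W C φ =>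
    hK (ofPt W.2.fromSpec) (gOf W.2.fromSpec) φ
  let J : X.left.IdealSheafData :=
    { ideal := Iw
      map_ideal_basicOpen := fun W r => by
        let W' := X.left.affineBasicOpen r
        let res := X.left.presheaf.map (homOfLE (X.left.basicOpen_le r)).op
        have hres : Spec.map res ≫ W.2.fromSpec = W'.2.fromSpec :=
          W.2.map_fromSpec W'.2 (homOfLE (X.left.basicOpen_le r)).op
        have key : ∀ J : Ideal Γ(X.left, W'.1), (Iw W).map res.hom ≤ J ↔ Iw W' ≤ J := by
          intro J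
          let q : Γ(X.left, W'.1) ⟶ CommRingCat.of (Γ(X.left, W'.1) ⧸ J) :=
            CommRingCat.ofHom (Ideal.Quotient.mk J)
          have hq : RingHom.ker q.hom = J := Ideal.mk_ker
          have h1 := hKW W' q
          have h2 := hKW W (res ≫ q)
          rw [Spec.map_comp, Category.assoc, hres, h1, hq, CommRingCat.hom_comp, ← RingHom.comap_ker, hq,
            ← Ideal.map_le_iff_le_comap] at h2
          exact h2.symm
        exact le_antisymm ((key _).mpr le_rfl) ((key _).mp le_rfl) }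
  refine ⟨J.subscheme, J.subschemeι, inferInstance, fun A g => ?_⟩
  have hPA : P A g ↔ I A g ≤ ⊥ := by
    refine (hP A A (𝟙 A) g g (by simp)).trans ?_
    rw [show RingHom.ker ((𝟙 A : A ⟶ A)).hom.toRingHom = (⊥ : Ideal A) from by ext x; simp [RingHom.mem_ker]]
  rw [hPA]
  let T : Scheme.{u} := Spec (CommRingCat.of A)
  have main : ∀ (W : X.left.affineOpens) (V : T.affineOpens) (hVW : V.1 ≤ g.left ⁻¹ᵁ W.1),
      Iw W ≤ RingHom.ker (g.left.appLE W.1 V.1 hVW).hom ↔
        I A g ≤ RingHom.ker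
          ((Scheme.ΓSpecIso (CommRingCat.of A)).inv ≫ T.presheaf.map (homOfLE le_top).op :
            CommRingCat.of A ⟶ Γ(T, V.1)).hom := by
    intro W V hVW
    let φ : CommRingCat.of A ⟶ Γ(T, V.1) :=
      (Scheme.ΓSpecIso (CommRingCat.of A)).inv ≫ T.presheaf.map (homOfLE le_top).op
    have hφ : Spec.map φ = V.2.fromSpec := by
      rw [Spec.map_comp, ← Scheme.isoSpec_Spec_inv, ← IsAffineOpen.fromSpec_top]
      exact (isAffineOpen_top T).map_fromSpec V.2 _
    rw [← hKW, ← hK A g φ, W.2.SpecMap_appLE_fromSpec g.left V.2 hVW, hφ]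
  constructor
  · rintro ⟨h, hh⟩ a ha
    have hle : J ≤ g.left.ker := by
      rw [← hh]
      exact le_of_eq_of_le J.ker_subschemeι.symm (Scheme.Hom.le_ker_comp _ _)
    rw [Ideal.mem_bot]
    apply (ConcreteCategory.bijective_of_isIso (Scheme.ΓSpecIso (CommRingCat.of A)).inv).injective
    rw [map_zero]
    refine T.IsSheaf.section_ext fun x _ => ?_
    obtain ⟨W, hW, hxW, -⟩ :=
      exists_isAffineOpen_mem_and_subset (x := g.left x) (U := (⊤ : X.left.Opens)) trivial
    obtain ⟨V, hV, hxV, hVW⟩ :=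
      exists_isAffineOpen_mem_and_subset (x := x) (U := g.left ⁻¹ᵁ W) hxW
    refine ⟨V, le_top, hxV, ?_⟩
    rw [map_zero]
    have hWV : Iw ⟨W, hW⟩ ≤ RingHom.ker (g.left.appLE W V hVW).hom := by
      intro y hy
      have := g.left.ideal_ker_le ⟨W, hW⟩ (hle ⟨W, hW⟩ hy)
      rw [RingHom.mem_ker] at this ⊢
      rw [Scheme.Hom.appLE, CommRingCat.hom_comp, RingHom.comp_apply, this, map_zero]
    exact RingHom.mem_ker.mp ((main ⟨W, hW⟩ ⟨V, hV⟩ hVW).mp hWV ha)
  · intro h
    refine ⟨IsClosedImmersion.lift J.subschemeι g.left ?_, IsClosedImmersion.lift_fac _ _ _⟩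
    rw [Scheme.IdealSheafData.ker_subschemeι]
    exact H19Grp.le_ker_of_forall_appLE _ _ fun W V hVW => (main W V hVW).mpr (h.trans bot_le)

end Groth.Agent.H26Gr
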