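import Mathlib.RingTheory.Grassmannian
import Mathlib.LinearAlgebra.TensorProduct.RightExactness
import Mathlib.LinearAlgebra.Dual.Lemmas
import Mathlib.RingTheory.Ideal.Maps

/-!
# Base change of points of the Grassmannian and vanishing ideals
-/

set_option autoImplicit false
set_option backward.isDefEq.respectTransparency false
set_option backward.isDefEq.respectTransparency.types false

universe u

open TensorProduct

namespace Groth.Agent.H26Gr

variable {R A C : Type u} [CommRing R] [CommRing A] [Algebra R A] [CommRing C] [Algebra R C]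
  {M M₂ : Type u} [AddCommGroup M] [Module R M] [AddCommGroup M₂] [Module R M₂] {k : ℕ}

/-- The map `A ⊗ M → C ⊗ M` of a map of algebras. -/
noncomputable abbrev bc (M : Type u) [AddCommGroup M] [Module R M] (φ : A →ₐ[R] C) : A ⊗[R] M →ₗ[R] C ⊗[R] M :=
  φ.toLinearMap.rTensor M

theorem cancelBaseChange_one_tmul (φ : A →ₐ[R] C) (x : A ⊗[R] M) :
    letI : Algebra A C := φ.toAlgebra
    letI : IsScalarTower R A C := IsScalarTower.of_algebraMap_eq' <| IsScalarTower.algebraMap_eq R A C
    AlgebraTensorModule.cancelBaseChange R A C C M ((1 : C) ⊗ₜ[A] x) = bc M φ x := by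
  let : Algebra A C := φ.toAlgebra
  let : IsScalarTower R A C := IsScalarTower.of_algebraMap_eq' <| IsScalarTower.algebraMap_eq R A C
  induction x using TensorProduct.induction_on with
  | zero => simp
  | tmul a m => simp [Algebra.smul_def, RingHom.algebraMap_toAlgebra]
  | add x y hx hy => rw [tmul_add, map_add, map_add, hx, hy]

theorem map_toSubmodule_eq_span (φ : A →ₐ[R] C) (N : Module.Grassmannian A (A ⊗[R] M) k) :
    (Module.Grassmannian.map φ N).toSubmodule = Submodule.span C (bc M φ '' (N.toSubmodule : Set (A ⊗[R] M))) := by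
  let : Algebra A C := φ.toAlgebra
  let : IsScalarTower R A C := IsScalarTower.of_algebraMap_eq' <| IsScalarTower.algebraMap_eq R A C
  let U := N.toSubmodule
  let e₁ := AlgebraTensorModule.cancelBaseChange R A C C M
  let F : (C ⊗[R] M) →ₗ[C] C ⊗[A] ((A ⊗[R] M) ⧸ U) := U.mkQ.baseChange C ∘ₗ e₁.symm.toLinearMap
  have hU : (Module.Grassmannian.map φ N).toSubmodule = LinearMap.ker F := rfl
  rw [hU]
  refine le_antisymm (fun z hz => ?_) (Submodule.span_le.2 ?_)
  · obtain ⟨w, rfl⟩ := e₁.surjective z
    have hw : (U.mkQ.baseChange C) w = 0 := by simpa [F] using hz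
    have hex : Function.Exact U.subtype U.mkQ := LinearMap.exact_subtype_mkQ U
    obtain ⟨t, rfl⟩ := (lTensor_exact (R := A) (M := U) (N := A ⊗[R] M) C hex (Submodule.mkQ_surjective U) w).mp hw
    clear hz hw
    induction t using TensorProduct.induction_on with
    | zero => simp
    | tmul c x =>
      rw [LinearMap.lTensor_tmul, Submodule.subtype_apply,
        show c ⊗ₜ[A] (x : A ⊗[R] M) = c • ((1 : C) ⊗ₜ[A] (x : A ⊗[R] M)) from by
          rw [smul_tmul', smul_eq_mul, mul_one],
        map_smul, cancelBaseChange_one_tmul]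
      exact Submodule.smul_mem _ _ (Submodule.subset_span ⟨x, x.2, rfl⟩)
    | add u w hu hw =>
      rw [map_add, map_add]
      exact add_mem hu hw
  · rintro _ ⟨x, hx, rfl⟩
    rw [SetLike.mem_coe, LinearMap.mem_ker, ← cancelBaseChange_one_tmul]
    show U.mkQ.baseChange C (e₁.symm (e₁ ((1 : C) ⊗ₜ[A] x))) = 0
    rw [LinearEquiv.symm_apply_apply, LinearMap.baseChange_tmul, Submodule.mkQ_apply,
      (Submodule.Quotient.mk_eq_zero U).mpr hx, tmul_zero]

/-- The ideal where a set of sections lies in a point of the Grassmannian. -/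
def vanIdeal (N : Module.Grassmannian A (A ⊗[R] M) k) (S : Set (A ⊗[R] M)) : Ideal A :=
  Ideal.span {a | ∃ x ∈ S, ∃ l : ((A ⊗[R] M) ⧸ N.toSubmodule) →ₗ[A] A, a = l (Submodule.Quotient.mk x)}

/-- Universality of the vanishing ideal. -/
theorem forall_mem_map_iff (φ : A →ₐ[R] C) (N : Module.Grassmannian A (A ⊗[R] M) k) (S : Set (A ⊗[R] M)) :
    (∀ x ∈ S, bc M φ x ∈ (Module.Grassmannian.map φ N).toSubmodule) ↔ vanIdeal N S ≤ RingHom.ker φ.toRingHom := by
  let : Algebra A C := φ.toAlgebra
  let : IsScalarTower R A C := IsScalarTower.of_algebraMap_eq' <| IsScalarTower.algebraMap_eq R A C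
  let U := N.toSubmodule
  let e₁ := AlgebraTensorModule.cancelBaseChange R A C C M
  let F : (C ⊗[R] M) →ₗ[C] C ⊗[A] ((A ⊗[R] M) ⧸ U) := U.mkQ.baseChange C ∘ₗ e₁.symm.toLinearMap
  have hU : (Module.Grassmannian.map φ N).toSubmodule = LinearMap.ker F := rfl
  have hF : ∀ x, F (bc M φ x) = (1 : C) ⊗ₜ Submodule.Quotient.mk x := fun x => by
    rw [← cancelBaseChange_one_tmul]
    show U.mkQ.baseChange C (e₁.symm (e₁ ((1 : C) ⊗ₜ[A] x))) = _
    rw [LinearEquiv.symm_apply_apply, LinearMap.baseChange_tmul, Submodule.mkQ_apply]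
  simp only [hU, LinearMap.mem_ker, hF]
  constructor
  · intro h
    rw [vanIdeal, Ideal.span_le]
    rintro _ ⟨x, hx, l, rfl⟩
    have h3 := congrArg (TensorProduct.AlgebraTensorModule.rid A C C ∘ l.baseChange C) (h x hx)
    simp only [Function.comp_apply, LinearMap.baseChange_tmul, AlgebraTensorModule.rid_tmul, map_zero] at h3
    rw [Algebra.smul_def, mul_one] at h3
    exact RingHom.mem_ker.2 h3
  · intro h x hx
    obtain ⟨n, r, hr⟩ := Module.Finite.exists_fin' A ((A ⊗[R] M) ⧸ U)
    obtain ⟨s, hs⟩ := Module.projective_lifting_property r LinearMap.id hr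
    rw [← show r (s _) = Submodule.Quotient.mk x from congr($hs (Submodule.Quotient.mk x)),
      pi_eq_sum_univ' (s _), map_sum, tmul_sum]
    refine Finset.sum_eq_zero fun i _ => ?_
    rw [map_smul, ← smul_tmul]
    have h0 : φ (s (Submodule.Quotient.mk x) i) = 0 :=
      RingHom.mem_ker.mp (h (Ideal.subset_span ⟨x, hx, (LinearMap.proj i).comp s, rfl⟩))
    rw [Algebra.smul_def]
    show (φ _ * 1) ⊗ₜ[A] _ = 0
    rw [h0, zero_mul, zero_tmul]

theorem bc_baseChange (φ : A →ₐ[R] C) (f : M →ₗ[R] M₂) (x : A ⊗[R] M) :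
    bc M₂ φ (f.baseChange A x) = f.baseChange C (bc M φ x) := by
  induction x using TensorProduct.induction_on with
  | zero => simp
  | tmul a m => simp [bc]
  | add x y hx hy => simp only [map_add, hx, hy]

theorem ker_baseChange_eq_span (v : M →ₗ[R] M₂) (hv : Function.Surjective v) (B : Type u) [CommRing B]
    [Algebra R B] :
    LinearMap.ker (v.baseChange B) = Submodule.span B ((fun m => (1 : B) ⊗ₜ[R] m) '' {m | v m = 0}) := by
  refine le_antisymm (fun z hz => ?_) (Submodule.span_le.2 ?_)
  · obtain ⟨t, rfl⟩ := (lTensor_exact B (LinearMap.exact_subtype_ker_map v) hv z).mp hz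
    clear hz
    induction t using TensorProduct.induction_on with
    | zero => simp
    | tmul b x =>
      rw [LinearMap.lTensor_tmul, Submodule.subtype_apply,
        show b ⊗ₜ[R] (x : M) = b • ((1 : B) ⊗ₜ[R] (x : M)) from by rw [smul_tmul', smul_eq_mul, mul_one]]
      exact Submodule.smul_mem _ _ (Submodule.subset_span ⟨x, x.2, rfl⟩)
    | add x y hx hy => rw [map_add]; exact add_mem hx hy
  · rintro _ ⟨m, hm, rfl⟩
    simp only [Set.mem_ofPred_eq] at hm
    simp [hm]

section comap

variable (v : M →ₗ[R] M₂) (hv : Function.Surjective v)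

/-- A quotient of `M₂` as a quotient of `M`. -/
noncomputable def comapGr (N : Module.Grassmannian A (A ⊗[R] M₂) k) : Module.Grassmannian A (A ⊗[R] M) k :=
  have hs : Function.Surjective (N.toSubmodule.mkQ ∘ₗ v.baseChange A) :=
    (Submodule.mkQ_surjective _).comp (LinearMap.baseChange_surjective A hv)
  have hk : N.toSubmodule.comap (v.baseChange A) = LinearMap.ker (N.toSubmodule.mkQ ∘ₗ v.baseChange A) := by
    rw [LinearMap.ker_comp, Submodule.ker_mkQ]
  let e : ((A ⊗[R] M) ⧸ N.toSubmodule.comap (v.baseChange A)) ≃ₗ[A] (A ⊗[R] M₂) ⧸ N.toSubmodule :=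
    (Submodule.quotEquivOfEq _ _ hk).trans ((N.toSubmodule.mkQ ∘ₗ v.baseChange A).quotKerEquivOfSurjective hs)
  { toSubmodule := N.toSubmodule.comap (v.baseChange A)
    finite_quotient := Module.Finite.equiv e.symm
    projective_quotient := Module.Projective.of_equiv e.symm
    rankAtStalk_eq := fun p => (congrFun (Module.rankAtStalk_eq_of_equiv e) p).trans (N.rankAtStalk_eq p) }

@[simp]
theorem comapGr_toSubmodule (N : Module.Grassmannian A (A ⊗[R] M₂) k) :
    (comapGr v hv N).toSubmodule = N.toSubmodule.comap (v.baseChange A) := rfl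

theorem comapGr_map (φ : A →ₐ[R] C) (N : Module.Grassmannian A (A ⊗[R] M₂) k) :
    Module.Grassmannian.map φ (comapGr v hv N) = comapGr v hv (Module.Grassmannian.map φ N) := by
  refine Module.Grassmannian.ext ?_
  rw [comapGr_toSubmodule]
  have h1 : Submodule.map (v.baseChange C) (Module.Grassmannian.map φ (comapGr v hv N)).toSubmodule =
      (Module.Grassmannian.map φ N).toSubmodule := by
    rw [map_toSubmodule_eq_span, map_toSubmodule_eq_span, Submodule.map_span, Set.image_image]
    congr 1
    ext z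
    constructor
    · rintro ⟨x, hx, rfl⟩
      exact ⟨_, hx, bc_baseChange φ v x⟩
    · rintro ⟨y, hy, rfl⟩
      obtain ⟨x, rfl⟩ := LinearMap.baseChange_surjective A hv y
      exact ⟨x, hy, (bc_baseChange φ v x).symm⟩
  rw [← h1, Submodule.comap_map_eq, left_eq_sup, ker_baseChange_eq_span v hv C, Submodule.span_le]
  rintro _ ⟨m, hm, rfl⟩
  rw [SetLike.mem_coe, map_toSubmodule_eq_span]
  refine Submodule.subset_span ⟨(1 : A) ⊗ₜ m, ?_, by simp [bc]⟩
  simp only [Set.mem_ofPred_eq] at hm
  simp [hm]

theorem comapGr_injective : Function.Injective (comapGr (A := A) (k := k) v hv) := fun N N' h => by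
  refine Module.Grassmannian.ext ?_
  exact Submodule.comap_injective_of_surjective (LinearMap.baseChange_surjective A hv)
    (congrArg Module.Grassmannian.toSubmodule h)

/-- A quotient of `M` killing the kernel of `v` is a quotient of `M₂`. -/
theorem exists_comapGr_eq (N : Module.Grassmannian A (A ⊗[R] M) k)
    (h : LinearMap.ker (v.baseChange A) ≤ N.toSubmodule) : ∃ N₂, comapGr v hv N₂ = N := by
  have he : N.toSubmodule = (N.toSubmodule.map (v.baseChange A)).comap (v.baseChange A) := by
    rw [Submodule.comap_map_eq, sup_of_le_left h]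
  let V := N.toSubmodule.map (v.baseChange A)
  have hs : Function.Surjective (V.mkQ ∘ₗ v.baseChange A) :=
    (Submodule.mkQ_surjective _).comp (LinearMap.baseChange_surjective A hv)
  have hk : N.toSubmodule = LinearMap.ker (V.mkQ ∘ₗ v.baseChange A) := by
    rw [LinearMap.ker_comp, Submodule.ker_mkQ]; exact he
  let e : ((A ⊗[R] M) ⧸ N.toSubmodule) ≃ₗ[A] (A ⊗[R] M₂) ⧸ V :=
    (Submodule.quotEquivOfEq _ _ hk).trans ((V.mkQ ∘ₗ v.baseChange A).quotKerEquivOfSurjective hs)
  exact ⟨{ toSubmodule := V
           finite_quotient := Module.Finite.equiv e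
           projective_quotient := Module.Projective.of_equiv e
           rankAtStalk_eq := fun p =>
             (congrFun (Module.rankAtStalk_eq_of_equiv e.symm) p).trans (N.rankAtStalk_eq p) },
    Module.Grassmannian.ext he.symm⟩

end comap

end Groth.Agent.H26Gr
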