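import Groth.Agent.H26Gr.Fam
import Groth.Agent.H26Gr.Chart

/-!
# The Grassmannian of a free module over an affine base is a scheme
-/

set_option autoImplicit false
set_option backward.isDefEq.respectTransparency false
set_option backward.isDefEq.respectTransparency.types false

universe u

open CategoryTheory CategoryTheory.Limits AlgebraicGeometry TensorProduct Opposite

namespace Groth.Agent.H26Gr

noncomputable section

variable (R : Type u) [CommRing R] {n k : ℕ} (s : Fin k ↪ Fin n)

/-- The coordinate algebra of a chart. -/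
abbrev chartAlg : CommAlgCat.{u} R := CommAlgCat.of R (MvPolynomial (Jc s × Fin k) R)

/-- The chart. -/
abbrev chartSp : Over (Sb R) := SR (chartAlg R s)

/-- The coordinates of a point of a chart. -/
def coords {A : CommAlgCat.{u} R} (g : SR A ⟶ chartSp R s) : Jc s × Fin k → A := fun p =>
  (exists_smap_eq g).choose.hom (MvPolynomial.X p)

theorem coords_smap {A : CommAlgCat.{u} R} (φ : chartAlg R s ⟶ A) :
    coords R s (smap φ) = fun p => φ.hom (MvPolynomial.X p) := by
  unfold coords
  rw [smap_injective (exists_smap_eq (smap φ)).choose_spec]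

theorem coords_comp {A B : CommAlgCat.{u} R} (φ : A ⟶ B) (g : SR A ⟶ chartSp R s) :
    coords R s (smap φ ≫ g) = φ.hom ∘ coords R s g := by
  obtain ⟨ψ, rfl⟩ := exists_smap_eq g
  rw [← smap_comp, coords_smap, coords_smap]
  rfl

theorem coords_injective {A : CommAlgCat.{u} R} : Function.Injective (coords R s (A := A)) := fun g g' h => by
  obtain ⟨φ, rfl⟩ := exists_smap_eq g
  obtain ⟨φ', rfl⟩ := exists_smap_eq g'
  rw [coords_smap, coords_smap] at h
  exact congrArg smap (CommAlgCat.hom_ext (MvPolynomial.algHom_ext fun p => congrFun h p))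

theorem exists_coords {A : CommAlgCat.{u} R} (x : Jc s × Fin k → A) : ∃ g : SR A ⟶ chartSp R s, coords R s g = x :=
  ⟨smap (CommAlgCat.ofHom (MvPolynomial.aeval x)), by rw [coords_smap]; funext p; exact MvPolynomial.aeval_X x p⟩

/-- The universal point of a chart. -/
def univFam : Fam (Fin n → R) k (chartSp R s) where
  val _ g := chartPt R s (coords R s g)
  nat _ _ φ g := by rw [coords_comp, map_chartPt]

variable {R}

theorem inChart_point_iff {A : CommAlgCat.{u} R} (N : Module.Grassmannian A (A ⊗[R] (Fin n → R)) k)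
    {K : CommAlgCat.{u} R} [Subsingleton (PrimeSpectrum K)] (φ : A ⟶ K) (z : PrimeSpectrum K) :
    InChart R s (Module.Grassmannian.map φ.hom N) ↔
      PrimeSpectrum.comap φ.hom.toRingHom z ∉ Module.support A (Coker R s N) := by
  rw [inChart_map_iff]
  exact ⟨fun h => h z, fun h q => Subsingleton.elim z q ▸ h⟩

variable {T : Over (Sb R)}

/-- The residue point of a point of a scheme. -/
abbrev resPt (T : Over (Sb R)) (x : T.left) : SR (ofPt (T.left.fromSpecResidueField x)) ⟶ T :=
  gOf (T.left.fromSpecResidueField x)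

instance subsingleton_resPt (x : T.left) :
    Subsingleton (PrimeSpectrum (ofPt (T.left.fromSpecResidueField x))) :=
  inferInstanceAs (Subsingleton (PrimeSpectrum (T.left.residueField x)))

/-- The locus where a family lies in a chart. -/
def locus (N : Fam (Fin n → R) k T) : Set T.left :=
  {x | InChart R s (N.val _ (resPt T x))}

theorem exists_residue_fac {A : CommAlgCat.{u} R} (g : SR A ⟶ T) (p : PrimeSpectrum A) :
    ∃ (K : CommAlgCat.{u} R) (_ : Subsingleton (PrimeSpectrum K)) (z : PrimeSpectrum K) (φ : A ⟶ K)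
      (ψ : ofPt (T.left.fromSpecResidueField (g.left p)) ⟶ K),
      PrimeSpectrum.comap φ.hom.toRingHom z = p ∧ smap φ ≫ g = smap ψ ≫ resPt T (g.left p) := by
  let Y : Scheme.{u} := Spec (CommRingCat.of A)
  let p' : Y := p
  let a : Spec (Y.residueField p') ⟶ T.left := Y.fromSpecResidueField p' ≫ g.left
  let K := ofPt a
  haveI hK : Subsingleton (PrimeSpectrum K) := inferInstanceAs (Subsingleton (PrimeSpectrum (Y.residueField p')))
  obtain ⟨φ₀, hφ₀⟩ : ∃ φ : CommRingCat.of A ⟶ Y.residueField p', Spec.map φ = Y.fromSpecResidueField p' :=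
    ⟨Spec.preimage _, Spec.map_preimage _⟩
  let φ : A ⟶ K := algHomOf A g a φ₀ (by rw [hφ₀])
  let ψ : ofPt (T.left.fromSpecResidueField (g.left p)) ⟶ K :=
    algHomOf _ (resPt T (g.left p)) a (g.left.residueFieldMap p')
      (Scheme.Hom.SpecMap_residueFieldMap_fromSpecResidueField g.left p')
  let z : PrimeSpectrum K := (default : PrimeSpectrum (Y.residueField p'))
  refine ⟨K, hK, z, φ, ψ, ?_, Over.OverMorphism.ext ?_⟩
  · show Spec.map φ₀ z = p'
    rw [hφ₀]
    exact Scheme.fromSpecResidueField_apply p' z
  · show Spec.map φ₀ ≫ g.left = Spec.map (g.left.residueFieldMap p') ≫ T.left.fromSpecResidueField (g.left p)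
    rw [hφ₀]
    exact (Scheme.Hom.SpecMap_residueFieldMap_fromSpecResidueField g.left p').symm

theorem mem_locus_iff (N : Fam (Fin n → R) k T) {A : CommAlgCat.{u} R} (g : SR A ⟶ T) (p : PrimeSpectrum A) :
    g.left p ∈ locus s N ↔ p ∉ Module.support A (Coker R s (N.val A g)) := by
  obtain ⟨K, hK, z, φ, ψ, hz, h⟩ := exists_residue_fac g p
  have h1 := inChart_point_iff s (N.val A g) φ z
  have h2 := inChart_point_iff s (N.val _ (resPt T (g.left p))) ψ z
  rw [← N.nat, h, N.nat, hz] at h1
  have h3 := inChart_iff R s (N.val _ (resPt T (g.left p)))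
  show InChart R s _ ↔ _
  rw [← h1, h2, h3]
  exact ⟨fun h => h _, fun h q => Subsingleton.elim (PrimeSpectrum.comap ψ.hom.toRingHom z) q ▸ h⟩

theorem isOpen_locus (N : Fam (Fin n → R) k T) : IsOpen (locus s N) := by
  rw [isOpen_iff_forall_mem_open]
  intro x hx
  obtain ⟨W, hW, hxW, -⟩ := exists_isAffineOpen_mem_and_subset (x := x) (U := (⊤ : T.left.Opens)) trivial
  refine ⟨hW.fromSpec '' (hW.fromSpec ⁻¹' locus s N), Set.image_preimage_subset _ _, ?_, ?_⟩
  · refine hW.fromSpec.isOpenEmbedding.isOpenMap _ ?_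
    let g : SR (ofPt hW.fromSpec) ⟶ T := gOf hW.fromSpec
    have he : (hW.fromSpec ⁻¹' locus s N : Set (Spec Γ(T.left, W))) =
        (Module.support (ofPt hW.fromSpec) (Coker R s (N.val _ g)) : Set (PrimeSpectrum (ofPt hW.fromSpec)))ᶜ :=
      Set.ext fun p => mem_locus_iff s N g p
    rw [he]
    exact (Module.isClosed_support (R := ofPt hW.fromSpec) (M := Coker R s (N.val _ g))).isOpen_compl
  · obtain ⟨p, hp⟩ := (hW.range_fromSpec.symm ▸ hxW : x ∈ Set.range hW.fromSpec)
    exact ⟨p, show hW.fromSpec p ∈ locus s N from hp.symm ▸ hx, hp⟩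

theorem exists_mem_locus (N : Fam (Fin n → R) k T) (x : T.left) : ∃ s : Fin k ↪ Fin n, x ∈ locus s N := by
  letI := algOf (T.left.fromSpecResidueField x)
  exact exists_inChart_of_field R (T.left.residueField x) (N.val _ (resPt T x))

theorem inChart_of_range_subset {T' : Over (Sb R)} (p : T' ⟶ T) (N : Fam (Fin n → R) k T)
    (hp : Set.range p.left ⊆ locus s N) {A : CommAlgCat.{u} R} (g : SR A ⟶ T') :
    InChart R s ((N.pull p).val A g) :=
  (inChart_iff R s _).2 fun q => (mem_locus_iff s N (g ≫ p) q).1 (hp ⟨g.left q, rfl⟩)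

variable (R n k)

/-- The Grassmannian functor is representable. -/
theorem isRepresentable_famFunctor : (famFunctor (R := R) (Fin n → R) k).IsRepresentable := by
  refine H8Props.WeilRes.isRepresentable_of_open_cover isZariskiGluing_famFunctor
    (ι := ULift.{u} (Fin k ↪ Fin n)) (fun s => chartSp R s.down)
    (fun s => equivShrink _ (univFam R s.down)) (fun s T h h' e => ?_) fun T N₀ => ?_
  · change (famFunctor (R := R) (Fin n → R) k).map h.op _ = (famFunctor (R := R) (Fin n → R) k).map h'.op _ at e
    rw [famFunctor_map, famFunctor_map] at e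
    refine hom_ext_points fun A g => coords_injective R s.down (chartPt_injective R s.down ?_)
    exact congrArg (fun N : Fam (Fin n → R) k T => N.val A g) ((equivShrink _).injective e)
  obtain ⟨N, rfl⟩ : ∃ N, equivShrink _ N = N₀ := ⟨(equivShrink _).symm N₀, Equiv.apply_symm_apply _ _⟩
  refine ⟨fun s => ⟨locus s.down N, isOpen_locus s.down N⟩, fun x => ?_, fun s T' p => ⟨?_, fun hr => ?_⟩⟩
  · obtain ⟨s, hs⟩ := exists_mem_locus N x
    exact ⟨⟨s⟩, hs⟩
  · rintro ⟨h, hh⟩ _ ⟨y, rfl⟩
    rw [famFunctor_map, famFunctor_map] at hh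
    have e := congrArg (fun N : Fam (Fin n → R) k T' => N.val _ (resPt T' y)) ((equivShrink _).injective hh)
    change chartPt R s.down (coords R s.down (resPt T' y ≫ h)) = N.val _ (resPt T' y ≫ p) at e
    have hin := inChart_chartPt R s.down (coords R s.down (resPt T' y ≫ h))
    rw [e] at hin
    have := (mem_locus_iff s.down N (resPt T' y ≫ p) (default : PrimeSpectrum (T'.left.residueField y))).2
      ((inChart_iff R s.down _).1 hin _)
    have hy : (resPt T' y).left (default : PrimeSpectrum (T'.left.residueField y)) = y :=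
      Scheme.fromSpecResidueField_apply y _
    change p.left ((resPt T' y).left _) ∈ locus s.down N at this
    rwa [hy] at this
  · have hex : ∀ (A : CommAlgCat.{u} R) (g : SR A ⟶ T'), ∃ η : SR A ⟶ chartSp R s.down,
        chartPt R s.down (coords R s.down η) = (N.pull p).val A g := fun A g => by
      obtain ⟨x, hx⟩ := exists_chartPt_eq R s.down (inChart_of_range_subset s.down p N hr g)
      obtain ⟨η, rfl⟩ := exists_coords R s.down x
      exact ⟨η, hx⟩
    choose η hη using hex
    obtain ⟨h, hh⟩ := exists_hom_of_points η fun A B φ g g' e => by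
      have hg : g' = smap φ ≫ g := Over.OverMorphism.ext e
      have : η B g' = smap φ ≫ η A g := coords_injective R s.down (chartPt_injective R s.down (by
        rw [hη, coords_comp, ← map_chartPt, hη, hg, (N.pull p).nat]))
      rw [this]
      rfl
    refine ⟨h, ?_⟩
    rw [famFunctor_map, famFunctor_map]
    refine congrArg _ (Fam.ext fun A g => ?_)
    show chartPt R s.down (coords R s.down (g ≫ h)) = (N.pull p).val A g
    rw [hh, hη]

variable {R n k} in
/-- Families over an affine scheme are its points. -/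
def famEquiv (A : CommAlgCat.{u} R) :
    Fam (Fin n → R) k (SR A) ≃ Module.Grassmannian A (A ⊗[R] (Fin n → R)) k where
  toFun N := N.val A (𝟙 _)
  invFun N :=
    { val := fun B g => Module.Grassmannian.map (exists_smap_eq g).choose.hom N
      nat := fun B C φ g => by
        have h : (exists_smap_eq (smap φ ≫ g)).choose = (exists_smap_eq g).choose ≫ φ := smap_injective (by
          rw [(exists_smap_eq (smap φ ≫ g)).choose_spec, smap_comp, (exists_smap_eq g).choose_spec])
        rw [h]
        exact Module.Grassmannian.map_comp k _ _ N }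
  left_inv N := Fam.ext fun B g => by
    show Module.Grassmannian.map (exists_smap_eq g).choose.hom (N.val A (𝟙 _)) = _
    rw [← N.nat, Category.comp_id, (exists_smap_eq g).choose_spec]
  right_inv N := by
    show Module.Grassmannian.map (exists_smap_eq (𝟙 (SR A))).choose.hom N = N
    rw [show (exists_smap_eq (𝟙 (SR A))).choose = 𝟙 A from
      smap_injective ((exists_smap_eq (𝟙 (SR A))).choose_spec.trans (smap_id A).symm)]
    exact Module.Grassmannian.map_id k A N

/-- The Grassmannian of a free module is a scheme, with its points on affine schemes. -/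
theorem exists_rep : ∃ (X : Over (Sb R))
    (e : ∀ A : CommAlgCat.{u} R, (SR A ⟶ X) ≃ Module.Grassmannian A (A ⊗[R] (Fin n → R)) k),
    ∀ (A B : CommAlgCat.{u} R) (φ : A ⟶ B) (g : SR A ⟶ X) (g' : SR B ⟶ X),
      g'.left = Spec.map (CommRingCat.ofHom φ.hom.toRingHom) ≫ g.left →
        e B g' = Module.Grassmannian.map φ.hom (e A g) := by
  obtain ⟨X, ⟨E⟩⟩ := (isRepresentable_famFunctor R n k).has_representation
  refine ⟨X, fun A => E.homEquiv.trans ((equivShrink (Fam (Fin n → R) k (SR A))).symm.trans (famEquiv A)),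
    fun A B φ g g' h => ?_⟩
  have hg : g' = smap φ ≫ g := Over.OverMorphism.ext h
  subst hg
  show ((equivShrink (Fam (Fin n → R) k (SR B))).symm (E.homEquiv (smap φ ≫ g))).val B (𝟙 _) =
    Module.Grassmannian.map φ.hom (((equivShrink (Fam (Fin n → R) k (SR A))).symm (E.homEquiv g)).val A (𝟙 _))
  obtain ⟨N, hN⟩ : ∃ N, equivShrink _ N = E.homEquiv g := ⟨(equivShrink _).symm _, Equiv.apply_symm_apply _ _⟩
  have hB : E.homEquiv (smap φ ≫ g) = equivShrink _ (N.pull (smap φ)) := by
    rw [E.homEquiv_comp, ← hN, famFunctor_map]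
  have hA : E.homEquiv g = equivShrink _ N := hN.symm
  erw [hB, hA, Equiv.symm_apply_apply, Equiv.symm_apply_apply]
  show N.val B (𝟙 _ ≫ smap φ) = _
  rw [← N.nat, Category.id_comp, Category.comp_id]

end

end Groth.Agent.H26Gr
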