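import Groth.Agent.H26Gr.Represent
import Groth.Agent.H3CAlg.EtaEtale
import Mathlib.AlgebraicGeometry.AffineSpace

/-!
# The standard charts cover a scheme representing the Grassmannian of a free module
-/

set_option autoImplicit false
set_option backward.isDefEq.respectTransparency false
set_option backward.isDefEq.respectTransparency.types false

universe u

open CategoryTheory CategoryTheory.Limits AlgebraicGeometry TensorProduct Opposite

namespace Groth.Agent.H26Gr

noncomputable section

variable {R : Type u} [CommRing R] {n k : ℕ}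

/-- Compatibility of bijections with base change. -/
def RepNat {M : Type u} [AddCommGroup M] [Module R M] (X : Over (Sb R))
    (e : ∀ A : CommAlgCat.{u} R, (SR A ⟶ X) ≃ Module.Grassmannian A (A ⊗[R] M) k) : Prop :=
  ∀ (A B : CommAlgCat.{u} R) (φ : A ⟶ B) (g : SR A ⟶ X) (g' : SR B ⟶ X),
    g'.left = Spec.map (CommRingCat.ofHom φ.hom.toRingHom) ≫ g.left →
      e B g' = Module.Grassmannian.map φ.hom (e A g)

variable {M : Type u} [AddCommGroup M] [Module R M] {X : Over (Sb R)}
  {e : ∀ A : CommAlgCat.{u} R, (SR A ⟶ X) ≃ Module.Grassmannian A (A ⊗[R] M) k}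

theorem RepNat.comp (he : RepNat X e) {A B : CommAlgCat.{u} R} (φ : A ⟶ B) (g : SR A ⟶ X) :
    e B (smap φ ≫ g) = Module.Grassmannian.map φ.hom (e A g) :=
  he A B φ g _ rfl

/-- The tautological family. -/
def RepNat.fam (he : RepNat X e) : Fam M k X where
  val A g := e A g
  nat _ _ φ g := he.comp φ g

/-- A chart of a representing scheme as a morphism. -/
theorem exists_chart_hom {e : ∀ A : CommAlgCat.{u} R, (SR A ⟶ X) ≃ Module.Grassmannian A (A ⊗[R] (Fin n → R)) k}
    (he : RepNat X e) (s : Fin k ↪ Fin n) :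
    ∃ c : chartSp R s ⟶ X,
      (∀ (A : CommAlgCat.{u} R) (g : SR A ⟶ chartSp R s), e A (g ≫ c) = chartPt R s (coords R s g)) ∧
        IsOpenImmersion c.left ∧ Set.range c.left = locus s he.fam := by
  let U : X.left.Opens := ⟨locus s he.fam, isOpen_locus s he.fam⟩
  let XU : Over (Sb R) := Over.mk (U.ι ≫ X.hom)
  let i : XU ⟶ X := Over.homMk U.ι rfl
  haveI : Mono i.left := inferInstanceAs (Mono U.ι)
  have hcancel : ∀ {T : Over (Sb R)} (a b : T ⟶ XU), a ≫ i = b ≫ i → a = b := fun a b h =>
    Over.OverMorphism.ext ((cancel_mono i.left).1 (congrArg (fun t => t.left) h))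
  -- the chart as a morphism
  obtain ⟨c, hc⟩ := exists_hom_of_points (X := chartSp R s) (Y := X)
    (fun A g => (e A).symm (chartPt R s (coords R s g))) fun A B φ g g' h => by
      have hg : g' = smap φ ≫ g := Over.OverMorphism.ext h
      refine Eq.trans (congrArg (fun t : SR B ⟶ X => t.left) (?_ : _ = smap φ ≫ (e A).symm (chartPt R s (coords R s g)))) rfl
      show (e B).symm _ = smap φ ≫ (e A).symm _
      rw [Equiv.symm_apply_eq, he.comp, Equiv.apply_symm_apply, hg, coords_comp, map_chartPt]
  have hec : ∀ (A : CommAlgCat.{u} R) (g : SR A ⟶ chartSp R s), e A (g ≫ c) = chartPt R s (coords R s g) :=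
    fun A g => by rw [hc, Equiv.apply_symm_apply]
  have hrange : Set.range c.left ⊆ Set.range U.ι := by
    rintro _ ⟨p, rfl⟩
    rw [Scheme.Opens.range_ι]
    refine (mem_locus_iff s he.fam c p).2 ((inChart_iff R s _).1 ?_ p)
    show InChart R s (e _ c)
    rw [show c = 𝟙 _ ≫ c from (Category.id_comp c).symm, hec]
    exact inChart_chartPt R s _
  let b : chartSp R s ⟶ XU := Over.homMk (IsOpenImmersion.lift U.ι c.left hrange) (by
    show _ ≫ U.ι ≫ X.hom = _
    rw [IsOpenImmersion.lift_fac_assoc]
    exact Over.w c)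
  have hb : b ≫ i = c := Over.OverMorphism.ext (IsOpenImmersion.lift_fac _ _ _)
  -- the inverse
  have hex : ∀ (A : CommAlgCat.{u} R) (g : SR A ⟶ XU), ∃ η : SR A ⟶ chartSp R s,
      chartPt R s (coords R s η) = e A (g ≫ i) := fun A g => by
    have hin : InChart R s (e A (g ≫ i)) := inChart_of_range_subset s i he.fam (by
      show Set.range U.ι ⊆ _
      rw [Scheme.Opens.range_ι]; exact subset_rfl) g
    obtain ⟨x, hx⟩ := exists_chartPt_eq R s hin
    obtain ⟨η, rfl⟩ := exists_coords R s x
    exact ⟨η, hx⟩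
  choose η hη using hex
  obtain ⟨a, ha⟩ := exists_hom_of_points η fun A B φ g g' h => by
    have hg : g' = smap φ ≫ g := Over.OverMorphism.ext h
    have : η B g' = smap φ ≫ η A g := coords_injective R s (chartPt_injective R s (by
      rw [hη, coords_comp, ← map_chartPt, hη, hg, Category.assoc, he.comp]))
    rw [this]
    rfl
  let φ : XU ≅ chartSp R s :=
    { hom := a, inv := b,
      hom_inv_id := hom_ext_points fun A g => hcancel _ _ (by
        rw [Category.comp_id, Category.assoc, Category.assoc, hb, ← Category.assoc, ha]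
        exact (e A).injective ((hec A _).trans (hη A g))),
      inv_hom_id := hom_ext_points fun A g => by
        rw [Category.comp_id, ← Category.assoc, ha]
        refine coords_injective R s (chartPt_injective R s ?_)
        rw [hη, Category.assoc, hb, hec] }
  have hcl : c.left = b.left ≫ U.ι := (congrArg (fun t => t.left) hb).symm
  haveI : IsIso b.left := ((Over.forget _).mapIso φ).isIso_inv
  refine ⟨c, hec, by rw [hcl]; infer_instance, ?_⟩
  rw [hcl]
  refine Eq.trans ?_ (Scheme.Opens.range_ι U)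
  ext z
  constructor
  · rintro ⟨y, rfl⟩
    exact ⟨b.left y, rfl⟩
  · rintro ⟨y, rfl⟩
    obtain ⟨y', rfl⟩ := b.left.homeomorph.surjective y
    exact ⟨y', rfl⟩

/-- A chart of a representing scheme. -/
theorem exists_chart {e : ∀ A : CommAlgCat.{u} R, (SR A ⟶ X) ≃ Module.Grassmannian A (A ⊗[R] (Fin n → R)) k}
    (he : RepNat X e) (s : Fin k ↪ Fin n) :
    Nonempty (Over.mk (Scheme.Opens.ι (X := X.left) ⟨locus s he.fam, isOpen_locus s he.fam⟩ ≫ X.hom) ≅ chartSp R s) := by
  obtain ⟨c, -, hc, hr⟩ := exists_chart_hom he s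
  haveI := hc
  let U : X.left.Opens := ⟨locus s he.fam, isOpen_locus s he.fam⟩
  exact ⟨(Over.isoMk (IsOpenImmersion.isoOfRangeEq c.left U.ι (hr.trans (Scheme.Opens.range_ι U).symm))
    (by
      show _ ≫ U.ι ≫ X.hom = _
      rw [IsOpenImmersion.isoOfRangeEq_hom_fac_assoc]
      exact Over.w c)).symm⟩

theorem iSup_locus {e : ∀ A : CommAlgCat.{u} R, (SR A ⟶ X) ≃ Module.Grassmannian A (A ⊗[R] (Fin n → R)) k}
    (he : RepNat X e) :
    ⨆ s : Fin k ↪ Fin n, (⟨locus s he.fam, isOpen_locus s he.fam⟩ : X.left.Opens) = ⊤ :=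
  eq_top_iff.2 fun x _ => TopologicalSpace.Opens.mem_iSup.2 (exists_mem_locus he.fam x)

variable (R)

/-- A chart is an affine space. -/
theorem exists_chartSp_iso (s : Fin k ↪ Fin n) {σ : Type u} (σe : Jc s × Fin k ≃ σ) :
    Nonempty (chartSp R s ≅
      (Over.mk (Spec.map (CommRingCat.ofHom (MvPolynomial.C : R →+* MvPolynomial σ R))) : Over (Sb R))) := by
  let A : CommAlgCat.{u} R := chartAlg R s
  let B : CommAlgCat.{u} R := CommAlgCat.of R (MvPolynomial σ R)
  let f : B ⟶ A := CommAlgCat.ofHom (MvPolynomial.renameEquiv R σe).symm.toAlgHom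
  let g : A ⟶ B := CommAlgCat.ofHom (MvPolynomial.renameEquiv R σe).toAlgHom
  have h1 : f ≫ g = 𝟙 B := CommAlgCat.hom_ext (AlgHom.ext fun x => (MvPolynomial.renameEquiv R σe).apply_symm_apply x)
  have h2 : g ≫ f = 𝟙 A := CommAlgCat.hom_ext (AlgHom.ext fun x => (MvPolynomial.renameEquiv R σe).symm_apply_apply x)
  exact ⟨({ hom := smap f, inv := smap g,
            hom_inv_id := by rw [← smap_comp, h2, smap_id],
            inv_hom_id := by rw [← smap_comp, h1, smap_id] } : SR A ≅ SR B)⟩

theorem card_chart (s : Fin k ↪ Fin n) : Fintype.card (Jc s × Fin k) = k * (n - k) := by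
  have h : Fintype.card (Jc s) = n - k := by
    rw [Fintype.card_subtype_compl, Fintype.card_fin, Set.card_range_of_injective s.injective, Fintype.card_fin]
  rw [Fintype.card_prod, h, Fintype.card_fin, mul_comm]

theorem chart_iso_affineSpace (s : Fin k ↪ Fin n) :
    Nonempty (chartSp R s ≅
      Over.mk (𝔸(ULift.{u} (Fin (k * (n - k))); Spec (CommRingCat.of R)) ↘ Spec (CommRingCat.of R))) := by
  classical
  obtain ⟨i⟩ := exists_chartSp_iso R s
    ((Fintype.equivFinOfCardEq (card_chart s)).trans Equiv.ulift.{u}.symm)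
  exact ⟨i ≪≫ Over.isoMk (AffineSpace.SpecIso _ (CommRingCat.of R)).symm (AffineSpace.SpecIso_inv_over _)⟩

theorem smooth_chartSp (s : Fin k ↪ Fin n) : SmoothOfRelativeDimension (k * (n - k)) (chartSp R s).hom := by
  classical
  obtain ⟨i⟩ := exists_chartSp_iso (σ := ULift.{u} (Fin (k * (n - k)))) R s
    ((Fintype.equivFinOfCardEq (card_chart s)).trans Equiv.ulift.{u}.symm)
  rw [← Over.w i.hom, MorphismProperty.cancel_left_of_respectsIso (@SmoothOfRelativeDimension (k * (n - k)))]
  refine (HasRingHomProperty.Spec_iff (P := @SmoothOfRelativeDimension (k * (n - k)))).2 ?_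
  refine RingHom.locally_of RingHom.isStandardSmoothOfRelativeDimension_respectsIso _ ?_
  show RingHom.IsStandardSmoothOfRelativeDimension _ (algebraMap R (MvPolynomial (ULift.{u} (Fin (k * (n - k)))) R))
  haveI := H3CAlg.EtaEtale.isStandardSmooth_mvPolynomial R (k * (n - k))
  have h : Algebra.IsStandardSmoothOfRelativeDimension (k * (n - k)) R
      (MvPolynomial (ULift.{u} (Fin (k * (n - k)))) R) :=
    Algebra.IsStandardSmoothOfRelativeDimension.of_algEquiv _ (MvPolynomial.renameEquiv R Equiv.ulift.{u}.symm)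
  exact (RingHom.isStandardSmoothOfRelativeDimension_algebraMap _).2 h

theorem smooth_of_charts {e : ∀ A : CommAlgCat.{u} R, (SR A ⟶ X) ≃ Module.Grassmannian A (A ⊗[R] (Fin n → R)) k}
    (he : RepNat X e) : SmoothOfRelativeDimension (k * (n - k)) X.hom := by
  refine IsZariskiLocalAtSource.of_iSup_eq_top _ (iSup_locus he) fun s => ?_
  obtain ⟨i⟩ := exists_chart he s
  show SmoothOfRelativeDimension _ ((Over.mk (_ ≫ X.hom)).hom)
  rw [← Over.w i.hom, MorphismProperty.cancel_left_of_respectsIso (@SmoothOfRelativeDimension (k * (n - k)))]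
  exact smooth_chartSp R s

end

end Groth.Agent.H26Gr
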