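import Mathlib.RingTheory.Grassmannian
import Mathlib.RingTheory.LocalProperties.FinitePresentation
import Mathlib.RingTheory.Flat.Localization
import Mathlib.RingTheory.Localization.BaseChange
import Mathlib.RingTheory.Spectrum.Prime.FreeLocus
import Groth.Agent.H26Gr.Vanish

/-!
# Zariski descent for points of the Grassmannian
-/

set_option autoImplicit false
set_option backward.isDefEq.respectTransparency false
set_option backward.isDefEq.respectTransparency.types false

universe u

open TensorProduct

namespace Groth.Agent.H26Gr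

section inst

variable {R A B : Type u} [CommRing R] [CommRing A] [Algebra R A] [CommRing B] [Algebra R B] [Algebra A B]
  [IsScalarTower R A B] {M : Type u} [AddCommGroup M] [Module R M]

variable (R B M) in
/-- The map `A ⊗ M → B ⊗ M` for an `A`-algebra `B`. -/
noncomputable def bcA : A ⊗[R] M →ₗ[A] B ⊗[R] M :=
  ((AlgebraTensorModule.cancelBaseChange R A B B M).toLinearMap.restrictScalars A) ∘ₗ
    TensorProduct.mk A B (A ⊗[R] M) 1

@[simp]
theorem bcA_tmul (a : A) (m : M) : bcA R B M (a ⊗ₜ[R] m) = algebraMap A B a ⊗ₜ[R] m := by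
  simp [bcA, Algebra.smul_def]

theorem bcA_eq_bc (x : A ⊗[R] M) : bcA R B M x = bc M (IsScalarTower.toAlgHom R A B) x := by
  induction x using TensorProduct.induction_on with
  | zero => simp
  | tmul a m => simp [bc]
  | add x y hx hy => rw [map_add, map_add, hx, hy]

theorem isLocalizedModule_bcA (S : Submonoid A) [IsLocalization S B] :
    IsLocalizedModule S (bcA R B M (A := A)) :=
  (isLocalizedModule_iff_isBaseChange S B _).2
    (IsBaseChange.of_equiv (AlgebraTensorModule.cancelBaseChange R A B B M) fun x => rfl)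

theorem ker_baseChangeMkQ_eq_span (U : Submodule A (A ⊗[R] M)) :
    LinearMap.ker (Module.Grassmannian.baseChangeMkQ B U) =
      Submodule.span B (bcA R B M '' (U : Set (A ⊗[R] M))) := by
  let e₁ := AlgebraTensorModule.cancelBaseChange R A B B M
  refine le_antisymm (fun z hz => ?_) (Submodule.span_le.2 ?_)
  · obtain ⟨w, rfl⟩ := e₁.surjective z
    have hw : (U.mkQ.baseChange B) w = 0 := by simpa [Module.Grassmannian.baseChangeMkQ, e₁] using hz
    have hex : Function.Exact U.subtype U.mkQ := LinearMap.exact_subtype_mkQ U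
    obtain ⟨t, rfl⟩ := (lTensor_exact (R := A) (M := U) (N := A ⊗[R] M) B hex (Submodule.mkQ_surjective U) w).mp hw
    clear hz hw
    induction t using TensorProduct.induction_on with
    | zero => simp
    | tmul c x =>
      rw [LinearMap.lTensor_tmul, Submodule.subtype_apply,
        show c ⊗ₜ[A] (x : A ⊗[R] M) = c • ((1 : B) ⊗ₜ[A] (x : A ⊗[R] M)) from by
          rw [smul_tmul', smul_eq_mul, mul_one],
        map_smul]
      exact Submodule.smul_mem _ _ (Submodule.subset_span ⟨x, x.2, rfl⟩)
    | add u w hu hw =>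
      rw [map_add, map_add]
      exact add_mem hu hw
  · rintro _ ⟨x, hx, rfl⟩
    rw [SetLike.mem_coe, LinearMap.mem_ker]
    show U.mkQ.baseChange B (e₁.symm (e₁ ((1 : B) ⊗ₜ[A] x))) = 0
    rw [LinearEquiv.symm_apply_apply, LinearMap.baseChange_tmul, Submodule.mkQ_apply,
      (Submodule.Quotient.mk_eq_zero U).mpr hx, tmul_zero]

theorem mem_span_bcA_iff (f : A) [IsLocalization.Away f B] (U : Submodule A (A ⊗[R] M)) (y : B ⊗[R] M) :
    y ∈ Submodule.span B (bcA R B M '' (U : Set (A ⊗[R] M))) ↔ ∃ (m : ℕ), ∃ x ∈ U, f ^ m • y = bcA R B M x := by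
  haveI := isLocalizedModule_bcA (R := R) (B := B) (M := M) (Submonoid.powers f)
  rw [← Submodule.localized'_eq_span B (Submonoid.powers f) (bcA R B M) U, Submodule.mem_localized']
  constructor
  · rintro ⟨x, hx, ⟨_, m, rfl⟩, rfl⟩
    exact ⟨m, x, hx, IsLocalizedModule.mk'_cancel' (bcA R B M) x ⟨f ^ m, pow_mem (Submonoid.mem_powers f) m⟩⟩
  · rintro ⟨m, x, hx, h⟩
    exact ⟨x, hx, ⟨f ^ m, pow_mem (Submonoid.mem_powers f) m⟩, IsLocalizedModule.mk'_eq_iff.2 h.symm⟩

theorem bcA_mem_span_iff (f : A) [IsLocalization.Away f B] (U : Submodule A (A ⊗[R] M)) (x : A ⊗[R] M) :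
    bcA R B M x ∈ Submodule.span B (bcA R B M '' (U : Set (A ⊗[R] M))) ↔ ∃ m : ℕ, f ^ m • x ∈ U := by
  haveI := isLocalizedModule_bcA (R := R) (B := B) (M := M) (Submonoid.powers f)
  rw [mem_span_bcA_iff f]
  constructor
  · rintro ⟨m, x', hx', h⟩
    rw [← map_smul] at h
    obtain ⟨⟨_, l, rfl⟩, hl⟩ := IsLocalizedModule.exists_of_eq (S := Submonoid.powers f) h
    refine ⟨l + m, ?_⟩
    rw [pow_add, mul_smul]
    exact hl ▸ U.smul_mem _ hx'
  · rintro ⟨m, hm⟩
    exact ⟨m, _, hm, (map_smul _ _ _).symm⟩

theorem mem_of_span_eq_top {P : Type u} [AddCommGroup P] [Module A P] (U : Submodule A P) (x : P) {ι : Type u}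
    (g : ι → A) (hg : Ideal.span (Set.range g) = ⊤) (h : ∀ i, ∃ m : ℕ, g i ^ m • x ∈ U) : x ∈ U :=
  U.mem_of_span_eq_top_of_smul_pow_mem _ hg x (by rintro ⟨_, i, rfl⟩; exact h i)

theorem bcA_image (S : Set (A ⊗[R] M)) : bc M (IsScalarTower.toAlgHom R A B) '' S = bcA R B M '' S :=
  Set.image_congr fun x _ => (bcA_eq_bc x).symm

end inst

section alg

variable {R A B C : Type u} [CommRing R] [CommRing A] [Algebra R A] [CommRing B] [Algebra R B] [CommRing C]
  [Algebra R C] {M : Type u} [AddCommGroup M] [Module R M] {k : ℕ}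

theorem bc_bc (p : A →ₐ[R] B) (q : B →ₐ[R] C) (x : A ⊗[R] M) : bc M q (bc M p x) = bc M (q.comp p) x := by
  induction x using TensorProduct.induction_on with
  | zero => simp
  | tmul a m => simp [bc]
  | add x y hx hy => simp only [map_add, hx, hy]

/-- Points agreeing on a cover are equal. -/
theorem eq_of_map_away_eq {ι : Type u} (f : ι → A) (hf : Ideal.span (Set.range f) = ⊤)
    (N N' : Module.Grassmannian A (A ⊗[R] M) k)
    (h : ∀ i, Module.Grassmannian.map (IsScalarTower.toAlgHom R A (Localization.Away (f i))) N =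
      Module.Grassmannian.map (IsScalarTower.toAlgHom R A (Localization.Away (f i))) N') : N = N' := by
  have hiff : ∀ (N : Module.Grassmannian A (A ⊗[R] M) k) (x : A ⊗[R] M), x ∈ N.toSubmodule ↔
      ∀ i, bc M (IsScalarTower.toAlgHom R A (Localization.Away (f i))) x ∈
        (Module.Grassmannian.map (IsScalarTower.toAlgHom R A (Localization.Away (f i))) N).toSubmodule := by
    intro N x
    constructor
    · intro hx i
      rw [map_toSubmodule_eq_span]
      exact Submodule.subset_span ⟨x, hx, rfl⟩
    · intro hx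
      refine mem_of_span_eq_top _ x f hf fun i => ?_
      have h := hx i
      rw [map_toSubmodule_eq_span, ← bcA_eq_bc, bcA_image] at h
      exact (bcA_mem_span_iff (B := Localization.Away (f i)) (f i) N.toSubmodule x).1 h
  exact Module.Grassmannian.ext (Submodule.ext fun x => by
    rw [hiff N, hiff N']
    simp only [h])

/-- Membership propagates between two localisations with compatible points. -/
theorem exists_pow_smul_mem_aux (D : Type u) [CommRing D] [Algebra R D] {P : Type u} [CommRing P] [Algebra R P] [Algebra A P] [IsScalarTower R A P]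
    {Q : Type u} [CommRing Q] [Algebra R Q] [Algebra A Q] [IsScalarTower R A Q]
    [Algebra Q D] [IsScalarTower R Q D] (a : A) [IsLocalization.Away (algebraMap A Q a) D] [IsLocalization.Away a P] (NP : Module.Grassmannian P (P ⊗[R] M) k)
    (NQ : Module.Grassmannian Q (Q ⊗[R] M) k)
    (hN : ∀ (p : P →ₐ[R] D) (q : Q →ₐ[R] D),
      p.comp (IsScalarTower.toAlgHom R A P) = q.comp (IsScalarTower.toAlgHom R A Q) →
      Module.Grassmannian.map p NP = Module.Grassmannian.map q NQ)
    (x : A ⊗[R] M) (hx : bcA R P M x ∈ NP.toSubmodule) :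
    ∃ m : ℕ, bcA R Q M (a ^ m • x) ∈ NQ.toSubmodule := by
  let q : Q →ₐ[R] D := IsScalarTower.toAlgHom R Q D
  let g : A →ₐ[R] D := q.comp (IsScalarTower.toAlgHom R A Q)
  have hu : IsUnit (g.toRingHom a) := IsLocalization.Away.algebraMap_isUnit (S := D) (algebraMap A Q a)
  let p : P →ₐ[R] D :=
    { IsLocalization.Away.lift (S := P) a hu with
      commutes' := fun r => by
        rw [IsScalarTower.algebraMap_apply R A P]
        exact (IsLocalization.Away.lift_eq a hu _).trans (g.commutes r) }
  have hpq : p.comp (IsScalarTower.toAlgHom R A P) = g := AlgHom.ext fun b => IsLocalization.Away.lift_eq a hu b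
  have h := hN p q hpq
  have h1 : bc M q (bcA R Q M x) ∈ (Module.Grassmannian.map q NQ).toSubmodule := by
    rw [← h, map_toSubmodule_eq_span]
    refine Submodule.subset_span ⟨bcA R P M x, hx, ?_⟩
    rw [bcA_eq_bc, bcA_eq_bc, bc_bc, bc_bc, hpq]
  rw [map_toSubmodule_eq_span, bcA_image, ← bcA_eq_bc] at h1
  obtain ⟨m, hm⟩ := (bcA_mem_span_iff (A := Q) (algebraMap A Q a) _ _).1 h1
  refine ⟨m, ?_⟩
  rwa [map_smul, ← algebraMap_smul Q (a ^ m), map_pow]

/-- Membership propagates between two localisations with compatible points. -/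
theorem exists_pow_smul_mem {P : Type u} [CommRing P] [Algebra R P] [Algebra A P] [IsScalarTower R A P]
    {Q : Type u} [CommRing Q] [Algebra R Q] [Algebra A Q] [IsScalarTower R A Q]
    (a : A) [IsLocalization.Away a P] (NP : Module.Grassmannian P (P ⊗[R] M) k)
    (NQ : Module.Grassmannian Q (Q ⊗[R] M) k)
    (hN : ∀ (D : Type u) [CommRing D] [Algebra R D] (p : P →ₐ[R] D) (q : Q →ₐ[R] D),
      p.comp (IsScalarTower.toAlgHom R A P) = q.comp (IsScalarTower.toAlgHom R A Q) →
      Module.Grassmannian.map p NP = Module.Grassmannian.map q NQ)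
    (x : A ⊗[R] M) (hx : bcA R P M x ∈ NP.toSubmodule) :
    ∃ m : ℕ, bcA R Q M (a ^ m • x) ∈ NQ.toSubmodule :=
  exists_pow_smul_mem_aux (Localization.Away (algebraMap A Q a)) a NP NQ (fun p q => hN _ p q) x hx

/-- Compatible points on a cover glue. -/
theorem exists_glue_gr [Module.Free R M] [Module.Finite R M] {ι : Type u} (f : ι → A)
    (hf : Ideal.span (Set.range f) = ⊤)
    (N : ∀ i, Module.Grassmannian (Localization.Away (f i)) (Localization.Away (f i) ⊗[R] M) k)
    (hN : ∀ (i j : ι) (D : Type u) [CommRing D] [Algebra R D] (p : Localization.Away (f i) →ₐ[R] D)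
      (q : Localization.Away (f j) →ₐ[R] D),
      p.comp (IsScalarTower.toAlgHom R A (Localization.Away (f i))) =
        q.comp (IsScalarTower.toAlgHom R A (Localization.Away (f j))) →
      Module.Grassmannian.map p (N i) = Module.Grassmannian.map q (N j)) :
    ∃ N₀ : Module.Grassmannian A (A ⊗[R] M) k,
      ∀ i, Module.Grassmannian.map (IsScalarTower.toAlgHom R A (Localization.Away (f i))) N₀ = N i := by
  classical
  let L : ι → Type u := fun i => Localization.Away (f i)
  have cross : ∀ (i j : ι) (x : A ⊗[R] M), bcA R (L i) M x ∈ (N i).toSubmodule →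
      ∃ m : ℕ, bcA R (L j) M (f i ^ m • x) ∈ (N j).toSubmodule := fun i j x hx =>
    exists_pow_smul_mem (f i) (N i) (N j) (hN i j) x hx
  -- a finite subcover
  obtain ⟨t, ht, hone⟩ := Submodule.mem_span_finite_of_mem_span
    (show (1 : A) ∈ Ideal.span (Set.range f) from hf ▸ Submodule.mem_top)
  have htop : Ideal.span (t : Set A) = ⊤ := (Ideal.eq_top_iff_one _).2 hone
  choose c hc using fun a : t => ht a.2
  have hspan : Ideal.span (Set.range fun a : t => f (c a)) = ⊤ := by
    rw [show (fun a : t => f (c a)) = Subtype.val from funext hc, Subtype.range_coe_subtype]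
    simpa using htop
  let U : Submodule A (A ⊗[R] M) := ⨅ a : t, ((N (c a)).toSubmodule.restrictScalars A).comap (bcA R (L (c a)) M)
  have hU : ∀ x, x ∈ U ↔ ∀ a : t, bcA R (L (c a)) M x ∈ (N (c a)).toSubmodule := fun x => by
    simp [U, Submodule.mem_iInf]
  have hUmem : ∀ (j : ι) x, x ∈ U → bcA R (L j) M x ∈ (N j).toSubmodule := by
    intro j x hx
    refine mem_of_span_eq_top ((N j).toSubmodule.restrictScalars A) _ (fun a : t => f (c a)) hspan fun a => ?_
    obtain ⟨m, hm⟩ := cross (c a) j x ((hU x).1 hx a)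
    exact ⟨m, by rw [← map_smul]; exact hm⟩
  have hUspan : ∀ j : ι, Submodule.span (L j) (bcA R (L j) M '' (U : Set (A ⊗[R] M))) = (N j).toSubmodule := by
    intro j
    refine le_antisymm (Submodule.span_le.2 ?_) fun y hy => ?_
    · rintro _ ⟨x, hx, rfl⟩
      exact hUmem j x hx
    · haveI := isLocalizedModule_bcA (R := R) (B := L j) (M := M) (Submonoid.powers (f j))
      obtain ⟨⟨x₀, ⟨_, n, rfl⟩⟩, hx₀⟩ := IsLocalizedModule.surj (Submonoid.powers (f j)) (bcA R (L j) M) y
      have hx₀' : bcA R (L j) M x₀ ∈ (N j).toSubmodule := hx₀ ▸ (N j).toSubmodule.smul_of_tower_mem _ hy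
      choose m hm using fun a : t => cross j (c a) x₀ hx₀'
      let M₀ := Finset.univ.sup m
      refine (mem_span_bcA_iff (f j) U y).2 ⟨M₀ + n, f j ^ M₀ • x₀, (hU _).2 fun a => ?_, ?_⟩
      · obtain ⟨d, hd⟩ := Nat.exists_eq_add_of_le (Finset.le_sup (f := m) (Finset.mem_univ a))
        show bcA R (L (c a)) M (f j ^ M₀ • x₀) ∈ _
        rw [show M₀ = m a + d from hd, pow_add, mul_comm, mul_smul, map_smul]
        exact (N (c a)).toSubmodule.smul_of_tower_mem _ (hm a)
      · rw [map_smul, ← hx₀, pow_add, mul_smul]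
        rfl
  -- the quotient is projective of rank `k`
  let Q := (A ⊗[R] M) ⧸ U
  have eQ : ∀ j : ι, (L j ⊗[A] Q) ≃ₗ[L j] (L j ⊗[R] M) ⧸ (N j).toSubmodule := fun j =>
    (Module.Grassmannian.baseChangeMkQEquiv (B := L j) U).symm.trans
      (Submodule.quotEquivOfEq _ _ ((ker_baseChangeMkQ_eq_span U).trans (hUspan j)))
  let s : Set A := Set.range fun a : t => f (c a)
  choose d hd using fun g : s => g.2
  have : ∀ g : s, IsLocalization.Away g.1 (L (c (d g))) := fun g => by
    rw [← hd g]
    exact inferInstanceAs (IsLocalization.Away (f (c (d g))) (Localization.Away (f (c (d g)))))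
  have : ∀ g : s, IsLocalizedModule (Submonoid.powers g.1)
      (TensorProduct.mk A (L (c (d g))) Q 1) := fun g =>
    (isLocalizedModule_iff_isBaseChange _ (L (c (d g))) _).2 (TensorProduct.isBaseChange A Q _)
  have hproj : ∀ g : s, Module.Projective (L (c (d g))) (L (c (d g)) ⊗[A] Q) := fun g =>
    Module.Projective.of_equiv (eQ _).symm
  have hfin : ∀ g : s, Module.Finite (L (c (d g))) (L (c (d g)) ⊗[A] Q) := fun g =>
    Module.Finite.equiv (eQ _).symm
  haveI : Module.FinitePresentation A Q :=
    Module.FinitePresentation.of_localizationSpan' s hspan (Rₚ := fun g => L (c (d g)))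
      (fun g => TensorProduct.mk A (L (c (d g))) Q 1) fun g => Module.finitePresentation_of_projective _ _
  haveI : Module.Flat A Q :=
    Module.flat_of_isLocalized_span (S := A) _ s hspan _ (fun g => TensorProduct.mk A (L (c (d g))) Q 1) fun g => by
      haveI : Module.Flat A (L (c (d g))) := IsLocalization.flat (L (c (d g))) (Submonoid.powers g.1)
      exact Module.Flat.trans A (L (c (d g))) _
  haveI : Module.Projective A Q := Module.freeLocus_eq_univ_iff.1 Module.freeLocus_eq_univ
  refine ⟨{ toSubmodule := U, finite_quotient := inferInstance, projective_quotient := inferInstance,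
            rankAtStalk_eq := fun p => ?_ }, fun i => ?_⟩
  · obtain ⟨a, ha⟩ : ∃ a : t, f (c a) ∉ p.asIdeal := by
      by_contra hall
      push Not at hall
      exact p.isPrime.ne_top (top_le_iff.1 (hspan ▸ Ideal.span_le.2 (Set.range_subset_iff.2 hall)))
    obtain ⟨q, hq⟩ : ∃ q, PrimeSpectrum.comap (algebraMap A (L (c a))) q = p := by
      have h := PrimeSpectrum.localization_away_comap_range (L (c a)) (f (c a))
      exact (show p ∈ Set.range (PrimeSpectrum.comap (algebraMap A (L (c a)))) from h ▸ ha)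
    rw [← hq, ← Module.rankAtStalk_baseChange, Module.rankAtStalk_eq_of_equiv (eQ (c a))]
    exact (N (c a)).rankAtStalk_eq q
  · refine Module.Grassmannian.ext ?_
    rw [map_toSubmodule_eq_span, ← hUspan i, bcA_image]

end alg

end Groth.Agent.H26Gr
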