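import Groth.Agent.H26Gr.Points
import Groth.Agent.H26Gr.Descent
import Groth.Agent.H8Props.WeilRes.Cover

/-!
# The Grassmannian as a Zariski sheaf on schemes over an affine base

A point with values in a scheme is a natural family of points with values in its affine points.
-/

set_option autoImplicit false
set_option backward.isDefEq.respectTransparency false
set_option backward.isDefEq.respectTransparency.types false

universe u

open CategoryTheory CategoryTheory.Limits AlgebraicGeometry TensorProduct Opposite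

namespace Groth.Agent.H26Gr

noncomputable section

variable {R : Type u} [CommRing R]

/-- The morphism of spectra of a map of algebras. -/
noncomputable def smap {A B : CommAlgCat.{u} R} (φ : A ⟶ B) : SR B ⟶ SR A :=
  Over.homMk (Spec.map (CommRingCat.ofHom φ.hom.toRingHom)) (by
    show Spec.map _ ≫ Spec.map _ = Spec.map _
    rw [← Spec.map_comp]
    exact congrArg (fun t => Spec.map t) (CommRingCat.hom_ext (RingHom.ext φ.hom.commutes)))

theorem smap_comp {A B C : CommAlgCat.{u} R} (φ : A ⟶ B) (ψ : B ⟶ C) : smap (φ ≫ ψ) = smap ψ ≫ smap φ := by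
  refine Over.OverMorphism.ext ?_
  show Spec.map _ = Spec.map _ ≫ Spec.map _
  rw [← Spec.map_comp]
  rfl

theorem smap_id (A : CommAlgCat.{u} R) : smap (𝟙 A) = 𝟙 (SR A) := by
  refine Over.OverMorphism.ext ?_
  show Spec.map _ = 𝟙 _
  rw [← Spec.map_id]
  rfl

theorem exists_smap_eq {A B : CommAlgCat.{u} R} (t : SR B ⟶ SR A) : ∃ φ : A ⟶ B, smap φ = t := by
  have hc : CommRingCat.ofHom (algebraMap R A) ≫ Spec.preimage t.left = CommRingCat.ofHom (algebraMap R B) :=
    Spec.map_injective (by rw [Spec.map_comp, Spec.map_preimage]; exact Over.w t)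
  refine ⟨CommAlgCat.ofHom { (Spec.preimage t.left).hom with commutes' := fun c => congr($(hc).hom c) }, ?_⟩
  refine Over.OverMorphism.ext ?_
  exact Spec.map_preimage t.left

theorem smap_injective {A B : CommAlgCat.{u} R} : Function.Injective (smap (A := A) (B := B)) := fun φ ψ h => by
  have h' := Spec.map_injective (congrArg (fun t : SR B ⟶ SR A => t.left) h)
  exact CommAlgCat.hom_ext (AlgHom.ext fun a => congr($(h').hom a))

variable (R) in
/-- The base. -/
abbrev Sb := Spec (CommRingCat.of R)

variable (M : Type u) [AddCommGroup M] [Module R M] (k : ℕ)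

/-- A natural family of points of the Grassmannian. -/
structure Fam (T : Over (Sb R)) : Type (u + 1) where
  /-- the point at an affine point -/
  val : ∀ A : CommAlgCat.{u} R, (SR A ⟶ T) → Module.Grassmannian A (A ⊗[R] M) k
  /-- naturality -/
  nat : ∀ (A B : CommAlgCat.{u} R) (φ : A ⟶ B) (g : SR A ⟶ T),
    val B (smap φ ≫ g) = Module.Grassmannian.map φ.hom (val A g)

variable {M k}

/-- The localisation of an algebra. -/
abbrev locA (A : CommAlgCat.{u} R) (f : A) : CommAlgCat.{u} R := CommAlgCat.of R (Localization.Away f)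

/-- The localisation map. -/
noncomputable abbrev locι (A : CommAlgCat.{u} R) (f : A) : A ⟶ locA A f :=
  CommAlgCat.ofHom (IsScalarTower.toAlgHom R A (Localization.Away f))

theorem exists_glue_loc [Module.Free R M] [Module.Finite R M] (A : CommAlgCat.{u} R) {ι : Type u} (f : ι → A)
    (hf : Ideal.span (Set.range f) = ⊤)
    (N : ∀ i, Module.Grassmannian (locA A (f i)) ((locA A (f i)) ⊗[R] M) k)
    (hN : ∀ (i j : ι) (D : CommAlgCat.{u} R) (p : locA A (f i) ⟶ D) (q : locA A (f j) ⟶ D),
      locι A (f i) ≫ p = locι A (f j) ≫ q →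
      Module.Grassmannian.map p.hom (N i) = Module.Grassmannian.map q.hom (N j)) :
    ∃ N₀ : Module.Grassmannian A (A ⊗[R] M) k, ∀ i, Module.Grassmannian.map (locι A (f i)).hom N₀ = N i :=
  exists_glue_gr (A := A) f hf N fun i j D _ _ p q hpq =>
    hN i j (CommAlgCat.of R D) (CommAlgCat.ofHom p) (CommAlgCat.ofHom q) (CommAlgCat.hom_ext hpq)

theorem exists_lift_away {A C : Type u} [CommRing A] [Algebra R A] [CommRing C] [Algebra R C] (χ : A →ₐ[R] C)
    (f : A) {P : Type u} [CommRing P] [Algebra R P] [Algebra A P] [IsScalarTower R A P] [IsLocalization.Away f P]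
    (hu : IsUnit (χ f)) : ∃ ψ : P →ₐ[R] C, ψ.comp (IsScalarTower.toAlgHom R A P) = χ :=
  ⟨{ IsLocalization.Away.lift (S := P) f (g := χ.toRingHom) hu with
      commutes' := fun r => by
        rw [IsScalarTower.algebraMap_apply R A P]
        exact (IsLocalization.Away.lift_eq f (g := χ.toRingHom) hu _).trans (χ.commutes r) },
    AlgHom.ext fun a => IsLocalization.Away.lift_eq f (g := χ.toRingHom) hu a⟩

theorem exists_loc_map {A B : CommAlgCat.{u} R} (φ : A ⟶ B) (f : A) :
    ∃ ψ : locA A f ⟶ locA B (φ.hom f), locι A f ≫ ψ = φ ≫ locι B (φ.hom f) := by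
  obtain ⟨ψ, hψ⟩ := exists_lift_away (P := Localization.Away f) ((locι B (φ.hom f)).hom.comp φ.hom) f
    (IsLocalization.Away.algebraMap_isUnit (S := Localization.Away (φ.hom f)) (φ.hom f))
  exact ⟨CommAlgCat.ofHom ψ, CommAlgCat.hom_ext hψ⟩

theorem range_smap_locι (A : CommAlgCat.{u} R) (f : A) :
    Set.range (smap (locι A f)).left = (PrimeSpectrum.basicOpen f : Set (PrimeSpectrum A)) :=
  PrimeSpectrum.localization_away_comap_range (Localization.Away f) f

/-- Enough basic opens land in a jointly surjective family of open immersions. -/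
theorem exists_cover (A : CommAlgCat.{u} R) {T : Over (Sb R)} {κ : Type u} {C : κ → Over (Sb R)}
    (π : ∀ i, C i ⟶ T) (ho : ∀ i, IsOpenImmersion (π i).left) (hc : ∀ x : T.left, ∃ i, x ∈ Set.range (π i).left)
    (g : SR A ⟶ T) :
    Ideal.span (Set.range (fun f : {f : A // ∃ i, ∃ h : SR (locA A f) ⟶ C i, h ≫ π i = smap (locι A f) ≫ g} => f.1))
      = ⊤ := by
  by_contra hne
  obtain ⟨m, hm, hle⟩ := Ideal.exists_le_maximal _ hne
  let p : PrimeSpectrum A := ⟨m, hm.isPrime⟩
  obtain ⟨i, hi⟩ := hc (g.left p)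
  haveI := ho i
  obtain ⟨_, ⟨f, rfl⟩, hpf, hf⟩ := PrimeSpectrum.isTopologicalBasis_basic_opens.exists_subset_of_mem_open
    (a := p) (show p ∈ g.left ⁻¹' (Set.range (π i).left) from hi)
    ((IsOpenImmersion.isOpen_range (π i).left).preimage g.left.continuous)
  refine hpf (hle (Ideal.subset_span ⟨⟨f, i, ?_⟩, rfl⟩))
  have hr : Set.range (smap (locι A f) ≫ g).left ⊆ Set.range (π i).left := by
    rintro _ ⟨y, rfl⟩
    exact hf ((range_smap_locι A f).le ⟨y, rfl⟩)
  exact ⟨Over.homMk (IsOpenImmersion.lift (π i).left (smap (locι A f) ≫ g).left hr) (by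
      rw [← Over.w (π i), IsOpenImmersion.lift_fac_assoc]
      exact Over.w (smap (locι A f) ≫ g)),
    Over.OverMorphism.ext (IsOpenImmersion.lift_fac _ _ _)⟩

theorem Fam.ext {T : Over (Sb R)} {N N' : Fam M k T} (h : ∀ A g, N.val A g = N'.val A g) : N = N' := by
  obtain ⟨v, hv⟩ := N
  obtain ⟨v', hv'⟩ := N'
  obtain rfl : v = v' := funext fun A => funext (h A)
  rfl

/-- Families agreeing on a cover are equal. -/
theorem Fam.ext_cover {T : Over (Sb R)} {κ : Type u} {C : κ → Over (Sb R)} (π : ∀ i, C i ⟶ T)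
    (ho : ∀ i, IsOpenImmersion (π i).left) (hc : ∀ x : T.left, ∃ i, x ∈ Set.range (π i).left) {N N' : Fam M k T}
    (h : ∀ i A (g : SR A ⟶ C i), N.val A (g ≫ π i) = N'.val A (g ≫ π i)) : N = N' :=
  Fam.ext fun A g => eq_of_map_away_eq _ (exists_cover A π ho hc g) _ _ fun ⟨f, i, l, hl⟩ => by
    have h1 := N.nat A (locA A f) (locι A f) g
    have h2 := N'.nat A (locA A f) (locι A f) g
    rw [← hl] at h1 h2
    exact h1.symm.trans ((h i _ l).trans h2)

/-- The tautological point of an affine open. -/
noncomputable abbrev openPt (T : Over (Sb R)) (V : T.left.affineOpens) : SR (ofPt V.2.fromSpec) ⟶ T :=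
  gOf V.2.fromSpec

instance small_fam (T : Over (Sb R)) : Small.{u} (Fam M k T) := by
  refine small_of_injective (f := fun N : Fam M k T => fun V : T.left.affineOpens =>
    N.val _ (openPt T V)) fun N N' h => ?_
  refine Fam.ext_cover (fun V : T.left.affineOpens => openPt T V) (fun V => ?_) (fun x => ?_) fun V A g => ?_
  · exact inferInstanceAs (IsOpenImmersion V.2.fromSpec)
  · obtain ⟨W, hW, hxW, -⟩ := exists_isAffineOpen_mem_and_subset (x := x) (U := (⊤ : T.left.Opens)) trivial
    exact ⟨⟨W, hW⟩, show x ∈ Set.range hW.fromSpec from hW.range_fromSpec.symm ▸ hxW⟩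
  · obtain ⟨φ, rfl⟩ := exists_smap_eq g
    rw [N.nat, N'.nat]
    exact congrArg (Module.Grassmannian.map φ.hom) (congrFun h V)

/-- Pullback of families. -/
def Fam.pull {T' T : Over (Sb R)} (p : T' ⟶ T) (N : Fam M k T) : Fam M k T' where
  val A g := N.val A (g ≫ p)
  nat A B φ g := by rw [Category.assoc]; exact N.nat A B φ (g ≫ p)

variable (M k) in
/-- The functor of families. -/
noncomputable def famFunctor : (Over (Sb R))ᵒᵖ ⥤ Type u where
  obj T := Shrink.{u} (Fam M k T.unop)
  map p := ↾fun N => equivShrink _ (((equivShrink (Fam M k _)).symm N).pull p.unop)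
  map_id T := by
    refine ConcreteCategory.hom_ext _ _ fun N => ?_
    refine ((equivShrink (Fam M k T.unop)).apply_eq_iff_eq_symm_apply).2 ?_
    exact Fam.ext fun A g => by
      show ((equivShrink _).symm N).val A (g ≫ 𝟙 _) = _
      rw [Category.comp_id]
      rfl
  map_comp p q := by
    refine ConcreteCategory.hom_ext _ _ fun N => ?_
    refine congrArg (equivShrink _) (Fam.ext fun A g => ?_)
    show _ = ((equivShrink _).symm (equivShrink _ (((equivShrink (Fam M k _)).symm N).pull p.unop))).val A (g ≫ q.unop)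
    rw [Equiv.symm_apply_apply]
    show ((equivShrink _).symm N).val A (g ≫ q.unop ≫ p.unop) = _
    rw [← Category.assoc]
    rfl

theorem famFunctor_map {T' T : Over (Sb R)} (p : T' ⟶ T) (N : Fam M k T) :
    (famFunctor M k).map p.op (equivShrink _ N) = equivShrink _ (N.pull p) := by
  show equivShrink _ (((equivShrink (Fam M k T)).symm (equivShrink _ N)).pull p) = _
  rw [Equiv.symm_apply_apply]

theorem isZariskiGluing_famFunctor [Module.Free R M] [Module.Finite R M] :
    H8Props.WeilRes.IsZariskiGluing (famFunctor (R := R) M k) := by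
  intro T κ C π ho hc s hs
  let v : ∀ i, Fam M k (C i) := fun i => (equivShrink (Fam M k (C i))).symm (s i)
  have hv : ∀ i j (A : CommAlgCat.{u} R) (a : SR A ⟶ C i) (b : SR A ⟶ C j), a ≫ π i = b ≫ π j →
      (v i).val A a = (v j).val A b := by
    intro i j A a b h
    have h' := hs i j (SR A) a b h
    have e1 : (v i).pull a = (v j).pull b := by
      apply (equivShrink (Fam M k (SR A))).injective
      rw [← famFunctor_map, ← famFunctor_map]
      simpa [v] using h'
    have e2 := congrArg (fun N : Fam M k (SR A) => N.val A (𝟙 _)) e1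
    simpa [Fam.pull] using e2
  let IsVal : ∀ (A : CommAlgCat.{u} R), (SR A ⟶ T) → Module.Grassmannian A (A ⊗[R] M) k → Prop := fun A g N =>
    ∀ (B : CommAlgCat.{u} R) (φ : A ⟶ B) (i : κ) (h : SR B ⟶ C i), h ≫ π i = smap φ ≫ g →
      Module.Grassmannian.map φ.hom N = (v i).val B h
  have hex : ∀ A g, ∃ N, IsVal A g N := by
    intro A g
    choose ix lf hlf using fun f : {f : A // ∃ i, ∃ h : SR (locA A f) ⟶ C i, h ≫ π i = smap (locι A f) ≫ g} => f.2
    obtain ⟨N, hN⟩ := exists_glue_loc A _ (exists_cover A π ho hc g)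
      (fun f => (v (ix f)).val (locA A f.1) (lf f)) fun a b D p q hpq => by
        refine ((v (ix a)).nat _ D p (lf a)).symm.trans (Eq.trans ?_ ((v (ix b)).nat _ D q (lf b)))
        refine hv _ _ D _ _ ?_
        rw [Category.assoc, Category.assoc, hlf, hlf, ← Category.assoc, ← Category.assoc, ← smap_comp, ← smap_comp,
          hpq]
    refine ⟨N, fun B φ i h hh => ?_⟩
    refine eq_of_map_away_eq (fun f : {f : A // ∃ i, ∃ h : SR (locA A f) ⟶ C i, h ≫ π i = smap (locι A f) ≫ g} =>
      φ.hom f.1) ?_ _ _ fun f => ?_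
    · have h1 := congrArg (Ideal.map φ.hom.toRingHom) (exists_cover A π ho hc g)
      rw [Ideal.map_span, Ideal.map_top, ← Set.range_comp] at h1
      exact h1
    · obtain ⟨ψ, hψ⟩ := exists_loc_map φ f.1
      calc Module.Grassmannian.map (locι B (φ.hom f.1)).hom (Module.Grassmannian.map φ.hom N)
          = Module.Grassmannian.map (φ ≫ locι B (φ.hom f.1)).hom N :=
            (Module.Grassmannian.map_comp k φ.hom (locι B (φ.hom f.1)).hom N).symm
        _ = Module.Grassmannian.map (locι A f.1 ≫ ψ).hom N := by rw [hψ]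
        _ = Module.Grassmannian.map ψ.hom (Module.Grassmannian.map (locι A f.1).hom N) :=
            Module.Grassmannian.map_comp k (locι A f.1).hom ψ.hom N
        _ = Module.Grassmannian.map ψ.hom ((v (ix f)).val (locA A f.1) (lf f)) := congrArg _ (hN f)
        _ = (v (ix f)).val _ (smap ψ ≫ lf f) := ((v (ix f)).nat _ _ ψ (lf f)).symm
        _ = (v i).val _ (smap (locι B (φ.hom f.1)) ≫ h) := hv _ _ _ _ _ (by
            rw [Category.assoc, Category.assoc, hlf, hh, ← Category.assoc, ← Category.assoc, ← smap_comp,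
              ← smap_comp, hψ])
        _ = Module.Grassmannian.map (locι B (φ.hom f.1)).hom ((v i).val B h) := (v i).nat _ _ _ h
  have huniq : ∀ A g N N', IsVal A g N → IsVal A g N' → N = N' := by
    intro A g N N' h h'
    refine eq_of_map_away_eq _ (exists_cover A π ho hc g) N N' fun ⟨f, i, l, hl⟩ => ?_
    exact (h _ (locι A f) i l hl).trans (h' _ (locι A f) i l hl).symm
  choose val hval using hex
  let N₀ : Fam M k T :=
    { val := val
      nat := fun A B φ g => huniq _ _ _ _ (hval B (smap φ ≫ g)) fun B' ψ i h hh => by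
        refine Eq.trans ?_ (hval A g B' (φ ≫ ψ) i h (by rw [hh, smap_comp, Category.assoc]))
        exact (Module.Grassmannian.map_comp k φ.hom ψ.hom _).symm }
  refine ⟨equivShrink _ N₀, fun i => ?_, fun t ht => ?_⟩
  · refine (famFunctor_map (π i) N₀).trans ?_
    refine (Equiv.apply_eq_iff_eq_symm_apply _).2 (Fam.ext fun A g => ?_)
    refine Eq.trans ?_ (hval A (g ≫ π i) A (𝟙 A) i g (by rw [smap_id, Category.id_comp]))
    exact (Module.Grassmannian.map_id k A _).symm
  · obtain ⟨Nt, rfl⟩ : ∃ Nt, equivShrink _ Nt = t := ⟨(equivShrink _).symm t, Equiv.apply_symm_apply _ _⟩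
    refine congrArg _ (Fam.ext fun A g => huniq A g _ _ ?_ (hval A g))
    intro B φ i h hh
    have h1 := ht i
    rw [famFunctor_map] at h1
    have h2 : Nt.pull (π i) = v i := (Equiv.apply_eq_iff_eq_symm_apply _).1 h1
    rw [← h2]
    show _ = Nt.val B (h ≫ π i)
    rw [hh, Nt.nat]

end

end Groth.Agent.H26Gr
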