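import Groth.Agent.H26Gr.FlagExist

/-!
# Morphisms forgetting steps of a flag
-/

set_option autoImplicit false
set_option backward.isDefEq.respectTransparency false
set_option backward.isDefEq.respectTransparency.types false

universe u

open CategoryTheory CategoryTheory.Limits AlgebraicGeometry Grass

namespace Groth.Agent.H26Gr

noncomputable section

variable {X : Scheme.{u}} {E : X.Modules}

/-- The dimension contributed by the steps from `k` on. -/
def flagDim (N : ℕ) {m : ℕ} (n : Fin m → ℕ) (k : ℕ) : ℕ :=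
  ∑ i : Fin m, if k ≤ (i : ℕ) then n i * ((Fin.cons N n : Fin (m + 1) → ℕ) (Fin.castSucc i) - n i) else 0

theorem flagDim_self (N : ℕ) {m : ℕ} (n : Fin m → ℕ) : flagDim N n m = 0 :=
  Finset.sum_eq_zero fun i _ => if_neg (Nat.not_le.2 i.2)

theorem flagDim_succ (N : ℕ) {m : ℕ} (n : Fin (m + 1) → ℕ) {k : ℕ} (hk : k ≤ m) :
    flagDim N n k = flagDim N (fun i => n (Fin.castSucc i)) k +
      n (Fin.last m) * ((Fin.cons N n : Fin (m + 2) → ℕ) (Fin.castSucc (Fin.last m)) - n (Fin.last m)) := by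
  rw [flagDim, Fin.sum_univ_castSucc, if_pos (show k ≤ ((Fin.last m : Fin (m + 1)) : ℕ) from hk)]
  congr 1
  refine Finset.sum_congr rfl fun i _ => ?_
  simp only [Fin.val_castSucc]
  congr 3
  rcases i with ⟨i, hi⟩
  cases i with
  | zero => rfl
  | succ j => rfl

/-- A flag scheme with one step is a Grassmannian. -/
theorem isGrass_of_one {F : Scheme.{u}} {π : F ⟶ X} {n : Fin 1 → ℕ} {Q : Fin 1 → F.Modules}
    {q : ∀ i, (Scheme.Modules.pullback π).obj E ⟶ Q i} (hF : IsFlag π E n Q q) : IsGrass π E (n 0) (Q 0) (q 0) := by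
  refine ⟨hF.rank 0, hF.epi 0, fun T g L hL s hs => ?_⟩
  obtain ⟨h, ⟨hg, e, he⟩, hu⟩ := hF.univ T g (fun _ => L)
    (fun i => by rw [Fin.fin_one_eq_zero i]; exact hL) (fun _ => s) (fun _ => hs)
    (fun _ _ _ => ⟨𝟙 _, Category.comp_id _⟩)
  exact ⟨h, ⟨hg, e 0, he 0⟩, fun h' ⟨hg', e', he'⟩ => hu h' ⟨hg', fun i => Fin.cases (motive := fun i =>
    (Scheme.Modules.pullback h').obj (Q i) ≅ L) e' (fun j => j.elim0) i,
    fun i => Fin.cases he' (fun j => j.elim0) i⟩⟩

theorem flag_props {N : ℕ} (hE : FlatMod.IsFinLocFreeOfRank N E) : ∀ {m : ℕ} (n : Fin m → ℕ),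
    StrictAnti n → (∀ i, n i < N) → ∀ {F : Scheme.{u}} {π : F ⟶ X} {Q : Fin m → F.Modules}
    {q : ∀ i, (Scheme.Modules.pullback π).obj E ⟶ Q i}, IsFlag π E n Q q → ∀ {k : ℕ} (hk : k ≤ m)
    {F₀ : Scheme.{u}} {π₀ : F₀ ⟶ X} {Q₀ : Fin k → F₀.Modules}
    {q₀ : ∀ i, (Scheme.Modules.pullback π₀).obj E ⟶ Q₀ i}, IsFlag π₀ E (fun i => n (Fin.castLE hk i)) Q₀ q₀ →
    ∀ (f : F ⟶ F₀) (hf : f ≫ π₀ = π), (∀ i, ∃ e : (Scheme.Modules.pullback f).obj (Q₀ i) ≅ Q (Fin.castLE hk i),
      quotBC hf (q₀ i) ≫ e.hom = q (Fin.castLE hk i)) →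
    SmoothOfRelativeDimension (flagDim N n k) f ∧ IsProper f ∧ Surjective f := by
  intro m
  induction m with
  | zero =>
    intro n _ _ F π Q q hF k hk F₀ π₀ Q₀ q₀ hF₀ f hf ef
    obtain rfl : k = 0 := Nat.le_zero.1 hk
    haveI := isIso_of_same hF hF₀ f hf ef
    rw [flagDim_self]
    exact ⟨inferInstance, inferInstance, inferInstance⟩
  | succ m ih =>
    intro n hn hN F π Q q hF k hk F₀ π₀ Q₀ q₀ hF₀ f hf ef
    rcases Nat.eq_or_lt_of_le hk with hkm | hkm
    · subst hkm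
      haveI := isIso_of_same hF hF₀ f hf ef
      rw [flagDim_self]
      exact ⟨inferInstance, inferInstance, inferInstance⟩
    have hk' : k ≤ m := Nat.lt_succ_iff.1 hkm
    obtain ⟨F₁, π₁, Q₁, q₁, hF₁⟩ := exists_isFlag hE fun i : Fin m => n (Fin.castSucc i)
    have hn₁ : StrictAnti fun i : Fin m => n (Fin.castSucc i) := fun i j h => hn (Fin.castSucc_lt_castSucc_iff.2 h)
    -- forgetting the last step
    have hnest : ∀ i j : Fin m, i ≤ j → ∃ t : Q (Fin.castSucc i) ⟶ Q (Fin.castSucc j),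
        q (Fin.castSucc i) ≫ t = q (Fin.castSucc j) := fun i j h => hF.nested _ _ (Fin.castSucc_le_castSucc_iff.2 h)
    let a := hF₁.lift π (fun i => Q (Fin.castSucc i)) (fun i => hF.rank _) (fun i => q (Fin.castSucc i))
      (fun i => hF.epi _) hnest
    have ha : a ≫ π₁ = π := hF₁.lift_comp _ _ _ _ _ _
    have ea := hF₁.quotBC_liftIso π (fun i => Q (Fin.castSucc i)) (fun i => hF.rank _) (fun i => q (Fin.castSucc i))
      (fun i => hF.epi _) hnest
    let b := hF₀.lift π₁ (fun i => Q₁ (Fin.castLE hk' i)) (fun i => hF₁.rank (Fin.castLE hk' i))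
      (fun i => q₁ (Fin.castLE hk' i)) (fun i => hF₁.epi _)
      (fun i j h => hF₁.nested _ _ ((Fin.castLE_le_castLE_iff hk').2 h))
    have hb : b ≫ π₀ = π₁ := hF₀.lift_comp _ _ _ _ _ _
    have eb : ∀ i, ∃ e : (Scheme.Modules.pullback b).obj (Q₀ i) ≅ Q₁ (Fin.castLE hk' i),
        quotBC hb (q₀ i) ≫ e.hom = q₁ (Fin.castLE hk' i) := fun i => ⟨_, hF₀.quotBC_liftIso _ _ _ _ _ _ i⟩
    have hfab : f = a ≫ b := flag_hom_ext hF₀ (fun i => hF.rank (Fin.castLE hk i)) (fun i => hF.epi _)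
      (fun i j h => hF.nested _ _ ((Fin.castLE_le_castLE_iff hk).2 h)) hf (by rw [Category.assoc, hb, ha]) ef
      (fun i => rel_comp hb ha (eb i) ⟨_, ea (Fin.castLE hk' i)⟩ _)
    obtain ⟨hbs, hbp, hbj⟩ := ih _ hn₁ (fun i => hN _) hF₁ hk' hF₀ b hb eb
    have step : ∃ R, n (Fin.last m) ≤ R ∧ R = (Fin.cons N n : Fin (m + 2) → ℕ) (Fin.castSucc (Fin.last m)) ∧
        SmoothOfRelativeDimension (n (Fin.last m) * (R - n (Fin.last m))) a ∧ IsProper a ∧ Surjective a := by
      cases m with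
      | zero =>
        haveI := isIso_of_empty hF₁
        have hG := isGrass_of_one hF
        have haπ : a = π ≫ inv π₁ := by rw [IsIso.eq_comp_inv]; exact ha
        haveI := smooth_locFree hE hG
        haveI := isProper_locFree hE hG
        haveI := surjective_locFree hE hG (hN 0).le
        refine ⟨N, (hN _).le, rfl, ?_⟩
        rw [haπ, MorphismProperty.cancel_right_of_respectsIso (@SmoothOfRelativeDimension (n (Fin.last 0) * (N - n (Fin.last 0)))),
          MorphismProperty.cancel_right_of_respectsIso @IsProper, MorphismProperty.cancel_right_of_respectsIso @Surjective]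
        exact ⟨‹_›, ‹_›, ‹_›⟩
      | succ m =>
        obtain ⟨t, ht⟩ := hF.nested (Fin.castSucc (Fin.last m)) (Fin.last (m + 1)) (Fin.le_last _)
        have hG := isGrass_last hF₁ hF a ha _ ea t ht
        have hlt : n (Fin.last (m + 1)) < n (Fin.castSucc (Fin.last m)) := hn (Fin.castSucc_lt_last _)
        refine ⟨n (Fin.castSucc (Fin.last m)), hlt.le, rfl, smooth_locFree (hF₁.rank (Fin.last m)) hG,
          isProper_locFree (hF₁.rank (Fin.last m)) hG, surjective_locFree (hF₁.rank (Fin.last m)) hG hlt.le⟩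
    obtain ⟨R, -, rfl, has, hap, haj⟩ := step
    subst hfab
    refine ⟨?_, inferInstance, inferInstance⟩
    rw [flagDim_succ N n hk', add_comm]
    infer_instance

end

end Groth.Agent.H26Gr
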