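import Groth.Agent.H26Gr.FreeGrass
import Groth.Agent.H3CAlg.EtaEtale
import Mathlib.AlgebraicGeometry.AffineSpace
import Mathlib.AlgebraicGeometry.Morphisms.Smooth

/-!
# The charts of a Grassmannian of a free module over any base
-/

set_option autoImplicit false
set_option backward.isDefEq.respectTransparency false
set_option backward.isDefEq.respectTransparency.types false

universe u

open CategoryTheory CategoryTheory.Limits AlgebraicGeometry Grass
open Groth.Agent.H06Mod Groth.Agent.H11Ample TensorProduct Opposite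

namespace Groth.Agent.H26Gr

noncomputable section

theorem smooth_affineSpace (σ : Type u) [Finite σ] (S : Scheme.{u}) :
    SmoothOfRelativeDimension (Nat.card σ) (AffineSpace σ S ↘ S) := by
  haveI := smoothOfRelativeDimension_isStableUnderBaseChange (n := Nat.card σ)
  refine MorphismProperty.pullback_fst _ _ ?_
  haveI := isIso_of_isTerminal specULiftZIsTerminal.{u} terminalIsTerminal (terminal.from _)
  rw [← terminal.comp_from (Spec.map (CommRingCat.ofHom MvPolynomial.C)),
    MorphismProperty.cancel_right_of_respectsIso (P := @SmoothOfRelativeDimension (Nat.card σ)),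
    HasRingHomProperty.Spec_iff (P := @SmoothOfRelativeDimension (Nat.card σ))]
  refine RingHom.locally_of RingHom.isStandardSmoothOfRelativeDimension_respectsIso _ ?_
  show RingHom.IsStandardSmoothOfRelativeDimension _
    (algebraMap (ULift.{u} ℤ) (MvPolynomial σ (ULift.{u} ℤ)))
  haveI := H3CAlg.EtaEtale.isStandardSmooth_mvPolynomial (ULift.{u} ℤ) (Nat.card σ)
  have h : Algebra.IsStandardSmoothOfRelativeDimension (Nat.card σ) (ULift.{u} ℤ) (MvPolynomial σ (ULift.{u} ℤ)) :=
    Algebra.IsStandardSmoothOfRelativeDimension.of_algEquiv _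
      (MvPolynomial.renameEquiv (ULift.{u} ℤ) (Finite.equivFin σ).symm)
  exact (RingHom.isStandardSmoothOfRelativeDimension_algebraMap _).2 h

variable {X : Scheme.{u}} {n r : ℕ}

theorem card_crd (s : Fin r ↪ Fin n) : Nat.card (Crd.{u} s) = r * (n - r) := by
  classical
  have h : Nat.card (Jc s) = n - r := by
    rw [Nat.card_eq_fintype_card, Fintype.card_subtype_compl, Fintype.card_fin,
      Set.card_range_of_injective s.injective, Fintype.card_fin]
  rw [Nat.card_ulift, Nat.card_prod, h, Nat.card_fin, mul_comm]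

/-- An isomorphism carrying generators to generators. -/
theorem exists_iso_gen {L L' : X.Modules} (hL : FlatMod.IsFinLocFreeOfRank r L)
    (hL' : FlatMod.IsFinLocFreeOfRank r L') (v : Fin r → Γ(L, ⊤)) (hv : ∀ x, GenAt L v x)
    (w : Fin r → Γ(L', ⊤)) (hw : ∀ x, GenAt L' w x) : ∃ e : L ≅ L', ∀ j, e.hom.app ⊤ (v j) = w j := by
  haveI := isIso_freeHom hL v hv
  haveI := isIso_freeHom hL' w hw
  refine ⟨(asIso (H29Fitt.freeHom L v)).symm ≪≫ asIso (H29Fitt.freeHom L' w), fun j => ?_⟩
  have h1 : (H29Fitt.freeHom L v).app ⊤ (H29Fitt.gen X r j ⊤) = v j :=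
    (H29Fitt.freeHom_gen _ _ j ⊤).trans (H10Coh.mres_self _ _ _)
  rw [← h1, ← ConcreteCategory.comp_apply, ← Scheme.Modules.Hom.comp_app]
  simp only [Iso.trans_hom, Iso.symm_hom, asIso_inv, asIso_hom, IsIso.hom_inv_id_assoc]
  exact (H29Fitt.freeHom_gen _ w j ⊤).trans (H10Coh.mres_self _ _ _)

theorem lc_lc {L : X.Modules} (s t : Fin r ↪ Fin n) (x : Jc s × Fin r → Γ(X, ⊤)) (y : Jc t × Fin r → Γ(X, ⊤))
    (v : Fin r → Γ(L, ⊤)) (i : Fin n) :
    lc s x (fun l => lc t y v (s l)) i = ∑ j, (∑ l, wmat s x i l * wmat t y (s l) j) • v j := by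
  simp only [lc, Finset.smul_sum, Finset.sum_smul, smul_smul]
  exact Finset.sum_comm

theorem genAt_of_combination {ι κ : Type*} [Fintype ι] {L : X.Modules} {v : κ → Γ(L, ⊤)} {w : ι → Γ(L, ⊤)} {x : X}
    (hv : GenAt L v x) (h : ∀ j, ∃ a : ι → Γ(X, ⊤), ∑ l, a l • w l = v j) : GenAt L w x := by
  refine eq_top_iff.2 ?_
  rw [← hv, Submodule.span_le]
  rintro _ ⟨j, rfl⟩
  obtain ⟨a, ha⟩ := h j
  simp only [← ha, map_sum, germ_smul]
  exact Submodule.sum_mem _ fun l _ => Submodule.smul_mem _ _ (Submodule.subset_span ⟨l, rfl⟩)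

/-- When two chart points give the same quotient. -/
theorem map_chartPtU_eq_iff {T : Over X} (s t : Fin r ↪ Fin n) (h : T ⟶ chartOver X s) (h' : T ⟶ chartOver X t) :
    QSet.map h (chartPtU X s) = QSet.map h' (chartPtU X t) ↔
      ∀ i j, wmat t (hcrd t h') i j = ∑ l, wmat s (hcrd s h) i l * wmat t (hcrd t h') (s l) j := by
  have hL := isFinLocFreeOfRank_pullback h.left (isFinLocFreeOfRank_freeMod (AffineSpace (Crd s) X) r)
  have hL' := isFinLocFreeOfRank_pullback h'.left (isFinLocFreeOfRank_freeMod (AffineSpace (Crd t) X) r)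
  unfold chartPtU
  rw [QSet.map_mk, QSet.map_mk, QSet.mk_eq_mk_iff]
  constructor
  · rintro ⟨e, he⟩ i j
    have hsec : ∀ i, lc s (hcrd s h) (fun l => e.hom.app ⊤ (hgen s h l)) i = lc t (hcrd t h') (hgen t h') i := fun i => by
      rw [← app_lc, ← fsec_chart s h, ← fsec_chart t h', ← fsec_comp, he]
    have hv : (fun l => e.hom.app ⊤ (hgen s h l)) = fun l => lc t (hcrd t h') (hgen t h') (s l) := funext fun l => by
      simpa only [lc_emb] using hsec (s l)
    have h2 := (congrArg (fun f => lc s (hcrd s h) f i) hv).symm.trans (hsec i)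
    rw [lc_lc] at h2
    exact congrFun ((existsUnique_coeff hL' (hgen t h') (genAt_hgen t h') (lc t (hcrd t h') (hgen t h') i)).unique
      (y₁ := fun j => wmat t (hcrd t h') i j) rfl h2) j
  · intro hid
    let w : Fin r → Γ((Scheme.Modules.pullback h'.left).obj (FlatMod.freeMod (AffineSpace (Crd t) X) r), ⊤) := fun l => lc t (hcrd t h') (hgen t h') (s l)
    have hw : ∀ i, lc s (hcrd s h) w i = lc t (hcrd t h') (hgen t h') i := fun i => by
      rw [lc_lc]
      exact Finset.sum_congr rfl fun j _ => by rw [← hid i j]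
    obtain ⟨e, he⟩ := exists_iso_gen hL hL' (hgen s h) (genAt_hgen s h) w fun x =>
      genAt_of_combination (genAt_hgen t h' x) fun j => ⟨wmat s (hcrd s h) (t j), (hw (t j)).trans (lc_emb t _ _ j)⟩
    refine ⟨e, fsec_ext fun i => ?_⟩
    rw [fsec_comp, fsec_chart, fsec_chart, app_lc, funext he, hw]

/-- The map into a chart with given coordinates. -/
def chartHom (s : Fin r ↪ Fin n) (T : Over X) (x : Jc s × Fin r → Γ(T.left, ⊤)) : T ⟶ chartOver X s :=
  Over.homMk (AffineSpace.homOfVector T.hom fun q : Crd s => x q.down) (AffineSpace.homOfVector_over _ _)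

theorem hcrd_chartHom (s : Fin r ↪ Fin n) (T : Over X) (x : Jc s × Fin r → Γ(T.left, ⊤)) :
    hcrd s (chartHom s T x) = x := funext fun q => AffineSpace.homOfVector_appTop_coord _ _ _

variable {G : Scheme.{u}} {π : G ⟶ X} {Q : G.Modules}
  {q : (Scheme.Modules.pullback π).obj (FlatMod.freeMod X n) ⟶ Q}
  (hG : IsGrass π (FlatMod.freeMod X n) r Q q)

/-- The universal class. -/
def univQ : QSet (FlatMod.freeMod X n) r (Over.mk π) := QSet.mk (T := Over.mk π) q hG.rank hG.epi

/-- The inclusion of a chart. -/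
def cmap (s : Fin r ↪ Fin n) : chartOver X s ⟶ Over.mk π :=
  ((isRepresentable_of_isGrass hG (chartOver X s)).2 (chartPtU X s)).choose

theorem map_cmap (s : Fin r ↪ Fin n) : QSet.map (cmap hG s) (univQ hG) = chartPtU X s :=
  ((isRepresentable_of_isGrass hG (chartOver X s)).2 (chartPtU X s)).choose_spec

theorem comp_cmap_eq_iff_map {T : Over X} (s : Fin r ↪ Fin n) (h : T ⟶ chartOver X s) (g : T ⟶ Over.mk π) :
    h ≫ cmap hG s = g ↔ QSet.map h (chartPtU X s) = QSet.map g (univQ hG) := by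
  rw [← map_cmap hG s, QSet.map_map]
  exact ⟨fun e => by rw [e], fun e => (isRepresentable_of_isGrass hG T).1 e⟩

theorem cmap_eq_iff {T : Over X} (s t : Fin r ↪ Fin n) (h : T ⟶ chartOver X s) (h' : T ⟶ chartOver X t) :
    h ≫ cmap hG s = h' ≫ cmap hG t ↔
      ∀ i j, wmat t (hcrd t h') i j = ∑ l, wmat s (hcrd s h) i l * wmat t (hcrd t h') (s l) j := by
  rw [← map_chartPtU_eq_iff, comp_cmap_eq_iff_map, ← QSet.map_map, map_cmap]

/-- The open subset covered by a chart. -/
def chartOpen (s : Fin r ↪ Fin n) : G.Opens :=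
  ⟨{x | GenAt Q (fun j => fsec q (s j)) x}, isOpen_genAt hG.rank _⟩

theorem exists_fac_iff (s : Fin r ↪ Fin n) {T : Over X} (g : T ⟶ Over.mk π) :
    (∃ h : T ⟶ chartOver X s, h ≫ cmap hG s = g) ↔ Set.range g.left ⊆ (chartOpen hG s : Set G) := by
  simp only [comp_cmap_eq_iff_map]
  exact exists_chart_iff (T := Over.mk π) s g q hG.rank hG.epi

theorem range_cmap_subset (s : Fin r ↪ Fin n) : Set.range (cmap hG s).left ⊆ (chartOpen hG s : Set G) :=
  (exists_fac_iff hG s (cmap hG s)).1 ⟨𝟙 _, Category.id_comp _⟩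

theorem exists_chart_iso' (s : Fin r ↪ Fin n) :
    ∃ c : (chartOpen hG s : Scheme.{u}) ≅ AffineSpace (Crd s) X,
      c.hom ≫ (cmap hG s).left = (chartOpen hG s).ι ∧
        c.hom ≫ (AffineSpace (Crd s) X ↘ X) = (chartOpen hG s).ι ≫ π := by
  let O : G.Opens := chartOpen hG s
  let T : Over X := Over.mk (O.ι ≫ π)
  obtain ⟨h, hh⟩ := (exists_fac_iff hG s (T := T) (Over.homMk O.ι rfl)).2 (by
    show Set.range O.ι ⊆ _
    rw [Scheme.Opens.range_ι])
  have hh' : h.left ≫ (cmap hG s).left = O.ι := congrArg (fun t : T ⟶ Over.mk π => t.left) hh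
  let k : AffineSpace (Crd s) X ⟶ (O : Scheme.{u}) := IsOpenImmersion.lift O.ι (cmap hG s).left (by
    rw [Scheme.Opens.range_ι]; exact range_cmap_subset hG s)
  have hk : k ≫ O.ι = (cmap hG s).left := IsOpenImmersion.lift_fac _ _ _
  let k' : chartOver X s ⟶ T := Over.homMk k (by
    show k ≫ O.ι ≫ π = _
    rw [← Category.assoc, hk]; exact Over.w (cmap hG s))
  have h2 : k' ≫ h = 𝟙 _ := chart_inj s (by
    rw [← map_cmap hG s, QSet.map_map, QSet.map_map, Category.assoc, hh, Category.id_comp]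
    congr 1
    exact Over.OverMorphism.ext hk)
  refine ⟨⟨h.left, k, (cancel_mono O.ι).1 (by rw [Category.assoc, hk, hh', Category.id_comp]),
    congrArg (fun t : chartOver X s ⟶ chartOver X s => t.left) h2⟩, hh', Over.w h⟩

theorem isOpenImmersion_cmap (s : Fin r ↪ Fin n) : IsOpenImmersion (cmap hG s).left := by
  obtain ⟨c, hc, -⟩ := exists_chart_iso' hG s
  rw [show (cmap hG s).left = c.inv ≫ (chartOpen hG s).ι by rw [← hc, c.inv_hom_id_assoc]]
  infer_instance

theorem range_cmap (s : Fin r ↪ Fin n) : Set.range (cmap hG s).left = (chartOpen hG s : Set G) := by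
  refine (range_cmap_subset hG s).antisymm fun x hx => ?_
  obtain ⟨c, hc, -⟩ := exists_chart_iso' hG s
  exact ⟨c.hom ⟨x, hx⟩, (Scheme.Hom.comp_apply _ _ _).symm.trans (congrArg (fun f : (chartOpen hG s : Scheme.{u}) ⟶ G => f ⟨x, hx⟩) hc)⟩

theorem exists_mem_chartOpen (x : G) : ∃ s : Fin r ↪ Fin n, x ∈ chartOpen hG s :=
  exists_sel hG.rank (fsec q) ((epi_iff_genAt q).1 hG.epi x)

theorem iSup_chartOpen : ⨆ s, chartOpen hG s = ⊤ :=
  eq_top_iff.2 fun x _ => TopologicalSpace.Opens.mem_iSup.2 (exists_mem_chartOpen hG x)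

/-- The Grassmannian of a free module is smooth of relative dimension `r (n - r)`. -/
theorem smooth_free (hG : IsGrass π (FlatMod.freeMod X n) r Q q) : SmoothOfRelativeDimension (r * (n - r)) π := by
  refine IsZariskiLocalAtSource.of_iSup_eq_top _ (iSup_chartOpen hG) fun s => ?_
  obtain ⟨c, -, hc⟩ := exists_chart_iso' hG s
  rw [← hc, MorphismProperty.cancel_left_of_respectsIso (@SmoothOfRelativeDimension (r * (n - r))), ← card_crd s]
  exact smooth_affineSpace _ X

/-- The Grassmannian of a free module surjects onto the base. -/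
theorem surjective_free (hG : IsGrass π (FlatMod.freeMod X n) r Q q) (hr : r ≤ n) : Surjective π := by
  let s : Fin r ↪ Fin n := Fin.castLEEmb hr
  refine ⟨fun x => ?_⟩
  obtain ⟨z, hz⟩ := (AffineSpace (Crd s) X ↘ X).surjective x
  exact ⟨(cmap hG s).left z, ((Scheme.Hom.comp_apply _ _ _).symm.trans
    (congrArg (fun f : AffineSpace (Crd s) X ⟶ X => f z) (Over.w (cmap hG s)))).trans hz⟩

end

end Groth.Agent.H26Gr
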