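import Groth.Agent.H26Gr.FreeCharts
import Mathlib.AlgebraicGeometry.ValuativeCriterion
import Mathlib.RingTheory.Flat.TorsionFree
import Mathlib.LinearAlgebra.Matrix.NonsingularInverse

/-!
# The Grassmannian of a free module is proper
-/

set_option autoImplicit false
set_option backward.isDefEq.respectTransparency false
set_option backward.isDefEq.respectTransparency.types false

universe u

open CategoryTheory CategoryTheory.Limits AlgebraicGeometry Grass
open Groth.Agent.H06Mod Groth.Agent.H11Ample TensorProduct Opposite

namespace Groth.Agent.H26Gr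

noncomputable section

/-- Generation by combinations of a basis. -/
theorem span_eq_top_iff_isUnit_det {R M : Type*} [CommRing R] [AddCommGroup M] [Module R M] {r : ℕ}
    (b : Module.Basis (Fin r) R M) (a : Matrix (Fin r) (Fin r) R) :
    Submodule.span R (Set.range fun l => ∑ j, a l j • b j) = ⊤ ↔ IsUnit a.det := by
  rw [← Matrix.isUnit_iff_isUnit_det, ← Matrix.vecMul_surjective_iff_isUnit, ← Fintype.range_linearCombination,
    LinearMap.range_eq_top]
  have h : ∀ c : Fin r → R, Fintype.linearCombination R (fun l => ∑ j, a l j • b j) c =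
      b.equivFun.symm (Matrix.vecMul c a) := fun c => by
    simp only [Fintype.linearCombination_apply, Finset.smul_sum, smul_smul, Module.Basis.equivFun_symm_apply,
      Matrix.vecMul, dotProduct, Finset.sum_smul]
    exact Finset.sum_comm
  rw [show (⇑(Fintype.linearCombination R fun l => ∑ j, a l j • b j)) = b.equivFun.symm ∘ fun c => Matrix.vecMul c a
    from funext h]
  exact ⟨fun h v => by
      obtain ⟨c, hc⟩ := h (b.equivFun.symm v)
      exact ⟨c, b.equivFun.symm.injective hc⟩,
    fun h => b.equivFun.symm.surjective.comp h⟩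

/-- A family of vectors in `K^r` spanning it comes, up to a change of basis, from a point over the valuation ring. -/
theorem exists_sel_val {R K : Type u} [CommRing R] [IsDomain R] [ValuationRing R] [Field K] [Algebra R K]
    [IsFractionRing R K] {n r : ℕ} (w : Fin n → Fin r → K) (t : Fin r → Fin n)
    (ht : ∀ j, w (t j) = Pi.single j 1) :
    ∃ (s : Fin r ↪ Fin n) (x : Jc s × Fin r → R), ∀ i, w i = ∑ l, algebraMap R K (wmat s x i l) • w (s l) := by
  classical
  let M : Submodule R (Fin r → K) := Submodule.span R (Set.range w)
  haveI : Module.Finite R M := Module.Finite.span_of_finite R (Set.finite_range w)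
  haveI : Module.Flat R M := Module.Flat.flat_iff_torsion_eq_bot_of_isBezout.2 (eq_bot_iff.2 fun m ⟨⟨a, ha⟩, hm⟩ => by
    have h : algebraMap R K a • (m : Fin r → K) = 0 := by
      rw [algebraMap_smul]; exact congrArg Subtype.val hm
    refine Subtype.ext ((smul_eq_zero.1 h).resolve_left fun e => ?_)
    exact nonZeroDivisors.ne_zero ha ((IsFractionRing.injective R K) (e.trans (map_zero _).symm)))
  haveI := Module.free_of_flat_of_isLocalRing (R := R) (P := M)
  let b := Module.finBasis R M
  have hd : Module.finrank R M = r := by
    have hli : LinearIndependent K fun i => (b i : Fin r → K) :=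
      (LinearIndependent.iff_fractionRing R K).1 (b.linearIndependent.map' M.subtype (Submodule.ker_subtype M))
    have hsp : ⊤ ≤ Submodule.span K (Set.range fun i => (b i : Fin r → K)) := by
      rw [← (Pi.basisFun K (Fin r)).span_eq, Submodule.span_le]
      rintro _ ⟨j, rfl⟩
      rw [Pi.basisFun_apply, ← ht j]
      refine Submodule.span_le_restrictScalars R K _ ?_
      rw [show (Set.range fun i => (b i : Fin r → K)) = M.subtype '' Set.range b from Set.range_comp _ _,
        Submodule.span_image, b.span_eq, Submodule.map_top, Submodule.range_subtype]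
      exact Submodule.subset_span ⟨t j, rfl⟩
    have := Module.finrank_eq_card_basis (Module.Basis.mk hli hsp)
    rwa [Module.finrank_fin_fun, Fintype.card_fin, eq_comm] at this
  let v : Fin n → M := fun i => ⟨w i, Submodule.subset_span ⟨i, rfl⟩⟩
  have hv : Submodule.span R (Set.range v) = ⊤ := by
    refine Submodule.map_injective_of_injective M.subtype_injective ?_
    rw [Submodule.map_span, Submodule.map_top, Submodule.range_subtype, ← Set.range_comp]
    rfl
  obtain ⟨s, hs⟩ := exists_sel_alg (b.reindex (finCongr hd)) v hv
  choose c hc using fun i => (Submodule.mem_span_range_iff_exists_fun R).1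
    (hs ▸ Submodule.mem_top : v i ∈ Submodule.span R (Set.range fun j => v (s j)))
  refine ⟨s, fun q => c q.1.1 q.2, fun i => ?_⟩
  by_cases hi : i ∈ Set.range s
  · obtain ⟨j, rfl⟩ := hi
    rw [wmat_emb, Finset.sum_eq_single j (fun l _ hl => by rw [Pi.single_eq_of_ne hl, map_zero, zero_smul]) (by simp),
      Pi.single_eq_same, map_one, one_smul]
  · have h := congrArg Subtype.val (hc i)
    simp only [Submodule.coe_sum, Submodule.coe_smul] at h
    refine h.symm.trans (Finset.sum_congr rfl fun l _ => ?_)
    rw [wmat_out s _ ⟨i, hi⟩ l, algebraMap_smul]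

variable {X : Scheme.{u}} {n r : ℕ} {G : Scheme.{u}} {π : G ⟶ X} {Q : G.Modules}
  {q : (Scheme.Modules.pullback π).obj (FlatMod.freeMod X n) ⟶ Q}
  (hG : IsGrass π (FlatMod.freeMod X n) r Q q)

/-- The determinant cutting out the overlap of two charts. -/
def overlapDet (s t : Fin r ↪ Fin n) : Γ(AffineSpace (Crd s) X, ⊤) :=
  (Matrix.of fun l j => wmat s (crd X s) (t l) j).det

theorem preimage_chartOpen (s t : Fin r ↪ Fin n) :
    (cmap hG s).left ⁻¹ᵁ chartOpen hG t = (AffineSpace (Crd s) X).basicOpen (overlapDet s t) := by
  ext x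
  show GenAt Q (fun j => fsec q (t j)) ((cmap hG s).left x) ↔ x ∈ (AffineSpace (Crd s) X).basicOpen _
  have e := map_cmap hG s
  unfold univQ chartPtU at e
  rw [QSet.map_mk, QSet.mk_eq_mk_iff] at e
  obtain ⟨e, he⟩ := e
  rw [← genAt_pull_iff (cmap hG s).left hG.rank (fun j => fsec q (t j)) x, ← genAt_iso_iff e.hom _ x]
  have hw : (fun j => e.hom.app ⊤ (pullTop (cmap hG s).left (fsec q (t j)))) = fun j => univSec X s (t j) := funext fun j => by
    rw [← fsec_univMap, ← he, fsec_comp]
    exact congrArg _ (fsec_quotBC q (Over.w (cmap hG s)) (t j)).symm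
  rw [hw, Scheme.mem_basicOpen_top, overlapDet, RingHom.map_det]
  rw [← span_eq_top_iff_isUnit_det (Module.Basis.mk (linearIndependent_gen r x) (genAt_free r x).ge)]
  unfold GenAt
  simp only [univSec, lc, map_sum, germ_smul, Module.Basis.mk_apply]
  rfl

include hG in
theorem compactSpace_free [IsAffine X] : CompactSpace G := by
  constructor
  have h : (Set.univ : Set G) = ⋃ s : Fin r ↪ Fin n, Set.range (cmap hG s).left :=
    (Set.eq_univ_of_forall fun x => by
      obtain ⟨s, hs⟩ := exists_mem_chartOpen hG x
      exact Set.mem_iUnion.2 ⟨s, (range_cmap hG s).ge hs⟩).symm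
  rw [h]
  refine isCompact_iUnion fun s => ?_
  haveI : IsAffine (chartOver X s).left := isAffine_of_isAffineHom (AffineSpace (Crd s) X ↘ X)
  exact isCompact_range (cmap hG s).left.continuous

include hG in
theorem quasiSeparatedSpace_free [IsAffine X] : QuasiSeparatedSpace G := by
  refine Scheme.quasiSeparatedSpace_of_isOpenCover (fun s : Fin r ↪ Fin n => chartOpen hG s) ?_ ?_ ?_
  · exact iSup_chartOpen hG
  · intro s
    haveI := isOpenImmersion_cmap hG s
    haveI : IsAffine (chartOver X s).left := isAffine_of_isAffineHom (AffineSpace (Crd s) X ↘ X)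
    rw [← show (cmap hG s).left.opensRange = chartOpen hG s from TopologicalSpace.Opens.ext (range_cmap hG s)]
    exact isAffineOpen_opensRange _
  · intro s t
    haveI : IsAffine (chartOver X s).left := isAffine_of_isAffineHom (AffineSpace (Crd s) X ↘ X)
    have h : (chartOpen hG s : Set G) ∩ chartOpen hG t =
        (cmap hG s).left '' ((cmap hG s).left ⁻¹ᵁ chartOpen hG t : Set _) := by
      rw [← range_cmap hG s]
      exact (Set.image_preimage_eq_range_inter).symm
    show IsCompact ((chartOpen hG s : Set G) ∩ chartOpen hG t)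
    rw [h, preimage_chartOpen]
    exact ((isAffineOpen_top _).basicOpen _).isCompact.image (cmap hG s).left.continuous

theorem exists_chart_of_closed {T : Over X} (g : T ⟶ Over.mk π) (x : T.left) (hx : ∀ y : T.left, y ⤳ x) :
    ∃ (s : Fin r ↪ Fin n) (h : T ⟶ chartOver X s), h ≫ cmap hG s = g := by
  obtain ⟨s, hs⟩ := exists_mem_chartOpen hG (g.left x)
  refine ⟨s, (exists_fac_iff hG s g).2 ?_⟩
  rintro _ ⟨y, rfl⟩
  exact ((hx y).map g.left.continuous).mem_open (chartOpen hG s).2 hs

theorem hcrd_comp {T T' : Over X} (p : T' ⟶ T) (s : Fin r ↪ Fin n) (h : T ⟶ chartOver X s) :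
    hcrd s (p ≫ h) = p.left.appTop.hom ∘ hcrd s h := funext fun q => by
  show (p.left ≫ h.left).appTop (crd X s q) = _
  rw [Scheme.Hom.comp_appTop]
  rfl

include hG in
theorem valuativeCriterion_free : ValuativeCriterion π := by
  rw [ValuativeCriterion.iff]
  have core : ∀ S : ValuativeCommSq π, Nonempty S.commSq.LiftStruct ∧ Subsingleton S.commSq.LiftStruct := by
    intro S
    let R := S.R
    let K := S.K
    let TK : Over X := Over.mk (Spec.map (CommRingCat.ofHom (algebraMap R K)) ≫ S.i₂)
    let TR : Over X := Over.mk S.i₂
    let pK : TK ⟶ TR := Over.homMk (Spec.map (CommRingCat.ofHom (algebraMap R K))) rfl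
    let gK : TK ⟶ Over.mk π := Over.homMk S.i₁ S.commSq.w
    let εR := (Scheme.ΓSpecIso (CommRingCat.of R)).hom.hom
    let εK := (Scheme.ΓSpecIso (CommRingCat.of K)).hom.hom
    have hεR : Function.Bijective εR := ConcreteCategory.bijective_of_isIso (Scheme.ΓSpecIso (CommRingCat.of R)).hom
    have hεK : Function.Bijective εK := ConcreteCategory.bijective_of_isIso (Scheme.ΓSpecIso (CommRingCat.of K)).hom
    have hnat : ∀ a, εK (pK.left.appTop a) = algebraMap R K (εR a) := fun a =>
      congr($(Scheme.ΓSpecIso_naturality (CommRingCat.ofHom (algebraMap R K))) a)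
    constructor
    · obtain ⟨t, h', hh'⟩ := exists_chart_of_closed hG gK (IsLocalRing.closedPoint K)
        fun y => IsLocalRing.specializes_closedPoint y
      obtain ⟨s, x, hx⟩ := exists_sel_val (R := R) (fun i => εK ∘ wmat t (hcrd t h') i) t fun j => by
        funext l
        rw [Function.comp_apply, wmat_emb]
        rcases eq_or_ne l j with rfl | hl
        · simp
        · simp [Pi.single_eq_of_ne hl]
      choose x' hx' using fun q => hεR.2 (x q)
      let h : TR ⟶ chartOver X s := chartHom s TR x'
      have hw : pK ≫ h ≫ cmap hG s = gK := by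
        rw [← hh', ← Category.assoc, cmap_eq_iff]
        intro i j
        refine hεK.1 (((congrFun (hx i) j)).trans ?_)
        rw [Finset.sum_apply, map_sum]
        refine Finset.sum_congr rfl fun l _ => ?_
        rw [Pi.smul_apply, smul_eq_mul, map_mul, hcrd_comp, hcrd_chartHom, Function.comp_apply]
        congr 1
        rw [← wmat_map pK.left.appTop.hom]
        refine Eq.trans ?_ (hnat _).symm
        rw [wmat_map εR, show εR ∘ x' = x from funext hx']
      exact ⟨{ l := (h ≫ cmap hG s).left
               fac_left := congrArg (fun f : TK ⟶ Over.mk π => f.left) hw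
               fac_right := Over.w (h ≫ cmap hG s) }⟩
    · refine ⟨fun a b => CommSq.LiftStruct.ext ?_⟩
      let g : TR ⟶ Over.mk π := Over.homMk a.l a.fac_right
      let g' : TR ⟶ Over.mk π := Over.homMk b.l b.fac_right
      obtain ⟨s, h, hh⟩ := exists_chart_of_closed hG g (IsLocalRing.closedPoint R)
        fun y => IsLocalRing.specializes_closedPoint y
      obtain ⟨t, h', hh'⟩ := exists_chart_of_closed hG g' (IsLocalRing.closedPoint R)
        fun y => IsLocalRing.specializes_closedPoint y
      have hK : (pK ≫ h) ≫ cmap hG s = (pK ≫ h') ≫ cmap hG t := by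
        rw [Category.assoc, Category.assoc, hh, hh']
        exact Over.OverMorphism.ext (a.fac_left.trans b.fac_left.symm)
      rw [cmap_eq_iff] at hK
      suffices hg : g = g' from congrArg (fun f : TR ⟶ Over.mk π => f.left) hg
      rw [← hh, ← hh', cmap_eq_iff]
      intro i j
      refine hεR.1 (IsFractionRing.injective R K ?_)
      rw [← hnat, ← hnat]
      have := congrArg εK (hK i j)
      simp only [hcrd_comp, ← wmat_map, map_sum, ← map_mul] at this ⊢
      exact this
  exact ⟨fun S => ⟨(core S).1⟩, fun S => (core S).2⟩

/-- The Grassmannian of a free module over an affine scheme is proper. -/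
theorem isProper_free [IsAffine X] (hG : IsGrass π (FlatMod.freeMod X n) r Q q) : IsProper π := by
  haveI := compactSpace_free hG
  haveI := quasiSeparatedSpace_free hG
  haveI : QuasiSeparated π := (quasiSeparated_iff_quasiSeparatedSpace π).2 inferInstance
  haveI : QuasiCompact π := (quasiCompact_iff_compactSpace π).2 inferInstance
  haveI := smooth_free hG
  haveI := SmoothOfRelativeDimension.smooth (n := r * (n - r)) (f := π)
  haveI : LocallyOfFiniteType π := inferInstance
  exact IsProper.of_valuativeCriterion π (valuativeCriterion_free hG)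

end

end Groth.Agent.H26Gr
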