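import Groth.Agent.H26Gr.QuotBC
import Groth.Agent.H26Gr.Kers
import Groth.Agent.H22Alg.PB.Sect
import Groth.Agent.H06EGA12.BaseChangePD
import Groth.Agent.H26Gr.Glue

/-!
# Quotients of a free module through global sections
-/

set_option autoImplicit false
set_option backward.isDefEq.respectTransparency false
set_option backward.isDefEq.respectTransparency.types false

universe u

open CategoryTheory CategoryTheory.Limits AlgebraicGeometry Grass
open Groth.Agent.H06Mod Groth.Agent.H11Ample TensorProduct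

namespace Groth.Agent.H26Gr

noncomputable section

variable {X : Scheme.{u}} {ι : Type*}

/-- The sections generate the stalk. -/
def GenAt (L : X.Modules) (w : ι → Γ(L, ⊤)) (x : X) : Prop :=
  Submodule.span (X.presheaf.stalk x) (Set.range fun i => L.presheaf.germ ⊤ x trivial (w i)) = ⊤

theorem map_span_germ {M L : X.Modules} (φ : M ⟶ L) (w : ι → Γ(M, ⊤)) (x : X) :
    (Submodule.span (X.presheaf.stalk x) (Set.range fun i => M.presheaf.germ ⊤ x trivial (w i))).map (stalkLin φ x) =
      Submodule.span (X.presheaf.stalk x) (Set.range fun i => L.presheaf.germ ⊤ x trivial (φ.app ⊤ (w i))) := by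
  rw [Submodule.map_span, ← Set.range_comp]
  congr 1
  exact congrArg Set.range (funext fun i => stalkLin_germ φ x ⊤ trivial (w i))

/-- A map is surjective on a stalk exactly when the images of generators generate. -/
theorem surjective_iff_genAt {M L : X.Modules} (φ : M ⟶ L) {w : ι → Γ(M, ⊤)} {x : X} (hw : GenAt M w x) :
    Function.Surjective (stalkLin φ x) ↔ GenAt L (fun i => φ.app ⊤ (w i)) x := by
  rw [← LinearMap.range_eq_top, ← Submodule.map_top, ← hw, map_span_germ]
  exact Iff.rfl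

theorem genAt_iso_iff {M L : X.Modules} (φ : M ⟶ L) [IsIso φ] (w : ι → Γ(M, ⊤)) (x : X) :
    GenAt L (fun i => φ.app ⊤ (w i)) x ↔ GenAt M w x := by
  have hb := (H8Props.FunDescent.isIso_iff φ).1 inferInstance x
  unfold GenAt
  rw [← map_span_germ, ← (Submodule.map_injective_of_injective hb.1).eq_iff (b := ⊤), Submodule.map_top,
    LinearMap.range_eq_top.2 hb.2]

theorem genAt_free (r : ℕ) (x : X) : GenAt (FlatMod.freeMod X r) (fun j => H29Fitt.gen X r j ⊤) x := by
  refine eq_top_iff.2 fun m _ => ?_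
  obtain ⟨U, hU, a, rfl⟩ := (FlatMod.freeMod X r).presheaf.exists_germ_eq m
  obtain ⟨c, rfl⟩ := H29Fitt.exists_eq_sum_gen r U a
  rw [map_sum]
  refine Submodule.sum_mem _ fun j _ => ?_
  rw [germ_smul]
  refine Submodule.smul_mem _ _ (Submodule.subset_span ⟨j, ?_⟩)
  show (FlatMod.freeMod X r).presheaf.germ ⊤ x trivial (H29Fitt.gen X r j ⊤) = _
  rw [← H29Fitt.res_gen r j (le_top : U ≤ ⊤), TopCat.Presheaf.germ_res_apply]

theorem finite_stalk_free (r : ℕ) (x : X) :
    Module.Finite (X.presheaf.stalk x) ((FlatMod.freeMod X r).presheaf.stalk x) :=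
  ⟨Submodule.fg_def.2 ⟨_, Set.finite_range _, genAt_free r x⟩⟩

/-- Bases of stalks of a locally free module, from a chart. -/
theorem exists_chart_iso {L : X.Modules} {r : ℕ} (hL : FlatMod.IsFinLocFreeOfRank r L) (x : X) :
    ∃ (U : X.Opens), x ∈ U ∧ Nonempty ((Scheme.Modules.pullback U.ι).obj L ≅ FlatMod.freeMod (U : Scheme.{u}) r) :=
  let ⟨U, hx, ⟨e⟩⟩ := hL x
  ⟨U, hx, ⟨(Scheme.Modules.restrictFunctorIsoPullback U.ι).symm.app L ≪≫ e⟩⟩

attribute [local instance] stalkAlgebra

theorem genAt_pull_of_genAt {Y : Scheme.{u}} (h : X ⟶ Y) {L : Y.Modules} (w : ι → Γ(L, ⊤)) (y : X)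
    (hw : GenAt L w (h y)) : GenAt ((Scheme.Modules.pullback h).obj L) (fun i => pullTop h (w i)) y := by
  refine eq_top_iff.2 fun z _ => ?_
  obtain ⟨t, rfl⟩ := (pullStalkEquiv h L y).surjective z
  induction t with
  | zero => rw [map_zero]; exact zero_mem _
  | add a b ha hb => rw [map_add]; exact add_mem (ha trivial) (hb trivial)
  | tmul c m =>
    show pullStalkLin h L y (c ⊗ₜ m) ∈ _
    rw [pullStalkLin_tmul]
    refine Submodule.smul_mem _ _ ?_
    have hm : m ∈ Submodule.span (Y.presheaf.stalk (h y)) (Set.range fun i => L.presheaf.germ ⊤ (h y) trivial (w i)) :=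
      hw ▸ Submodule.mem_top
    rename_i hmem
    clear hmem
    induction hm using Submodule.span_induction with
    | mem v hv =>
      obtain ⟨i, rfl⟩ := hv
      exact Submodule.subset_span ⟨i, (pullStalk_germ h L y ⊤ trivial (w i)).symm⟩
    | zero => erw [map_zero]; exact zero_mem _
    | add a b _ _ ha hb => erw [map_add]; exact add_mem ha hb
    | smul a v _ hv => erw [pullStalk_smul]; exact Submodule.smul_mem _ _ hv

theorem finite_stalk {L : X.Modules} {r : ℕ} (hL : FlatMod.IsFinLocFreeOfRank r L) (x : X) :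
    Module.Finite (X.presheaf.stalk x) (L.presheaf.stalk x) := by
  obtain ⟨U, hx, ⟨e⟩⟩ := exists_chart_iso hL x
  let y : (U : Scheme.{u}) := ⟨x, hx⟩
  show Module.Finite (X.presheaf.stalk (U.ι y)) (L.presheaf.stalk (U.ι y))
  let R := X.presheaf.stalk (U.ι y)
  let S := (U : Scheme.{u}).presheaf.stalk y
  have hσ : Function.Bijective (U.ι.stalkMap y).hom := ConcreteCategory.bijective_of_isIso (U.ι.stalkMap y)
  have hb := H17.StalkTransfer.pullStalk_bijective U.ι L y
  -- generators upstairs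
  let v : Fin r → ((Scheme.Modules.pullback U.ι).obj L).presheaf.stalk y := fun j =>
    ((Scheme.Modules.pullback U.ι).obj L).presheaf.germ ⊤ y trivial (e.inv.app ⊤ (H29Fitt.gen (U : Scheme.{u}) r j ⊤))
  have hv : Submodule.span S (Set.range v) = ⊤ := (genAt_iso_iff e.inv _ y).2 (genAt_free r y)
  choose m hm using fun j => hb.2 (v j)
  refine ⟨Submodule.fg_def.2 ⟨Set.range m, Set.finite_range m, eq_top_iff.2 fun z _ => ?_⟩⟩
  obtain ⟨c, hc⟩ := (Submodule.mem_span_range_iff_exists_fun S).1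
    (hv ▸ Submodule.mem_top : pullStalk U.ι L y z ∈ Submodule.span S (Set.range v))
  choose d hd using fun j => hσ.2 (c j)
  have : z = ∑ j, d j • m j := hb.1 (by
    rw [map_sum]
    refine hc.symm.trans (Finset.sum_congr rfl fun j _ => ?_)
    rw [pullStalk_smul, hd, hm])
  rw [this]
  exact Submodule.sum_mem _ fun j _ => Submodule.smul_mem _ _ (Submodule.subset_span ⟨j, rfl⟩)

theorem genAt_pull_iff {Y : Scheme.{u}} (h : X ⟶ Y) {L : Y.Modules} {r : ℕ} (hL : FlatMod.IsFinLocFreeOfRank r L)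
    (w : ι → Γ(L, ⊤)) (y : X) :
    GenAt ((Scheme.Modules.pullback h).obj L) (fun i => pullTop h (w i)) y ↔ GenAt L w (h y) := by
  refine ⟨fun hg => ?_, genAt_pull_of_genAt h w y⟩
  let R := Y.presheaf.stalk (h y)
  let S := X.presheaf.stalk y
  haveI : Module.Finite R (L.presheaf.stalk (h y)) := finite_stalk hL (h y)
  let N : Submodule R (L.presheaf.stalk (h y)) :=
    Submodule.span R (Set.range fun i => L.presheaf.germ ⊤ (h y) trivial (w i))
  have hsub : Subsingleton (S ⊗[R] (L.presheaf.stalk (h y) ⧸ N)) := by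
    refine subsingleton_of_forall_eq 0 fun t => ?_
    obtain ⟨t, rfl⟩ := LinearMap.lTensor_surjective S N.mkQ_surjective t
    have ht : (pullStalkEquiv h L y) t ∈ Submodule.span S
        (Set.range fun i => ((Scheme.Modules.pullback h).obj L).presheaf.germ ⊤ y trivial (pullTop h (w i))) :=
      hg ▸ Submodule.mem_top
    rw [← (pullStalkEquiv h L y).symm_apply_apply t]
    generalize pullStalkEquiv h L y t = z at ht ⊢
    induction ht using Submodule.span_induction with
    | mem v hv =>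
      obtain ⟨i, rfl⟩ := hv
      have e : (pullStalkEquiv h L y).symm (((Scheme.Modules.pullback h).obj L).presheaf.germ ⊤ y trivial (pullTop h (w i))) =
          (1 : S) ⊗ₜ[R] L.presheaf.germ ⊤ (h y) trivial (w i) := by
        rw [LinearEquiv.symm_apply_eq]
        show _ = pullStalkLin h L y _
        rw [pullStalkLin_tmul, one_smul]
        exact (pullStalk_germ h L y ⊤ trivial (w i)).symm
      rw [e, LinearMap.lTensor_tmul, Submodule.mkQ_apply,
        (Submodule.Quotient.mk_eq_zero N).2 (Submodule.subset_span ⟨i, rfl⟩), tmul_zero]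
    | zero => rw [map_zero, map_zero]
    | add a b _ _ ha hb => rw [map_add, map_add, ha, hb, add_zero]
    | smul a v _ hv =>
      rw [map_smul]
      show (N.mkQ.baseChange S) (a • _) = 0
      rw [map_smul]
      exact (congrArg (a • ·) hv).trans (smul_zero a)
  refine Submodule.Quotient.subsingleton_iff.1 ?_
  by_contra hne
  haveI := not_subsingleton_iff_nontrivial.1 hne
  obtain ⟨q, hq⟩ := (Module.support R (L.presheaf.stalk (h y) ⧸ N)).eq_empty_or_nonempty.resolve_left
    (mt Module.support_eq_empty_iff.1 hne)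
  have hcl : IsLocalRing.closedPoint R ∈ Module.support R (L.presheaf.stalk (h y) ⧸ N) :=
    Module.mem_support_mono (IsLocalRing.le_maximalIdeal q.2.ne_top) hq
  have h2 : IsLocalRing.closedPoint S ∈ Module.support S (S ⊗[R] (L.presheaf.stalk (h y) ⧸ N)) := by
    rw [H06EGA12.mem_support_baseChange_iff]
    haveI : IsLocalHom (algebraMap R S) := inferInstanceAs (IsLocalHom (h.stalkMap y).hom)
    rwa [IsLocalRing.comap_closedPoint]
  rw [Module.support_eq_empty_iff.2 hsub] at h2
  exact h2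

theorem isOpen_genAt {L : X.Modules} {r : ℕ} (hL : FlatMod.IsFinLocFreeOfRank r L) (w : ι → Γ(L, ⊤)) :
    IsOpen {x | GenAt L w x} := by
  rw [isOpen_iff_forall_mem_open]
  intro x hx
  obtain ⟨U, hxU, ⟨e⟩⟩ := exists_chart_iso hL x
  let y : (U : Scheme.{u}) := ⟨x, hxU⟩
  let w' : ι → Γ(FlatMod.freeMod (U : Scheme.{u}) r, ⊤) := fun i => e.hom.app ⊤ (pullTop U.ι (w i))
  have hiff : ∀ z : (U : Scheme.{u}), GenAt (FlatMod.freeMod (U : Scheme.{u}) r) w' z ↔ GenAt L w (U.ι z) := fun z =>
    (genAt_iso_iff e.hom _ z).trans (genAt_pull_iff U.ι hL w z)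
  have hy : GenAt (FlatMod.freeMod (U : Scheme.{u}) r) w' y := (hiff y).2 hx
  -- near `y` the basis is a combination of the sections
  have key : ∀ j, ∃ V : (U : Scheme.{u}).Opens, y ∈ V ∧ ∀ z (hz : z ∈ V),
      (FlatMod.freeMod (U : Scheme.{u}) r).presheaf.germ ⊤ z trivial (H29Fitt.gen (U : Scheme.{u}) r j ⊤) ∈
        Submodule.span ((U : Scheme.{u}).presheaf.stalk z)
          (Set.range fun i => (FlatMod.freeMod (U : Scheme.{u}) r).presheaf.germ ⊤ z trivial (w' i)) := by
    intro j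
    let M := FlatMod.freeMod (U : Scheme.{u}) r
    suffices h : ∀ m ∈ Submodule.span ((U : Scheme.{u}).presheaf.stalk y)
        (Set.range fun i => M.presheaf.germ ⊤ y trivial (w' i)),
        ∃ (V : (U : Scheme.{u}).Opens) (hyV : y ∈ V) (a : Γ(M, V)), M.presheaf.germ V y hyV a = m ∧
          ∀ z (hz : z ∈ V), M.presheaf.germ V z hz a ∈ Submodule.span ((U : Scheme.{u}).presheaf.stalk z)
            (Set.range fun i => M.presheaf.germ ⊤ z trivial (w' i)) by
      obtain ⟨V, hyV, a, ha, hV⟩ := h (M.presheaf.germ ⊤ y trivial (H29Fitt.gen (U : Scheme.{u}) r j ⊤))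
        (hy ▸ Submodule.mem_top)
      obtain ⟨W, hyW, i₁, i₂, hW⟩ := M.presheaf.germ_eq y hyV (show y ∈ (⊤ : (U : Scheme.{u}).Opens) from trivial) _ _ ha
      refine ⟨W, hyW, fun z hz => ?_⟩
      rw [← TopCat.Presheaf.germ_res_apply M.presheaf i₂ z hz, ← hW, TopCat.Presheaf.germ_res_apply]
      exact hV z _
    intro m hm
    induction hm using Submodule.span_induction with
    | mem v hv =>
      obtain ⟨i, rfl⟩ := hv
      exact ⟨⊤, trivial, w' i, rfl, fun z _ => Submodule.subset_span ⟨i, rfl⟩⟩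
    | zero => exact ⟨⊤, trivial, 0, map_zero _, fun z _ => by rw [map_zero]; exact zero_mem _⟩
    | add a b _ _ ha hb =>
      obtain ⟨V, hV, a', rfl, ha'⟩ := ha
      obtain ⟨V', hV', b', rfl, hb'⟩ := hb
      refine ⟨V ⊓ V', ⟨hV, hV'⟩, M.presheaf.map (homOfLE inf_le_left).op a' + M.presheaf.map (homOfLE inf_le_right).op b',
        ?_, fun z hz => ?_⟩
      · rw [map_add, TopCat.Presheaf.germ_res_apply, TopCat.Presheaf.germ_res_apply]
      · rw [map_add, TopCat.Presheaf.germ_res_apply, TopCat.Presheaf.germ_res_apply]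
        exact add_mem (ha' z hz.1) (hb' z hz.2)
    | smul c a _ ha =>
      obtain ⟨V, hV, a', rfl, ha'⟩ := ha
      obtain ⟨V', hV', c', rfl⟩ := (U : Scheme.{u}).presheaf.exists_germ_eq c
      refine ⟨V ⊓ V', ⟨hV, hV'⟩, (U : Scheme.{u}).presheaf.map (homOfLE (inf_le_right : V ⊓ V' ≤ V')).op c' •
        M.presheaf.map (homOfLE (inf_le_left : V ⊓ V' ≤ V)).op a', ?_, fun z hz => ?_⟩
      · rw [germ_smul, TopCat.Presheaf.germ_res_apply, TopCat.Presheaf.germ_res_apply]
      · rw [germ_smul, TopCat.Presheaf.germ_res_apply, TopCat.Presheaf.germ_res_apply]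
        exact Submodule.smul_mem _ _ (ha' z hz.1)
  choose V hV hVg using key
  refine ⟨U.ι '' (⋂ j, (V j : Set (U : Scheme.{u}))), ?_, ?_, ⟨y, Set.mem_iInter.2 hV, rfl⟩⟩
  · rintro _ ⟨z, hz, rfl⟩
    refine (hiff z).1 (eq_top_iff.2 ?_)
    rw [← genAt_free r z, Submodule.span_le]
    rintro _ ⟨j, rfl⟩
    exact hVg j z (Set.mem_iInter.1 hz j)
  · exact U.ι.isOpenEmbedding.isOpenMap _ (isOpen_iInter_of_finite fun j => (V j).2)

/-- A map from a free module onto a locally free module of the same rank is an isomorphism. -/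
theorem isIso_freeHom {L : X.Modules} {r : ℕ} (hL : FlatMod.IsFinLocFreeOfRank r L) (w : Fin r → Γ(L, ⊤))
    (hw : ∀ x, GenAt L w x) : IsIso (H29Fitt.freeHom L w) := by
  set φ := H29Fitt.freeHom L w with hφ
  have hsurj : ∀ x, Function.Surjective (stalkLin φ x) := fun x => by
    rw [surjective_iff_genAt φ (genAt_free r x)]
    convert! hw x using 3 with i
    exact (H29Fitt.freeHom_gen L w i ⊤).trans (H10Coh.mres_self _ _ _)
  refine (H8Props.FunDescent.isIso_iff φ).2 fun x => ⟨?_, hsurj x⟩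
  obtain ⟨U, hx, ⟨e⟩⟩ := exists_chart_iso hL x
  let y : (U : Scheme.{u}) := ⟨x, hx⟩
  show Function.Injective (stalkLin φ (U.ι y))
  rw [← H8Props.FunDescent.injective_stalkLin_pullback_iff U.ι φ y]
  let ψ := (H16Derived.KFlat.Stalk.freeModPullbackIso U.ι r).inv ≫ (Scheme.Modules.pullback U.ι).map φ ≫ e.hom
  have hψ : Function.Bijective (stalkLin ψ y) := by
    haveI := finite_stalk_free (X := (U : Scheme.{u})) r y
    have hs : Function.Surjective (stalkLin ψ y) := by
      intro v
      obtain ⟨v, rfl⟩ := ((H8Props.FunDescent.isIso_iff e.hom).1 inferInstance y).2 v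
      obtain ⟨v, rfl⟩ := (H8Props.FunDescent.surjective_stalkLin_pullback_iff U.ι φ y).2 (hsurj _) v
      obtain ⟨v, rfl⟩ := ((H8Props.FunDescent.isIso_iff
        (H16Derived.KFlat.Stalk.freeModPullbackIso U.ι r).inv).1 inferInstance y).2 v
      exact ⟨v, by simp only [ψ, stalkLin_comp_apply]⟩
    exact ⟨OrzechProperty.injective_of_surjective_endomorphism _ hs, hs⟩
  intro a b hab
  obtain ⟨a, rfl⟩ := ((H8Props.FunDescent.isIso_iff
    (H16Derived.KFlat.Stalk.freeModPullbackIso U.ι r).inv).1 inferInstance y).2 a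
  obtain ⟨b, rfl⟩ := ((H8Props.FunDescent.isIso_iff
    (H16Derived.KFlat.Stalk.freeModPullbackIso U.ι r).inv).1 inferInstance y).2 b
  congr 1
  refine hψ.1 ?_
  simp only [ψ, stalkLin_comp_apply, hab]

/-- Coefficients with respect to generating sections. -/
theorem existsUnique_coeff {L : X.Modules} {r : ℕ} (hL : FlatMod.IsFinLocFreeOfRank r L) (w : Fin r → Γ(L, ⊤))
    (hw : ∀ x, GenAt L w x) (m : Γ(L, ⊤)) : ∃! c : Fin r → Γ(X, ⊤), ∑ j, c j • w j = m := by
  haveI := isIso_freeHom hL w hw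
  have happ : ∀ c : Fin r → Γ(X, ⊤), (H29Fitt.freeHom L w).app ⊤ (∑ j, c j • H29Fitt.gen X r j ⊤) = ∑ j, c j • w j :=
    fun c => by
      rw [map_sum]
      exact Finset.sum_congr rfl fun j _ => by
        rw [Scheme.Modules.Hom.app_smul, H29Fitt.freeHom_gen, H10Coh.mres_self]
  obtain ⟨c, hc⟩ := H29Fitt.exists_eq_sum_gen r ⊤ ((inv (H29Fitt.freeHom L w)).app ⊤ m)
  have hm : ∑ j, c j • w j = m := by
    rw [← happ, hc]
    exact congr($(congrArg (fun k => Scheme.Modules.Hom.app k ⊤) (IsIso.inv_hom_id (H29Fitt.freeHom L w))) m)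
  refine ⟨c, hm, fun c' hc' => ?_⟩
  have h1 : ∑ j, c' j • H29Fitt.gen X r j ⊤ = ∑ j, c j • H29Fitt.gen X r j ⊤ := by
    have h := congrArg ((inv (H29Fitt.freeHom L w)).app ⊤) ((happ c').trans (hc'.trans ((happ c).trans hm).symm))
    rwa [← ConcreteCategory.comp_apply, ← ConcreteCategory.comp_apply, ← Scheme.Modules.Hom.comp_app,
      IsIso.hom_inv_id] at h
  refine sub_eq_zero.1 (H29Fitt.gen_independent r ⊤ (c' - c) ?_)
  simp only [Pi.sub_apply, sub_smul, Finset.sum_sub_distrib, h1, sub_self]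

section free

variable {n : ℕ} {T : Scheme.{u}}

/-- The images of the basis under a map out of the inverse image of a free module. -/
def fsec {g : T ⟶ X} {L : T.Modules} (s : (Scheme.Modules.pullback g).obj (FlatMod.freeMod X n) ⟶ L) (i : Fin n) :
    Γ(L, ⊤) :=
  s.app ⊤ (pullTop g (H29Fitt.gen X n i ⊤))

theorem fsec_comp {g : T ⟶ X} {L L' : T.Modules} (s : (Scheme.Modules.pullback g).obj (FlatMod.freeMod X n) ⟶ L)
    (t : L ⟶ L') (i : Fin n) : fsec (s ≫ t) i = t.app ⊤ (fsec s i) := rfl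

theorem fsec_ext {g : T ⟶ X} {L : T.Modules} {s s' : (Scheme.Modules.pullback g).obj (FlatMod.freeMod X n) ⟶ L}
    (h : ∀ i, fsec s i = fsec s' i) : s = s' := by
  refine ((Scheme.Modules.pullbackPushforwardAdjunction g).homEquiv _ _).injective
    (H22Alg.PB.free_hom_ext fun i => ?_)
  exact (H11Sym.homEquiv_app_apply g s ⊤ _).trans ((h i).trans (H11Sym.homEquiv_app_apply g s' ⊤ _).symm)

theorem exists_fsec {g : T ⟶ X} {L : T.Modules} (w : Fin n → Γ(L, ⊤)) :
    ∃ s : (Scheme.Modules.pullback g).obj (FlatMod.freeMod X n) ⟶ L, ∀ i, fsec s i = w i := by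
  refine ⟨((Scheme.Modules.pullbackPushforwardAdjunction g).homEquiv _ _).symm
    (H29Fitt.freeHom ((Scheme.Modules.pushforward g).obj L) w), fun i => ?_⟩
  refine (H11Sym.homEquiv_app_apply g _ ⊤ (H29Fitt.gen X n i ⊤)).symm.trans ?_
  show ((Scheme.Modules.pullbackPushforwardAdjunction g).homEquiv _ _ _).app ⊤ _ = _
  rw [Equiv.apply_symm_apply]
  exact (H29Fitt.freeHom_gen ((Scheme.Modules.pushforward g).obj L) w i ⊤).trans (H10Coh.mres_self _ _ _)

theorem fsec_quotBC {T' : Scheme.{u}} {g : T ⟶ X} {L : T.Modules}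
    (s : (Scheme.Modules.pullback g).obj (FlatMod.freeMod X n) ⟶ L) {h : T' ⟶ T} {g' : T' ⟶ X} (hg : h ≫ g = g')
    (i : Fin n) : fsec (quotBC hg s) i = pullTop h (fsec s i) := by
  subst hg
  have h1 := H11Sym.pullSect_comp h g (FlatMod.freeMod X n) ⊤ (H29Fitt.gen X n i ⊤)
  simp only [fsec, quotBC, Scheme.Modules.pullbackCongr, eqToIso.inv, eqToHom_refl, NatTrans.id_app, Category.id_comp]
  refine (congrArg (((Scheme.Modules.pullback h).map s).app ⊤) h1).trans ?_
  exact (H17.PullSect.pullSect_natural h s ⊤ _).symm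

theorem genAt_pullGen (g : T ⟶ X) (x : T) :
    GenAt ((Scheme.Modules.pullback g).obj (FlatMod.freeMod X n)) (fun i => pullTop g (H29Fitt.gen X n i ⊤)) x :=
  genAt_pull_of_genAt g _ x (genAt_free n _)

theorem epi_iff_genAt {g : T ⟶ X} {L : T.Modules} (s : (Scheme.Modules.pullback g).obj (FlatMod.freeMod X n) ⟶ L) :
    Epi s ↔ ∀ x, GenAt L (fsec s) x := by
  rw [H8Props.FunDescent.epi_iff]
  exact forall_congr' fun x => surjective_iff_genAt s (genAt_pullGen g x)

end free

end

end Groth.Agent.H26Gr
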