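import Groth.Agent.H26Gr.FlagProps
import Mathlib.LinearAlgebra.Matrix.Determinant.Basic
import Mathlib.Logic.Equiv.Fintype

/-!
# Flag schemes over an irreducible base are irreducible
-/

set_option autoImplicit false
set_option backward.isDefEq.respectTransparency false
set_option backward.isDefEq.respectTransparency.types false

universe u

open CategoryTheory CategoryTheory.Limits AlgebraicGeometry Grass

namespace Groth.Agent.H26Gr

noncomputable section

/-- A space covered by irreducible open subsets meeting pairwise is irreducible. -/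
theorem irreducibleSpace_of_cover {α κ : Type*} [TopologicalSpace α] [Nonempty κ] (U : κ → Set α)
    (hU : ∀ i, IsOpen (U i)) (hirr : ∀ i, IsIrreducible (U i)) (hcov : ∀ x, ∃ i, x ∈ U i)
    (hmeet : ∀ i j, (U i ∩ U j).Nonempty) : IrreducibleSpace α := by
  haveI : Nonempty α := (hirr (Classical.arbitrary κ)).nonempty.to_type
  refine { toPreirreducibleSpace := ⟨fun u v hu hv ⟨x, _, hx⟩ ⟨y, _, hy⟩ => ?_⟩, toNonempty := inferInstance }
  obtain ⟨i, hi⟩ := hcov x
  obtain ⟨j, hj⟩ := hcov y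
  obtain ⟨a, hai, hau, haj⟩ := (hirr i).2 u (U j) hu (hU j) ⟨x, hi, hx⟩ ((hmeet i j))
  obtain ⟨b, -, ⟨⟨hbu, -⟩, hbv⟩⟩ := (hirr j).2 (u ∩ U i) v (hu.inter (hU i)) hv ⟨a, haj, hau, hai⟩ ⟨y, hj, hy⟩
  exact ⟨b, trivial, hbu, hbv⟩

/-- Two charts of the Grassmannian have a common rational point. -/
theorem exists_det_isUnit {n r : ℕ} (A : Type u) [CommRing A] (s t : Fin r ↪ Fin n) :
    ∃ x : Jc s × Fin r → A, IsUnit (Matrix.of fun l j => wmat s x (t l) j).det := by
  classical
  let e : {l // t l ∈ Set.range s} ≃ {j // s j ∈ Set.range t} :=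
    { toFun := fun l => ⟨l.2.choose, ⟨l.1, l.2.choose_spec.symm⟩⟩
      invFun := fun j => ⟨j.2.choose, ⟨j.1, j.2.choose_spec.symm⟩⟩
      left_inv := fun l => Subtype.ext (t.injective ((Exists.choose_spec (p := fun y => t y = s l.2.choose)
        ⟨l.1, l.2.choose_spec.symm⟩).trans l.2.choose_spec))
      right_inv := fun j => Subtype.ext (s.injective ((Exists.choose_spec (p := fun y => s y = t j.2.choose)
        ⟨j.1, j.2.choose_spec.symm⟩).trans j.2.choose_spec)) }
  let p : Equiv.Perm (Fin r) := e.extendSubtype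
  refine ⟨fun q => if ∃ l, t l = q.1.1 ∧ p l = q.2 then 1 else 0, ?_⟩
  have h : (Matrix.of fun l j => wmat s (fun q => if ∃ l, t l = q.1.1 ∧ p l = q.2 then (1 : A) else 0) (t l) j) =
      (1 : Matrix (Fin r) (Fin r) A).submatrix p id := by
    ext l j
    rw [Matrix.of_apply, Matrix.submatrix_apply, id_eq, Matrix.one_apply]
    by_cases hl : t l ∈ Set.range s
    · have hp : p l = hl.choose := e.extendSubtype_apply_of_mem l hl
      conv_lhs => rw [← hl.choose_spec, wmat_emb, Pi.single_apply]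
      rw [hp]
      exact if_congr eq_comm rfl rfl
    · refine (wmat_out s _ ⟨t l, hl⟩ j).trans (if_congr ⟨?_, fun h => ⟨l, rfl, h⟩⟩ rfl rfl)
      rintro ⟨l', hl', hp⟩
      rwa [t.injective hl'] at hp
  rw [h, Matrix.det_permute, Matrix.det_one, mul_one]
  exact (Units.map (Int.castRingHom A).toMonoidHom (Equiv.Perm.sign p)).isUnit

variable {X G : Scheme.{u}} {π : G ⟶ X} {n r : ℕ} {Q : G.Modules}

theorem irreducibleSpace_free {q : (Scheme.Modules.pullback π).obj (FlatMod.freeMod X n) ⟶ Q} [IrreducibleSpace X]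
    (hG : IsGrass π (FlatMod.freeMod X n) r Q q) (hr : r ≤ n) : IrreducibleSpace G := by
  haveI : Nonempty (Fin r ↪ Fin n) := ⟨Fin.castLEEmb hr⟩
  refine irreducibleSpace_of_cover (fun s => (chartOpen hG s : Set G)) (fun s => (chartOpen hG s).2) (fun s => ?_)
    (exists_mem_chartOpen hG) fun s t => ?_
  · show IsIrreducible (chartOpen hG s : Set G)
    rw [← range_cmap hG s, ← Set.image_univ]
    exact (IrreducibleSpace.isIrreducible_univ (AffineSpace (Crd s) X)).image _ (cmap hG s).left.continuous.continuousOn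
  · obtain ⟨z⟩ := (inferInstance : Nonempty X)
    obtain ⟨x, hx⟩ := exists_det_isUnit Γ(X, ⊤) s t
    let h : Over.mk (𝟙 X) ⟶ chartOver X s := chartHom s (Over.mk (𝟙 X)) x
    have h1 : h.left.appTop (overlapDet s t) = (Matrix.of fun l j => wmat s x (t l) j).det := by
      refine (RingHom.map_det h.left.appTop.hom _).trans (congrArg Matrix.det ?_)
      ext l j
      refine (wmat_map h.left.appTop.hom s (crd X s) (t l) j).trans ?_
      exact congrArg (fun x => wmat s x (t l) j) (hcrd_chartHom s (Over.mk (𝟙 X)) x)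
    have h2 : h.left z ∈ (AffineSpace (Crd s) X).basicOpen (overlapDet s t) := by
      show z ∈ h.left ⁻¹ᵁ (chartOver X s).left.basicOpen (overlapDet s t)
      rw [Scheme.preimage_basicOpen, show Scheme.Hom.app h.left ⊤ (overlapDet s t) = _ from h1]
      exact (Scheme.basicOpen_of_isUnit (X := X) hx).ge trivial
    rw [← preimage_chartOpen hG] at h2
    exact ⟨(cmap hG s).left (h.left z), (range_cmap hG s).le ⟨_, rfl⟩, h2⟩

theorem irreducibleSpace_locFree {E : X.Modules} {N : ℕ} {q : (Scheme.Modules.pullback π).obj E ⟶ Q}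
    [IrreducibleSpace X] (hE : FlatMod.IsFinLocFreeOfRank N E) (h : IsGrass π E r Q q) (hr : r ≤ N) :
    IrreducibleSpace G := by
  obtain ⟨𝒰, h𝒰⟩ := exists_free_cover hE h
  let κ := {i : 𝒰.I₀ // Nonempty (𝒰.X i)}
  obtain ⟨x₀⟩ := (inferInstance : Nonempty X)
  haveI : Nonempty κ := by
    obtain ⟨y, hy⟩ := 𝒰.covers x₀
    exact ⟨⟨_, ⟨y⟩⟩⟩
  haveI hs := surjective_locFree hE h hr
  refine irreducibleSpace_of_cover (fun i : κ => Set.range (pullback.fst π (𝒰.f i.1)))
    (fun i => (pullback.fst π (𝒰.f i.1)).isOpenEmbedding.isOpen_range) (fun i => ?_) (fun x => ?_) fun i j => ?_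
  · obtain ⟨-, Q', q', hq'⟩ := h𝒰 i.1
    haveI : IrreducibleSpace (𝒰.X i.1) :=
      { toPreirreducibleSpace := ⟨by
          simpa using (PreirreducibleSpace.isPreirreducible_univ (X := X)).preimage (𝒰.f i.1).isOpenEmbedding⟩
        toNonempty := i.2 }
    haveI := irreducibleSpace_free hq' hr
    rw [← Set.image_univ]
    exact (IrreducibleSpace.isIrreducible_univ _).image _ (pullback.fst π (𝒰.f i.1)).continuous.continuousOn
  · obtain ⟨y, hy⟩ := 𝒰.covers (π x)
    refine ⟨⟨_, ⟨y⟩⟩, ?_⟩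
    rw [Scheme.Pullback.range_fst]
    exact ⟨y, hy⟩
  · obtain ⟨x, -, hxi, hxj⟩ := (PreirreducibleSpace.isPreirreducible_univ (X := X)) (Set.range (𝒰.f i.1))
      (Set.range (𝒰.f j.1)) (𝒰.f i.1).isOpenEmbedding.isOpen_range (𝒰.f j.1).isOpenEmbedding.isOpen_range
      ⟨_, trivial, i.2.some, rfl⟩ ⟨_, trivial, j.2.some, rfl⟩
    obtain ⟨g, rfl⟩ := hs.surj x
    exact ⟨g, (Scheme.Pullback.range_fst _ _).ge hxi, (Scheme.Pullback.range_fst _ _).ge hxj⟩

theorem irreducibleSpace_flag {E : X.Modules} {N : ℕ} (hE : FlatMod.IsFinLocFreeOfRank N E) [IrreducibleSpace X] :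
    ∀ {m : ℕ} (n : Fin m → ℕ), StrictAnti n → (∀ i, n i < N) → ∀ {F : Scheme.{u}} {π : F ⟶ X}
      {Q : Fin m → F.Modules} {q : ∀ i, (Scheme.Modules.pullback π).obj E ⟶ Q i}, IsFlag π E n Q q →
        IrreducibleSpace F := by
  intro m
  induction m with
  | zero =>
    intro n _ _ F π Q q hF
    haveI := isIso_of_empty hF
    exact
      { toPreirreducibleSpace := ⟨by
          simpa using (PreirreducibleSpace.isPreirreducible_univ (X := X)).preimage π.isOpenEmbedding⟩
        toNonempty := ⟨(inv π) (Classical.arbitrary X)⟩ }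
  | succ m ih =>
    intro n hn hN F π Q q hF
    cases m with
    | zero => exact irreducibleSpace_locFree hE (isGrass_of_one hF) (hN 0).le
    | succ m =>
      obtain ⟨F₁, π₁, Q₁, q₁, hF₁⟩ := exists_isFlag hE fun i : Fin (m + 1) => n (Fin.castSucc i)
      haveI := ih _ (fun i j h => hn (Fin.castSucc_lt_castSucc_iff.2 h)) (fun i => hN _) hF₁
      have hnest : ∀ i j : Fin (m + 1), i ≤ j → ∃ t : Q (Fin.castSucc i) ⟶ Q (Fin.castSucc j),
          q (Fin.castSucc i) ≫ t = q (Fin.castSucc j) := fun i j h => hF.nested _ _ (Fin.castSucc_le_castSucc_iff.2 h)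
      obtain ⟨t, ht⟩ := hF.nested (Fin.castSucc (Fin.last m)) (Fin.last (m + 1)) (Fin.le_last _)
      exact irreducibleSpace_locFree (hF₁.rank (Fin.last m))
        (isGrass_last hF₁ hF _ (hF₁.lift_comp π (fun i => Q (Fin.castSucc i)) (fun i => hF.rank _)
          (fun i => q (Fin.castSucc i)) (fun i => hF.epi _) hnest) _ (hF₁.quotBC_liftIso _ _ _ _ _ _) t ht)
        (hn (Fin.castSucc_lt_last _)).le

end

end Groth.Agent.H26Gr
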