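import Groth.Agent.H26Gr.Plucker
import Groth.Agent.H26Gr.Vanish
import Groth.Agent.H26Gr.Represent
import Groth.Agent.H26Gr.Points
import Groth.Agent.H27Weil.Geometry
import Groth.Prelude.Def_W4c1limliniiiiLG

/-!
# Linked Grassmannians are proper schemes
-/

set_option autoImplicit false
set_option backward.isDefEq.respectTransparency false
set_option backward.isDefEq.respectTransparency.types false

universe u

open CategoryTheory CategoryTheory.Limits AlgebraicGeometry TensorProduct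

namespace Groth.Agent.H26Gr

noncomputable section

variable {R : Type u} [CommRing R]

/-- Pairs of points are points of a fibre product. -/
def pairEquiv (X Y : Over (Sb R)) (T : Over (Sb R)) :
    (T ⟶ Over.mk (pullback.fst X.hom Y.hom ≫ X.hom)) ≃ (T ⟶ X) × (T ⟶ Y) where
  toFun h := (h ≫ Over.homMk (pullback.fst X.hom Y.hom) rfl,
    h ≫ Over.homMk (pullback.snd X.hom Y.hom) pullback.condition.symm)
  invFun p := Over.homMk (pullback.lift p.1.left p.2.left ((Over.w p.1).trans (Over.w p.2).symm))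
    ((Category.assoc _ _ _).symm.trans ((congrArg (· ≫ X.hom) (pullback.lift_fst _ _ _)).trans (Over.w p.1)))
  left_inv h := Over.OverMorphism.ext (pullback.hom_ext (by simp) (by simp))
  right_inv p := Prod.ext (Over.OverMorphism.ext (pullback.lift_fst _ _ _)) (Over.OverMorphism.ext (pullback.lift_snd _ _ _))

/-- The Grassmannian of a free module is proper. -/
theorem exists_rep_proper (n k : ℕ) (hk : k ≤ n) : ∃ (X : Over (Sb R))
    (e : ∀ A : CommAlgCat.{u} R, (SR A ⟶ X) ≃ Module.Grassmannian A (A ⊗[R] (Fin n → R)) k),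
    (∀ (A B : CommAlgCat.{u} R) (φ : A ⟶ B) (g : SR A ⟶ X) (g' : SR B ⟶ X),
      g'.left = Spec.map (CommRingCat.ofHom φ.hom.toRingHom) ≫ g.left →
        e B g' = Module.Grassmannian.map φ.hom (e A g)) ∧ IsProper X.hom := by
  obtain ⟨X, e, he⟩ := exists_rep (R := R) (n := n) (k := k)
  obtain ⟨c, hc, hcb⟩ := exists_plucker (e := e) he hk
  refine ⟨X, e, he, ?_⟩
  haveI := hc
  haveI : IsProper (CohB1.ProjSpaceOver.toBase (n.choose k - 1) (Spec (CommRingCat.of R))) :=
    H27Weil.isProper_toBase _ _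
  rw [← hcb]
  infer_instance

/-- Products of Grassmannians. -/
theorem exists_rep_pi (n k : ℕ) (hk : k ≤ n) : ∀ m : ℕ, ∃ (X : Over (Sb R))
    (e : ∀ A : CommAlgCat.{u} R, (SR A ⟶ X) ≃ (Fin m → Module.Grassmannian A (A ⊗[R] (Fin n → R)) k)),
    (∀ (A B : CommAlgCat.{u} R) (φ : A ⟶ B) (g : SR A ⟶ X) (g' : SR B ⟶ X),
      g'.left = Spec.map (CommRingCat.ofHom φ.hom.toRingHom) ≫ g.left →
        ∀ i, e B g' i = Module.Grassmannian.map φ.hom (e A g i)) ∧ IsProper X.hom := by
  intro m
  induction m with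
  | zero =>
    refine ⟨Over.mk (𝟙 _), fun A =>
      { toFun := fun _ i => i.elim0
        invFun := fun _ => Over.homMk (SR A).hom (Category.comp_id _)
        left_inv := fun g => Over.OverMorphism.ext ((Over.w g).symm.trans (Category.comp_id _))
        right_inv := fun v => funext fun i => i.elim0 }, fun A B φ g g' _ i => i.elim0, ?_⟩
    show IsProper (𝟙 _)
    infer_instance
  | succ m ih =>
    obtain ⟨Y, eY, heY, hY⟩ := ih
    obtain ⟨G, eG, heG, hG⟩ := exists_rep_proper (R := R) n k hk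
    refine ⟨Over.mk (pullback.fst G.hom Y.hom ≫ G.hom), fun A => (pairEquiv G Y (SR A)).trans
      (((eG A).prodCongr (eY A)).trans (Fin.consEquiv fun _ => Module.Grassmannian A (A ⊗[R] (Fin n → R)) k)),
      fun A B φ g g' h i => ?_, ?_⟩
    · refine Fin.cases ?_ (fun j => ?_) i
      · refine heG A B φ _ _ ?_
        show g'.left ≫ _ = _ ≫ g.left ≫ _
        rw [h, Category.assoc]
      · refine heY A B φ _ _ ?_ j
        show g'.left ≫ _ = _ ≫ g.left ≫ _
        rw [h, Category.assoc]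
    · show IsProper (pullback.fst G.hom Y.hom ≫ G.hom)
      infer_instance

/-- The linking condition after a change of rings. -/
theorem map_le_map_iff {n k : ℕ} {A B : Type u} [CommRing A] [Algebra R A] [CommRing B] [Algebra R B] (φ : A →ₐ[R] B)
    (F : (Fin n → R) →ₗ[R] (Fin n → R)) (V W : Module.Grassmannian A (A ⊗[R] (Fin n → R)) k) :
    Submodule.map (F.baseChange B) (Module.Grassmannian.map φ V).toSubmodule ≤ (Module.Grassmannian.map φ W).toSubmodule ↔
      vanIdeal W (F.baseChange A '' (V.toSubmodule : Set (A ⊗[R] (Fin n → R)))) ≤ RingHom.ker φ.toRingHom := by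
  rw [map_toSubmodule_eq_span φ V, Submodule.map_span, Submodule.span_le, ← forall_mem_map_iff]
  constructor
  · rintro h _ ⟨x, hx, rfl⟩
    rw [bc_baseChange]
    exact h ⟨_, ⟨x, hx, rfl⟩, rfl⟩
  · rintro h _ ⟨_, ⟨x, hx, rfl⟩, rfl⟩
    rw [← bc_baseChange]
    exact h _ ⟨x, hx, rfl⟩

/-- Linked Grassmannians are representable by proper schemes. -/
theorem exists_linked (d r n : ℕ) (f g : Fin n → ((Fin d → R) →ₗ[R] (Fin d → R))) :
    ∃ (X : Over (Sb R)) (e : ∀ A : CommAlgCat.{u} R, (SR A ⟶ X) ≃ W4c1limliniiii.LGPoints R d r n f g A),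
      (∀ (A B : CommAlgCat.{u} R) (φ : A ⟶ B) (x : SR A ⟶ X) (x' : SR B ⟶ X),
        x'.left = Spec.map (CommRingCat.ofHom φ.hom.toRingHom) ≫ x.left →
          ∀ i, (e B x').1 i = Module.Grassmannian.map φ.hom ((e A x).1 i)) ∧ IsProper X.hom := by
  obtain ⟨P, e, he, hP⟩ := exists_rep_pi (R := R) d (d - r) (Nat.sub_le d r) (n + 1)
  obtain ⟨Z, ι, hι, hZ⟩ := exists_closed (X := P) (fun A x => e A x ∈ W4c1limliniiii.LGPoints R d r n f g A)
    (fun A x => ⨆ i : Fin n,
      vanIdeal (e A x i.succ) ((f i).baseChange A '' ((e A x i.castSucc).toSubmodule : Set (A ⊗[R] (Fin d → R)))) ⊔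
        vanIdeal (e A x i.castSucc) ((g i).baseChange A '' ((e A x i.succ).toSubmodule : Set (A ⊗[R] (Fin d → R)))))
    fun A B φ x x' h => by
      simp only [iSup_le_iff, sup_le_iff, W4c1limliniiii.LGPoints, Set.mem_setOf_eq, he A B φ x x' h]
      exact forall_congr' fun i => and_congr (map_le_map_iff φ.hom (f i) _ _) (map_le_map_iff φ.hom (g i) _ _)
  haveI := hι
  let W : Over (Sb R) := Over.mk (ι ≫ P.hom)
  have hfac : ∀ (A : CommAlgCat.{u} R) (x : SR A ⟶ P),
      e A x ∈ W4c1limliniiii.LGPoints R d r n f g A → ∃ h : SR A ⟶ W, h.left ≫ ι = x.left := fun A x hx => by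
    obtain ⟨h, hh⟩ := (hZ A x).2 hx
    exact ⟨Over.homMk h (by show h ≫ ι ≫ P.hom = _; rw [← Category.assoc, hh]; exact Over.w x), hh⟩
  let toP : W ⟶ P := Over.homMk ι rfl
  let E : ∀ A : CommAlgCat.{u} R, (SR A ⟶ W) ≃ W4c1limliniiii.LGPoints R d r n f g A := fun A =>
    Equiv.ofBijective (fun h => ⟨e A (h ≫ toP), (hZ A _).1 ⟨h.left, rfl⟩⟩)
      ⟨fun h h' hh => Over.OverMorphism.ext ((cancel_mono ι).1
          (congrArg (fun t : SR A ⟶ P => t.left) ((e A).injective (congrArg Subtype.val hh)))),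
        fun v => by
          obtain ⟨x, hx⟩ := (e A).surjective v.1
          obtain ⟨h, hh⟩ := hfac A x (hx ▸ v.2)
          exact ⟨h, Subtype.ext ((congrArg (e A) (Over.OverMorphism.ext hh : h ≫ toP = x)).trans hx)⟩⟩
  refine ⟨W, E, fun A B φ x x' h i => he A B φ (x ≫ toP) (x' ≫ toP) ?_ i, ?_⟩
  · show x'.left ≫ ι = _ ≫ x.left ≫ ι
    rw [h, Category.assoc]
  · show IsProper (ι ≫ P.hom)
    infer_instance

end

end Groth.Agent.H26Gr
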