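import Groth.Agent.H26Gr.Chart
import Mathlib.LinearAlgebra.Matrix.Determinant.Basic
import Mathlib.Data.Finset.Sort

/-!
# Plücker coordinates of points of charts
-/

set_option autoImplicit false
set_option backward.isDefEq.respectTransparency false
set_option backward.isDefEq.respectTransparency.types false

universe u

open TensorProduct

namespace Groth.Agent.H26Gr

variable (R : Type u) [CommRing R] {n k : ℕ} {A C : Type u} [CommRing A] [Algebra R A] [CommRing C] [Algebra R C]

/-- The index set of Plücker coordinates. -/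
abbrev PlIdx (n k : ℕ) : Type := {T : Finset (Fin n) // T.card = k}

/-- The embedding of an index. -/
def PlIdx.emb (T : PlIdx n k) : Fin k ↪ Fin n := (T.1.orderEmbOfFin T.2).toEmbedding

theorem PlIdx.range_emb (T : PlIdx n k) : Set.range T.emb = (T.1 : Set (Fin n)) :=
  Finset.range_orderEmbOfFin _ _

theorem exists_plIdx (s : Fin k ↪ Fin n) : ∃ (T : PlIdx n k) (σ : Equiv.Perm (Fin k)),
    ∀ j, s j = T.emb (σ j) := by
  let T : PlIdx n k := ⟨Finset.univ.map s, by simp⟩
  have h : ∀ j, ∃ l, T.emb l = s j := fun j => by
    show s j ∈ Set.range T.emb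
    rw [T.range_emb]
    simp [T]
  choose f hf using h
  have hinj : Function.Injective f := fun a b h => s.injective (by rw [← hf, ← hf, h])
  exact ⟨T, Equiv.ofBijective f (Finite.injective_iff_bijective.1 hinj), fun j => (hf j).symm⟩

theorem card_plIdx : Fintype.card (PlIdx n k) = n.choose k := by
  rw [Fintype.card_finset_len, Fintype.card_fin]

variable {R}

/-- A maximal minor. -/
noncomputable def minor (W : Fin n → Fin k → A) (t : Fin k → Fin n) : A :=
  Matrix.det (Matrix.of fun j => W (t j))

theorem minor_self (s : Fin k ↪ Fin n) (x : Jc s × Fin k → A) : minor (wmat s x) s = 1 := by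
  rw [minor, show (Matrix.of fun j => wmat s x (s j)) = (1 : Matrix (Fin k) (Fin k) A) from
    Matrix.ext fun j l => by
      rw [Matrix.of_apply, wmat_emb, Matrix.one_apply, Pi.single_apply]
      simp [eq_comm], Matrix.det_one]

theorem minor_perm (W : Fin n → Fin k → A) (t : Fin k → Fin n) (σ : Equiv.Perm (Fin k)) :
    minor W (fun j => t (σ j)) = ((Equiv.Perm.sign σ : ℤ) : A) * minor W t :=
  Matrix.det_permute σ (Matrix.of fun j => W (t j))

theorem minor_map (f : A →+* C) (W : Fin n → Fin k → A) (t : Fin k → Fin n) :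
    f (minor W t) = minor (fun i => f ∘ W i) t := by
  rw [minor, RingHom.map_det]
  rfl

variable (R) in
theorem minor_wmat_map (φ : A →ₐ[R] C) (s : Fin k ↪ Fin n) (x : Jc s × Fin k → A) (t : Fin k → Fin n) :
    φ (minor (wmat s x) t) = minor (wmat s (φ ∘ x)) t := by
  refine (minor_map φ.toRingHom (wmat s x) t).trans ?_
  congr 1
  funext i j
  show φ (wmat s x i j) = _
  unfold wmat
  split_ifs <;> simp

variable (R)

theorem minor_transition (s s' : Fin k ↪ Fin n) (x : Jc s × Fin k → A) (x' : Jc s' × Fin k → A)
    (h : chartPt R s x = chartPt R s' x') (t : Fin k → Fin n) :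
    minor (wmat s' x') t = minor (wmat s x) t * minor (wmat s' x') s := by
  have hk : LinearMap.ker (piMap R s x) = LinearMap.ker (piMap R s' x') :=
    congrArg Module.Grassmannian.toSubmodule h
  have hrow : ∀ i, wmat s' x' i = Matrix.vecMul (wmat s x i) (Matrix.of fun j => wmat s' x' (s j)) := fun i => by
    have hm : bb R A i - secMap R s (piMap R s x (bb R A i)) ∈ LinearMap.ker (piMap R s x) := by
      rw [LinearMap.mem_ker, map_sub, piMap_secMap, sub_self]
    rw [hk, LinearMap.mem_ker, map_sub, sub_eq_zero, piMap_bb, piMap_bb, secMap,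
      Fintype.linearCombination_apply, map_sum] at hm
    rw [hm]
    simp_rw [map_smul, piMap_bb]
    funext l
    simp [Matrix.vecMul, dotProduct, Finset.sum_apply]
  rw [minor, minor, minor, ← Matrix.det_mul]
  congr 1
  refine Matrix.ext fun j l => ?_
  rw [Matrix.of_apply, hrow]
  rfl

theorem inChart_of_isUnit_minor (s t : Fin k ↪ Fin n) (x : Jc s × Fin k → A) (h : IsUnit (minor (wmat s x) t)) :
    InChart R t (chartPt R s x) := by
  refine eq_top_iff.2 fun v _ => ?_
  let M : Matrix (Fin k) (Fin k) A := Matrix.of fun j => wmat s x (t j)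
  obtain ⟨a, ha⟩ := (Matrix.vecMul_surjective_iff_isUnit.2 ((Matrix.isUnit_iff_isUnit_det M).2 h)) (piMap R s x v)
  let w := ∑ j, a j • bb R A (t j)
  have hw : piMap R s x w = piMap R s x v := by
    rw [← ha, map_sum]
    simp_rw [map_smul, piMap_bb]
    funext l
    simp [M, Matrix.vecMul, dotProduct, Finset.sum_apply]
  refine Submodule.mem_sup.2 ⟨v - w, ?_, w, ?_, sub_add_cancel _ _⟩
  · show piMap R s x (v - w) = 0
    rw [map_sub, hw, sub_self]
  · exact Submodule.sum_mem _ fun j _ => Submodule.smul_mem _ _ (Submodule.subset_span ⟨j, rfl⟩)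

theorem inChart_congr {s t : Fin k ↪ Fin n} (h : Set.range s = Set.range t)
    (N : Module.Grassmannian A (A ⊗[R] (Fin n → R)) k) : InChart R s N ↔ InChart R t N := by
  unfold InChart
  rw [show (fun j => bb R A (s j)) = bb R A ∘ s from rfl, show (fun j => bb R A (t j)) = bb R A ∘ t from rfl,
    Set.range_comp, Set.range_comp, h]

variable {R}

/-- A coordinate is a minor. -/
theorem exists_minor_eq (s : Fin k ↪ Fin n) (x : Jc s × Fin k → A) (i : Jc s) (j : Fin k) :
    ∃ t : Fin k ↪ Fin n, minor (wmat s x) t = x (i, j) := by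
  classical
  refine ⟨⟨Function.update s j i.1, fun a b h => ?_⟩, ?_⟩
  · by_cases ha : a = j <;> by_cases hb : b = j
    · rw [ha, hb]
    · subst ha; rw [Function.update_self, Function.update_of_ne hb] at h
      exact absurd ⟨b, h.symm⟩ i.2
    · subst hb; rw [Function.update_self, Function.update_of_ne ha] at h
      exact absurd ⟨a, h⟩ i.2
    · rw [Function.update_of_ne ha, Function.update_of_ne hb] at h; exact s.injective h
  · have e : (Matrix.of fun l => wmat s x (Function.update s j i.1 l)) =
        Matrix.updateRow (1 : Matrix (Fin k) (Fin k) A) j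
          (∑ l, x (i, l) • (1 : Matrix (Fin k) (Fin k) A) l) := by
      refine Matrix.ext fun a b => ?_
      rw [Matrix.of_apply, Matrix.updateRow_apply]
      by_cases h : a = j
      · subst h
        rw [Function.update_self, if_pos rfl, wmat_out, Finset.sum_apply]
        simp [Matrix.one_apply]
      · rw [Function.update_of_ne h, if_neg h, wmat_emb, Matrix.one_apply, Pi.single_apply]
        simp [eq_comm]
    show Matrix.det (Matrix.of fun l => wmat s x (Function.update s j i.1 l)) = _
    rw [e, Matrix.det_updateRow_sum, Matrix.det_one, smul_eq_mul, mul_one]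

end Groth.Agent.H26Gr
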