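import Groth.Agent.H26Gr.FreeGrass
import Mathlib.LinearAlgebra.Determinant
import Mathlib.LinearAlgebra.Dimension.OrzechProperty

/-!
# Recovering a quotient of a free module from its Plücker coordinates
-/

set_option autoImplicit false

universe u

namespace Groth.Agent.H26Gr

variable {R : Type*} [CommRing R] {M : Type*} [AddCommGroup M] [Module R M] {n r : ℕ}

/-- Replacing one vector of a selection multiplies the determinant by the coefficient. -/
theorem det_update_eq (β : Module.Basis (Fin r) R M) (v : Fin n → M) (s : Fin r → Fin n) (i : Fin n) (c : Fin r → R)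
    (hc : ∑ l, c l • v (s l) = v i) (l : Fin r) :
    β.det (fun j => v (Function.update s l i j)) = c l * β.det (fun j => v (s j)) := by
  have h : (fun j => v (Function.update s l i j)) = Function.update (fun j => v (s j)) l (∑ k, c k • v (s k)) := by
    rw [hc]; exact Function.comp_update v s l i
  rw [h, AlternatingMap.map_update_sum, Finset.sum_eq_single l]
  · rw [AlternatingMap.map_update_smul, smul_eq_mul, Function.update_eq_self]
  · intro k _ hk
    rw [AlternatingMap.map_update_smul, AlternatingMap.map_update_self (hij := hk.symm), smul_zero]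
  · simp

/-- Over a local ring some selection of spanning vectors has invertible determinant. -/
theorem exists_det_isUnit_sel [IsLocalRing R] (β : Module.Basis (Fin r) R M) (v : Fin n → M)
    (hv : Submodule.span R (Set.range v) = ⊤) : ∃ s : Fin r ↪ Fin n, IsUnit (β.det fun j => v (s j)) := by
  obtain ⟨s, hs⟩ := exists_sel_alg β v hv
  haveI : Module.Finite R M := Module.Finite.of_basis β
  exact ⟨s, (β.is_basis_iff_det).1 ⟨linearIndependent_of_top_le_span_of_card_eq_finrank hs.ge
    (Module.finrank_eq_card_basis β).symm, hs⟩⟩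

/-- A selection with invertible determinant gives unique coefficients. -/
theorem exists_coeff_of_det (β : Module.Basis (Fin r) R M) (v : Fin n → M) (s : Fin r → Fin n)
    (hs : IsUnit (β.det fun j => v (s j))) :
    LinearIndependent R (fun j => v (s j)) ∧ ∀ i, ∃ c : Fin r → R, ∑ l, c l • v (s l) = v i := by
  obtain ⟨hli, hsp⟩ := (β.is_basis_iff_det).2 hs
  exact ⟨hli, fun i => (Submodule.mem_span_range_iff_exists_fun R).1 (hsp.ge Submodule.mem_top)⟩

theorem map_combination {N C : Type*} [AddCommGroup N] [Module R N] [AddCommGroup C] [Module R C] (φ : N →ₗ[R] C)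
    (E : Fin n → N) (s : Fin r → Fin n) (c : Fin n → Fin r → R) (h : ∀ i, ∑ l, c i l • φ (E (s l)) = φ (E i))
    (μ : Fin n → R) : φ (∑ i, μ i • E i) = ∑ l, (∑ i, μ i * c i l) • φ (E (s l)) := by
  rw [map_sum]
  simp only [Finset.sum_smul, mul_smul]
  rw [Finset.sum_comm]
  exact Finset.sum_congr rfl fun i _ => by rw [map_smul, ← Finset.smul_sum, h]

/-- Two maps with the same coefficients have the same kernel. -/
theorem ker_le_of_coeff {N A B : Type*} [AddCommGroup N] [Module R N] [AddCommGroup A] [Module R A] [AddCommGroup B]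
    [Module R B] (f : N →ₗ[R] A) (g : N →ₗ[R] B) (E : Fin n → N) (hE : Submodule.span R (Set.range E) = ⊤)
    (s : Fin r → Fin n) (hf : LinearIndependent R fun j => f (E (s j))) (c : Fin n → Fin r → R)
    (hcf : ∀ i, ∑ l, c i l • f (E (s l)) = f (E i)) (hcg : ∀ i, ∑ l, c i l • g (E (s l)) = g (E i)) :
    LinearMap.ker f ≤ LinearMap.ker g := by
  intro m hm
  obtain ⟨μ, rfl⟩ := (Submodule.mem_span_range_iff_exists_fun R).1 (hE ▸ Submodule.mem_top : m ∈ _)
  have h0 := Fintype.linearIndependent_iff.1 hf _ ((map_combination f E s c hcf μ).symm.trans hm)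
  rw [LinearMap.mem_ker, map_combination g E s c hcg μ]
  exact Finset.sum_eq_zero fun l _ => by rw [h0 l, zero_smul]

end Groth.Agent.H26Gr
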