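import Groth.Agent.H26Gr.Fam
import Groth.Agent.H11Proj.ProjSpace
import Mathlib.AlgebraicGeometry.Morphisms.Immersion

/-!
# Affine points of projective space with a coordinate equal to one
-/

set_option autoImplicit false
set_option backward.isDefEq.respectTransparency false
set_option backward.isDefEq.respectTransparency.types false

universe u

open CategoryTheory CategoryTheory.Limits AlgebraicGeometry HomogeneousLocalization

namespace Groth.Agent.H26Gr.Pl

open H11Proj

/-- The integers. -/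
abbrev Z0 : Type u := ULift.{u} ℤ

variable {m : ℕ}

/-- The grading. -/
noncomputable abbrev 𝒢 (m : ℕ) := CohB1.polyGrading m Z0.{u}

/-- The coordinate ring of a standard chart. -/
abbrev AwX (i : Fin (m + 1)) : Type u := Away (𝒢.{u} m) (MvPolynomial.X i)

/-- The element `T_l / T_i`. -/
noncomputable def rat (i l : Fin (m + 1)) : AwX.{u} i :=
  Away.mk (𝒢 m) (ProjSpace.X_mem m _ i) 1 (MvPolynomial.X l) (by rw [one_smul]; exact ProjSpace.X_mem m _ l)

theorem ringHom_z0_ext {B : Type u} [CommRing B] (α β : Z0.{u} →+* B) : α = β := by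
  refine RingHom.ext fun a => ?_
  have h := RingHom.congr_fun (RingHom.ext_int (α.comp (ULift.ringEquiv.symm : ℤ ≃+* Z0.{u}).toRingHom)
    (β.comp (ULift.ringEquiv.symm : ℤ ≃+* Z0.{u}).toRingHom)) a.down
  exact h

theorem awayHom_ext {B : Type u} [CommRing B] {i : Fin (m + 1)} {α β : AwX.{u} i →+* B}
    (h : ∀ l, α (rat i l) = β (rat i l)) : α = β := by
  refine RingHom.ext fun z => ?_
  obtain ⟨p, rfl⟩ := (ProjSpace.chartMap_bijective m Z0.{u} i).2 z
  have hX : ∀ l : {l : Fin (m + 1) // l ≠ i}, ProjSpace.chartMap m Z0.{u} i (MvPolynomial.X l) = rat i l.1 := fun l => by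
    simp only [ProjSpace.chartMap, MvPolynomial.eval₂Hom_X', rat]
    refine val_injective _ ?_
    rw [Away.val_mk, val_mk]
    congr 1
    exact Subtype.ext (pow_one _).symm
  have : α.comp (ProjSpace.chartMap m Z0.{u} i) = β.comp (ProjSpace.chartMap m Z0.{u} i) :=
    MvPolynomial.ringHom_ext (fun r => RingHom.congr_fun (ringHom_z0_ext
      (((α.comp (ProjSpace.chartMap m Z0.{u} i)).comp MvPolynomial.C))
      (((β.comp (ProjSpace.chartMap m Z0.{u} i)).comp MvPolynomial.C))) r)
      fun l => by simp only [RingHom.comp_apply, hX, h]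
  exact RingHom.congr_fun this p

/-- The point with `T_i = 1` and coordinates `c`. -/
noncomputable def homPt (A : Type u) [CommRing A] (i : Fin (m + 1)) (c : Fin (m + 1) → A) : AwX.{u} i →+* A :=
  (MvPolynomial.eval₂Hom ((Int.castRingHom A).comp ULift.ringEquiv.toRingHom)
    (fun j : {j : Fin (m + 1) // j ≠ i} => c j.1)).comp (ProjSpace.chartInv m Z0.{u} i)

theorem homPt_rat {A : Type u} [CommRing A] {i : Fin (m + 1)} {c : Fin (m + 1) → A} (hc : c i = 1)
    (l : Fin (m + 1)) : homPt A i c (rat i l) = c l := by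
  simp only [homPt, RingHom.comp_apply, rat, ProjSpace.chartInv_mk, ProjSpace.dehom, MvPolynomial.eval₂Hom_X']
  by_cases h : l = i
  · subst h; simp [hc]
  · simp [h]

theorem homPt_comp {A B : Type u} [CommRing A] [CommRing B] (f : A →+* B) {i : Fin (m + 1)}
    {c : Fin (m + 1) → A} (hc : c i = 1) : f.comp (homPt A i c) = homPt B i (f ∘ c) :=
  awayHom_ext fun l => by
    rw [RingHom.comp_apply, homPt_rat hc, homPt_rat (by simp [hc])]
    rfl

/-- The chart of projective space over the integers. -/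
noncomputable def chartZ (i : Fin (m + 1)) : Spec (CommRingCat.of (AwX.{u} i)) ⟶ CohB1.ProjSpace m Z0.{u} :=
  Proj.awayι (𝒢 m) (MvPolynomial.X i) (ProjSpace.X_mem m _ i) one_pos

instance (i : Fin (m + 1)) : IsOpenImmersion (chartZ.{u} i) :=
  inferInstanceAs (IsOpenImmersion (Proj.awayι (𝒢.{u} m) (MvPolynomial.X i) (ProjSpace.X_mem m _ i) one_pos))

theorem SpecMap_homPt_eq {A : Type u} [CommRing A] {i j : Fin (m + 1)} {c c' : Fin (m + 1) → A}
    (hi : c i = 1) (hj : c' j = 1) (h : ∀ l, c j * c' l = c l) :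
    Spec.map (CommRingCat.ofHom (homPt A i c)) ≫ chartZ i = Spec.map (CommRingCat.ofHom (homPt A j c')) ≫ chartZ j := by
  have hu : IsUnit (c j) := IsUnit.of_mul_eq_one _ ((h i).trans hi)
  have hij : (MvPolynomial.X i * MvPolynomial.X j : MvPolynomial (Fin (m + 1)) Z0.{u}) =
      MvPolynomial.X i * MvPolynomial.X j := rfl
  have hji : (MvPolynomial.X i * MvPolynomial.X j : MvPolynomial (Fin (m + 1)) Z0.{u}) =
      MvPolynomial.X j * MvPolynomial.X i := mul_comm _ _
  let a₁ := awayMap (𝒢.{u} m) (ProjSpace.X_mem m _ j) hij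
  let a₂ := awayMap (𝒢.{u} m) (ProjSpace.X_mem m _ i) hji
  letI := a₁.toAlgebra
  haveI := Away.isLocalization_mul (ProjSpace.X_mem m Z0.{u} i) (ProjSpace.X_mem m Z0.{u} j) hij one_ne_zero
  let el := Away.isLocalizationElem (ProjSpace.X_mem m Z0.{u} i) (ProjSpace.X_mem m Z0.{u} j)
  have hel : el = rat i j := val_injective _ (by simp [el, Away.isLocalizationElem, rat])
  let L := IsLocalization.Away.lift (S := Away (𝒢.{u} m) (MvPolynomial.X i * MvPolynomial.X j)) el
    (g := homPt A i c) (by rw [hel, homPt_rat hi]; exact hu)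
  have hL : ∀ z, L (a₁ z) = homPt A i c z := fun z => IsLocalization.Away.lift_eq el _ z
  have h₁ : L.comp a₁ = homPt A i c := RingHom.ext hL
  have h₂ : L.comp a₂ = homPt A j c' := awayHom_ext fun l => by
    refine hu.mul_left_cancel ?_
    rw [homPt_rat hj, h l, ← homPt_rat hi l, ← homPt_rat hi j, ← hL, ← hL, RingHom.comp_apply, ← map_mul]
    congr 1
    refine val_injective _ ?_
    simp only [val_mul, a₁, a₂, rat, awayMap_mk, Away.val_mk, Localization.mk_mul]
    rw [Localization.mk_eq_mk_iff, Localization.r_iff_exists]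
    exact ⟨1, by simp; ring⟩
  rw [← h₁, ← h₂, CommRingCat.ofHom_comp, CommRingCat.ofHom_comp, Spec.map_comp, Spec.map_comp, Category.assoc,
    Category.assoc]
  congr 1
  exact (Proj.SpecMap_awayMap_awayι (𝒢.{u} m) (ProjSpace.X_mem m _ i) one_pos (ProjSpace.X_mem m _ j) hij).trans
    (Proj.SpecMap_awayMap_awayι (𝒢.{u} m) (ProjSpace.X_mem m _ j) one_pos (ProjSpace.X_mem m _ i) hji).symm

theorem mem_preimage_basicOpen {A : Type u} [CommRing A] {i : Fin (m + 1)} {c : Fin (m + 1) → A} (hc : c i = 1)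
    (l : Fin (m + 1)) (p : PrimeSpectrum A) :
    (Spec.map (CommRingCat.ofHom (homPt A i c)) ≫ chartZ i) p ∈ Proj.basicOpen (𝒢.{u} m) (MvPolynomial.X l) ↔
      c l ∉ p.asIdeal := by
  show Spec.map (CommRingCat.ofHom (homPt A i c)) p ∈
    Proj.awayι (𝒢.{u} m) (MvPolynomial.X i) (ProjSpace.X_mem m _ i) one_pos ⁻¹ᵁ Proj.basicOpen (𝒢.{u} m) (MvPolynomial.X l) ↔ c l ∉ p.asIdeal
  rw [Proj.awayι_preimage_basicOpen _ (ProjSpace.X_mem m _ i) one_pos (ProjSpace.X_mem m _ l) one_pos,
    show Away.isLocalizationElem (ProjSpace.X_mem m Z0.{u} i) (ProjSpace.X_mem m Z0.{u} l) = rat i l from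
      val_injective _ (by simp [Away.isLocalizationElem, rat])]
  show homPt A i c (rat i l) ∉ p.asIdeal ↔ _
  rw [homPt_rat hc]

variable {R : Type u} [CommRing R]

variable (R) in
/-- Projective space over the base. -/
noncomputable abbrev PR (m : ℕ) : Over (Sb R) := Over.mk (CohB1.ProjSpaceOver.toBase m (Sb R))

/-- The point with `T_i = 1`. -/
noncomputable def pt (A : CommAlgCat.{u} R) (i : Fin (m + 1)) (c : Fin (m + 1) → A) : SR A ⟶ PR R m :=
  Over.homMk (pullback.lift (Spec.map (CommRingCat.ofHom (homPt A i c)) ≫ chartZ i) (SR A).hom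
    (specULiftZIsTerminal.hom_ext _ _)) (pullback.lift_snd _ _ _)

theorem pt_fst (A : CommAlgCat.{u} R) (i : Fin (m + 1)) (c : Fin (m + 1) → A) :
    (pt A i c).left ≫ pullback.fst _ _ = Spec.map (CommRingCat.ofHom (homPt A i c)) ≫ chartZ i :=
  pullback.lift_fst _ _ _

theorem pt_natural {A B : CommAlgCat.{u} R} (φ : A ⟶ B) {i : Fin (m + 1)} {c : Fin (m + 1) → A} (hc : c i = 1) :
    smap φ ≫ pt A i c = pt B i (φ.hom ∘ c) := by
  refine Over.OverMorphism.ext (pullback.hom_ext ?_ ?_)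
  · show (Spec.map _ ≫ (pt A i c).left) ≫ pullback.fst _ _ = (pt B i _).left ≫ pullback.fst _ _
    rw [Category.assoc, pt_fst, pt_fst, ← Spec.map_comp_assoc, ← CommRingCat.ofHom_comp,
      show (φ.hom.toRingHom).comp (homPt A i c) = homPt B i (φ.hom ∘ c) from homPt_comp φ.hom.toRingHom hc]
  · exact (Over.w (smap φ ≫ pt A i c)).trans (Over.w (pt B i (φ.hom ∘ c))).symm

theorem pt_eq_pt {A : CommAlgCat.{u} R} {i j : Fin (m + 1)} {c c' : Fin (m + 1) → A}
    (hi : c i = 1) (hj : c' j = 1) (h : ∀ l, c j * c' l = c l) : pt A i c = pt A j c' := by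
  refine Over.OverMorphism.ext (pullback.hom_ext ?_ ?_)
  · rw [pt_fst, pt_fst, SpecMap_homPt_eq hi hj h]
  · exact (Over.w (pt A i c)).trans (Over.w (pt A j c')).symm

variable (R) in
/-- The source of a chart. -/
noncomputable abbrev CH (i : Fin (m + 1)) : Scheme.{u} :=
  pullback (specULiftZIsTerminal.from (Spec (CommRingCat.of (AwX.{u} i)))) (specULiftZIsTerminal.from (Sb R))

variable (R) in
/-- The chart immersion. -/
noncomputable def chι (i : Fin (m + 1)) : CH R i ⟶ CohB1.ProjSpaceOver m (Sb R) :=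
  pullback.map _ _ _ _ (chartZ i) (𝟙 _) (𝟙 _) (specULiftZIsTerminal.hom_ext _ _)
    (specULiftZIsTerminal.hom_ext _ _)

instance (i : Fin (m + 1)) : IsOpenImmersion (chι R i) :=
  Scheme.pullback_map_isOpenImmersion _ _ _ _ (chartZ i) (𝟙 _) (𝟙 _)
    (specULiftZIsTerminal.hom_ext _ _) (specULiftZIsTerminal.hom_ext _ _)

theorem mem_range_chι (i : Fin (m + 1)) (z : CohB1.ProjSpaceOver m (Sb R)) :
    z ∈ Set.range (chι R i) ↔ (pullback.fst _ _ : CohB1.ProjSpaceOver m (Sb R) ⟶ CohB1.ProjSpace m Z0.{u}) z ∈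
      Proj.basicOpen (𝒢.{u} m) (MvPolynomial.X i) := by
  rw [chι]
  erw [Scheme.Pullback.range_map]
  rw [← Proj.opensRange_awayι (𝒢.{u} m) (MvPolynomial.X i) (ProjSpace.X_mem m _ i) one_pos]
  simp
  rfl

theorem iSup_chι : ⨆ i, (chι R (m := m) i).opensRange = ⊤ :=
  eq_top_iff.2 fun z _ => by
    have hz := (ProjSpace.iSup_basicOpen (n := m) (R := Z0.{u})).ge
      (show (pullback.fst _ _ : CohB1.ProjSpaceOver m (Sb R) ⟶ CohB1.ProjSpace m Z0.{u}) z ∈ (⊤ : (CohB1.ProjSpace m Z0.{u}).Opens)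
        from trivial)
    obtain ⟨i, hi⟩ := TopologicalSpace.Opens.mem_iSup.1 hz
    exact TopologicalSpace.Opens.mem_iSup.2 ⟨i, (mem_range_chι i z).2 hi⟩

/-- The point in its chart. -/
noncomputable def toCH (A : CommAlgCat.{u} R) (i : Fin (m + 1)) (c : Fin (m + 1) → A) : (SR A).left ⟶ CH R i :=
  pullback.lift (Spec.map (CommRingCat.ofHom (homPt A i c))) (SR A).hom (specULiftZIsTerminal.hom_ext _ _)

theorem toCH_chι (A : CommAlgCat.{u} R) (i : Fin (m + 1)) (c : Fin (m + 1) → A) :
    toCH A i c ≫ chι R i = (pt A i c).left := by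
  refine pullback.hom_ext ?_ ?_
  · rw [pt_fst, Category.assoc]
    erw [pullback.lift_fst, pullback.lift_fst_assoc]
  · refine Eq.trans ?_ (Over.w (pt A i c)).symm
    rw [Category.assoc]
    erw [pullback.lift_snd, pullback.lift_snd_assoc, Category.comp_id]

theorem isClosedImmersion_toCH (A : CommAlgCat.{u} R) {i : Fin (m + 1)} {c : Fin (m + 1) → A} (hc : c i = 1)
    (h : Subring.closure (Set.range (algebraMap R A) ∪ Set.range c) = ⊤) : IsClosedImmersion (toCH A i c) := by
  haveI : IsAffine (SR A).left := inferInstanceAs (IsAffine (Spec (CommRingCat.of A)))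
  refine IsClosedImmersion.of_surjective_of_isAffine _ (RingHom.range_eq_top.1 (eq_top_iff.2 fun b _ => ?_))
  let e := Scheme.ΓSpecIso (CommRingCat.of A)
  obtain ⟨a, rfl⟩ := (ConcreteCategory.bijective_of_isIso e.inv).2 b
  have key : ∀ {B : CommRingCat.{u}} (p : CH R i ⟶ Spec B) (β : B ⟶ CommRingCat.of A),
      toCH A i c ≫ p = Spec.map β → ∀ z : B, e.inv (β z) ∈ (toCH A i c).appTop.hom.range := fun {B} p β hp z => by
    refine ⟨p.appTop ((Scheme.ΓSpecIso B).inv z), ?_⟩
    have := congr($(Scheme.ΓSpecIso_inv_naturality β) z)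
    rw [← hp, Scheme.Hom.comp_appTop] at this
    exact this.symm
  have ha : a ∈ Subring.closure (Set.range (algebraMap R A) ∪ Set.range c) := h ▸ Subring.mem_top a
  refine (Subring.closure_le (t := (toCH A i c).appTop.hom.range.comap e.inv.hom)).2 ?_ ha
  rintro _ (⟨r, rfl⟩ | ⟨l, rfl⟩)
  · exact key (pullback.snd _ _) (CommRingCat.ofHom (algebraMap R A)) (pullback.lift_snd _ _ _) r
  · have := key (pullback.fst _ _) (CommRingCat.ofHom (homPt A i c)) (pullback.lift_fst _ _ _) (rat i l)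
    rw [show (CommRingCat.ofHom (homPt A i c)) (rat i l) = c l from homPt_rat hc l] at this
    exact this

end Groth.Agent.H26Gr.Pl
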