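import Groth.Agent.H26Gr.Charts
import Groth.Agent.H26Gr.PlPoint
import Groth.Agent.H26Gr.Minor

/-!
# The Plücker immersion
-/

set_option autoImplicit false
set_option backward.isDefEq.respectTransparency false
set_option backward.isDefEq.respectTransparency.types false

universe u

open CategoryTheory CategoryTheory.Limits AlgebraicGeometry TensorProduct

namespace Groth.Agent.H26Gr

noncomputable section

variable {R : Type u} [CommRing R] {n k : ℕ} {X : Over (Sb R)}
  {e : ∀ A : CommAlgCat.{u} R, (SR A ⟶ X) ≃ Module.Grassmannian A (A ⊗[R] (Fin n → R)) k}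

/-- The Plücker coordinates of a point of a chart. -/
def plc {m : ℕ} (eI : Fin (m + 1) ≃ PlIdx n k) {A : Type u} [CommRing A] (s : Fin k ↪ Fin n)
    (x : Jc s × Fin k → A) : Fin (m + 1) → A :=
  fun l => minor (wmat s x) (eI l).emb

theorem plc_self {m : ℕ} (eI : Fin (m + 1) ≃ PlIdx n k) {A : Type u} [CommRing A] (l : Fin (m + 1))
    (x : Jc (eI l).emb × Fin k → A) : plc eI (eI l).emb x l = 1 :=
  minor_self _ x

theorem closure_plc {m : ℕ} (eI : Fin (m + 1) ≃ PlIdx n k) (s : Fin k ↪ Fin n) :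
    Subring.closure (Set.range (algebraMap R (MvPolynomial (Jc s × Fin k) R)) ∪
      Set.range (plc eI s (MvPolynomial.X : Jc s × Fin k → MvPolynomial (Jc s × Fin k) R))) = ⊤ := by
  refine eq_top_iff.2 fun p _ => ?_
  induction p using MvPolynomial.induction_on with
  | C r => exact Subring.subset_closure (Or.inl ⟨r, rfl⟩)
  | add p q hp hq => exact add_mem (hp trivial) (hq trivial)
  | mul_X p q hp =>
    refine mul_mem (hp trivial) ?_
    obtain ⟨i, j⟩ := q
    obtain ⟨t, ht⟩ := exists_minor_eq s (MvPolynomial.X : Jc s × Fin k → MvPolynomial (Jc s × Fin k) R) i j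
    obtain ⟨T, σ, hT⟩ := exists_plIdx t
    rw [← ht, show (⇑t : Fin k → Fin n) = fun j => T.emb (σ j) from funext hT, minor_perm]
    exact mul_mem (intCast_mem _ _) (Subring.subset_closure (Or.inr ⟨eI.symm T, by
      show minor _ (eI (eI.symm T)).emb = _
      rw [Equiv.apply_symm_apply]⟩))

/-- The Plücker closed immersion. -/
theorem exists_plucker (he : RepNat X e) (hk : k ≤ n) :
    ∃ c : X.left ⟶ CohB1.ProjSpaceOver (n.choose k - 1) (Spec (CommRingCat.of R)),
      IsClosedImmersion c ∧
        c ≫ CohB1.ProjSpaceOver.toBase (n.choose k - 1) (Spec (CommRingCat.of R)) = X.hom := by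
  generalize hm : n.choose k - 1 = m
  have hcard : Fintype.card (PlIdx n k) = m + 1 := by
    have := Nat.choose_pos hk
    rw [card_plIdx]; omega
  let eI : Fin (m + 1) ≃ PlIdx n k := (Fintype.equivFinOfCardEq hcard).symm
  let sT : Fin (m + 1) → (Fin k ↪ Fin n) := fun l => (eI l).emb
  choose c hc ho hr using fun l => exists_chart_hom he (sT l)
  have hlocus : ∀ (s : Fin k ↪ Fin n) (x : X.left), x ∈ locus s he.fam → ∃ l, x ∈ locus (sT l) he.fam := by
    intro s x hx
    obtain ⟨T, σ, hT⟩ := exists_plIdx s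
    refine ⟨eI.symm T, (inChart_congr R ?_ _).1 hx⟩
    rw [show sT (eI.symm T) = T.emb from by simp [sT]]
    ext i
    constructor
    · rintro ⟨j, rfl⟩; exact ⟨σ j, (hT j).symm⟩
    · rintro ⟨j, rfl⟩; exact ⟨σ.symm j, by rw [hT, Equiv.apply_symm_apply]⟩
  have hcov : ∀ x : X.left, ∃ l, x ∈ Set.range (c l).left := fun x => by
    obtain ⟨s, hs⟩ := exists_mem_locus he.fam x
    obtain ⟨l, hl⟩ := hlocus s x hs
    exact ⟨l, (hr l).symm ▸ hl⟩
  let 𝒰 : X.left.OpenCover :=
    { I₀ := ULift.{u} (Fin (m + 1))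
      X := fun l => (chartSp R (sT l.down)).left
      f := fun l => (c l.down).left
      mem₀ := by
        rw [Scheme.presieve₀_mem_precoverage_iff]
        exact ⟨fun x => let ⟨l, hl⟩ := hcov x; ⟨⟨l⟩, hl⟩, fun l => ho _⟩ }
  -- the morphisms on the charts
  let d : ∀ l, chartSp R (sT l) ⟶ Pl.PR R m := fun l =>
    Pl.pt (chartAlg R (sT l)) l (plc eI (sT l) MvPolynomial.X)
  have hd : ∀ (l : Fin (m + 1)) (A : CommAlgCat.{u} R) (g : SR A ⟶ chartSp R (sT l)),
      g ≫ d l = Pl.pt A l (plc eI (sT l) (coords R (sT l) g)) := fun l A g => by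
    obtain ⟨φ, rfl⟩ := exists_smap_eq g
    rw [Pl.pt_natural φ (plc_self eI l _), coords_smap]
    congr 1
    funext t
    exact minor_wmat_map R φ.hom (sT l) _ _
  have hagree : ∀ (i j : Fin (m + 1)) (A : CommAlgCat.{u} R) (a : SR A ⟶ chartSp R (sT i))
      (b : SR A ⟶ chartSp R (sT j)), a ≫ c i = b ≫ c j → a ≫ d i = b ≫ d j := fun i j A a b h => by
    have hN : chartPt R (sT i) (coords R (sT i) a) = chartPt R (sT j) (coords R (sT j) b) := by
      rw [← hc, ← hc, h]
    rw [hd, hd]
    refine Pl.pt_eq_pt (plc_self eI i _) (plc_self eI j _) fun l => ?_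
    have htr := minor_transition R _ _ _ _ hN
    have h1 : minor (wmat (sT i) (coords R (sT i) a)) (sT j) * minor (wmat (sT j) (coords R (sT j) b)) (sT i) = 1 :=
      (htr (sT j)).symm.trans (minor_self _ _)
    show minor (wmat (sT i) _) (sT j) * minor (wmat (sT j) _) (eI l).emb = minor (wmat (sT i) _) (eI l).emb
    rw [htr, mul_left_comm, h1, mul_one]
  let F := Scheme.Cover.glueMorphisms 𝒰 (fun l => (d l.down).left) fun i j => hom_ext_fromSpec fun V hV => by
    let a : Spec Γ(_, V) ⟶ (chartSp R (sT i.down)).left := hV.fromSpec ≫ pullback.fst (𝒰.f i) (𝒰.f j)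
    let b : Spec Γ(_, V) ⟶ (chartSp R (sT j.down)).left := hV.fromSpec ≫ pullback.snd (𝒰.f i) (𝒰.f j)
    have hab : a ≫ (c i.down).left = b ≫ (c j.down).left := by
      simp only [a, b, Category.assoc]
      exact congrArg (hV.fromSpec ≫ ·) pullback.condition
    let gb : SR (ofPt a) ⟶ chartSp R (sT j.down) := Over.homMk b (by
      rw [← Over.w (c j.down), ← Category.assoc, ← hab, Category.assoc, Over.w (c i.down)]
      exact Over.w (gOf a))
    have h := congrArg (fun t => t.left) (hagree i.down j.down _ (gOf a) gb (Over.OverMorphism.ext hab))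
    rw [← Category.assoc, ← Category.assoc]
    exact h
  have hF : ∀ l, (c l).left ≫ F = (d l).left := fun l => Scheme.Cover.ι_glueMorphisms 𝒰 _ _ ⟨l⟩
  refine ⟨F, ?_, Precoverage.ZeroHypercover.hom_ext 𝒰 fun l => ?_⟩
  swap
  · show (c l.down).left ≫ F ≫ _ = (c l.down).left ≫ X.hom
    rw [← Category.assoc, hF, Over.w (c l.down)]
    exact Over.w (d l.down)
  have hpre : ∀ T, F ⁻¹ᵁ (Pl.chι R T).opensRange = (c T).left.opensRange (H := ho T) := fun T => by
    haveI := ho T
    ext x
    obtain ⟨l, p, rfl⟩ := hcov x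
    show F ((c l).left p) ∈ Set.range (Pl.chι R T) ↔ (c l).left p ∈ Set.range (c T).left
    rw [hr T, Pl.mem_range_chι, show F ((c l).left p) = (d l).left p from congr($(hF l) p)]
    rw [show (pullback.fst _ _ : CohB1.ProjSpaceOver m (Sb R) ⟶ CohB1.ProjSpace m Pl.Z0.{u}) ((d l).left p) =
      (Spec.map (CommRingCat.ofHom (Pl.homPt _ l (plc eI (sT l) MvPolynomial.X))) ≫ Pl.chartZ l) p from
      congr($(Pl.pt_fst (chartAlg R (sT l)) l (plc eI (sT l) MvPolynomial.X)) p)]
    rw [Pl.mem_preimage_basicOpen (plc_self eI l _)]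
    constructor
    · intro hp
      let A := chartAlg R (sT l)
      let K : CommAlgCat.{u} R := CommAlgCat.of R (PrimeSpectrum.asIdeal p).ResidueField
      let φ : A ⟶ K := CommAlgCat.ofHom (IsScalarTower.toAlgHom R A (PrimeSpectrum.asIdeal p).ResidueField)
      refine (mem_locus_iff (sT T) he.fam (c l) p).2 ?_
      show _ ∉ Module.support A (Coker R (sT T) (e A (c l)))
      rw [show c l = 𝟙 _ ≫ c l from (Category.id_comp _).symm, hc,
        show coords R (sT l) (𝟙 (chartSp R (sT l))) = MvPolynomial.X from by rw [← smap_id, coords_smap]; rfl]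
      have hu : IsUnit (φ.hom (plc eI (sT l) MvPolynomial.X T)) :=
        isUnit_iff_ne_zero.2 fun h0 => hp (Ideal.algebraMap_residueField_eq_zero.1 h0)
      rw [show φ.hom (plc eI (sT l) MvPolynomial.X T) = minor (wmat (sT l) (φ.hom ∘ MvPolynomial.X)) (sT T) from
        minor_wmat_map R φ.hom (sT l) _ _] at hu
      have hin := inChart_of_isUnit_minor R (sT l) (sT T) _ hu
      rw [← map_chartPt, inChart_map_iff] at hin
      let z : PrimeSpectrum K := ⟨⊥, Ideal.isPrime_bot⟩
      have hz : PrimeSpectrum.comap φ.hom.toRingHom z = p := PrimeSpectrum.ext (Ideal.ext fun a =>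
        (Ideal.algebraMap_residueField_eq_zero (I := PrimeSpectrum.asIdeal p) (x := a)))
      exact hz ▸ hin z
    · intro hx
      rw [← hr T] at hx
      obtain ⟨q, hq⟩ := hx
      have e1 : F ((c l).left p) = (d T).left q := by rw [← hq]; exact congr($(hF T) q)
      rw [show F ((c l).left p) = (d l).left p from congr($(hF l) p)] at e1
      have h1 := (Pl.mem_preimage_basicOpen (plc_self eI l (MvPolynomial.X (R := R))) T p).1
      refine h1 ?_
      rw [← congr($(Pl.pt_fst (chartAlg R (sT l)) l (plc eI (sT l) MvPolynomial.X)) p)]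
      show (pullback.fst _ _ : CohB1.ProjSpaceOver m (Sb R) ⟶ _) ((d l).left p) ∈ _
      rw [e1]
      show ((d T).left ≫ pullback.fst _ _) q ∈ _
      rw [Pl.pt_fst]
      refine (Pl.mem_preimage_basicOpen (plc_self eI T _) T q).2 ?_
      rw [plc_self]
      exact q.asIdeal.ne_top_iff_one.1 q.isPrime.ne_top
  let 𝒱 : (CohB1.ProjSpaceOver m (Sb R)).OpenCover :=
    { I₀ := ULift.{u} (Fin (m + 1))
      X := fun l => Pl.CH R l.down
      f := fun l => Pl.chι R l.down
      mem₀ := by
        rw [Scheme.presieve₀_mem_precoverage_iff]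
        refine ⟨fun z => ?_, fun l => inferInstance⟩
        obtain ⟨l, hl⟩ := TopologicalSpace.Opens.mem_iSup.1 ((Pl.iSup_chι (R := R)).ge (trivial : z ∈ (⊤ : TopologicalSpace.Opens _)))
        exact ⟨⟨l⟩, hl⟩ }
  refine IsZariskiLocalAtTarget.of_openCover 𝒱 fun l => ?_
  haveI := ho l.down
  have hsq := IsOpenImmersion.isPullback (Pl.toCH (chartAlg R (sT l.down)) l.down (plc eI (sT l.down) MvPolynomial.X))
    (c l.down).left (Pl.chι R l.down) F
    (by rw [Pl.toCH_chι]; exact hF l.down) (hpre l.down)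
  have hP : IsClosedImmersion (Pl.toCH (chartAlg R (sT l.down)) l.down (plc eI (sT l.down) MvPolynomial.X)) :=
    Pl.isClosedImmersion_toCH _ (plc_self eI _ _) (closure_plc eI _)
  show IsClosedImmersion (pullback.snd F (Pl.chι R l.down))
  have := hsq.flip.isoPullback_hom_snd
  rw [← Iso.eq_inv_comp] at this
  rw [this]
  infer_instance

end

end Groth.Agent.H26Gr
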