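import Groth.Agent.H26Gr.MapOfEpi

/-!
# The Grassmannian of a quotient module
-/

set_option autoImplicit false
set_option backward.isDefEq.respectTransparency false
set_option backward.isDefEq.respectTransparency.types false

universe u

open CategoryTheory CategoryTheory.Limits AlgebraicGeometry Grass

namespace Groth.Agent.H26Gr

noncomputable section

/-- The Grassmannian of a quotient is a closed subscheme of the Grassmannian. -/
theorem exists_isGrass_of_epi {X G₁ : Scheme.{u}} {π₁ : G₁ ⟶ X} {E₁ E₂ : X.Modules} {e : ℕ} {Q₁ : G₁.Modules}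
    {q₁ : (Scheme.Modules.pullback π₁).obj E₁ ⟶ Q₁} (hE₁ : Coh.IsQCoh E₁) (hE₂ : Coh.IsQCoh E₂) (v : E₁ ⟶ E₂)
    [Epi v] (hG₁ : IsGrass π₁ E₁ e Q₁ q₁) :
    ∃ (G : Scheme.{u}) (π : G ⟶ X) (Q : G.Modules) (q : (Scheme.Modules.pullback π).obj E₂ ⟶ Q),
      IsGrass π E₂ e Q q := by
  let φ : (Scheme.Modules.pullback π₁).obj (kernel v) ⟶ Q₁ := (Scheme.Modules.pullback π₁).map (kernel.ι v) ≫ q₁
  have hQ : FlatMod.IsFinLocFree Q₁ := fun x => let ⟨U, hx, h⟩ := hG₁.rank x; ⟨U, e, hx, h⟩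
  haveI : E₁.IsQuasicoherent := hE₁
  haveI : E₂.IsQuasicoherent := hE₂
  obtain ⟨I, hI⟩ := exists_vanishing_locus
    (H29Fitt.isQCoh_pullback π₁ _ (H10Coh.isQuasicoherent_kernel v)) hQ φ
  let ι := I.subschemeι
  let ρ := ι ≫ π₁
  have hz : (Scheme.Modules.pullback ρ).map (kernel.ι v) ≫ quotBC (rfl : ι ≫ π₁ = ρ) q₁ = 0 := by
    rw [← quotBC_pre]
    show _ ≫ _ ≫ (Scheme.Modules.pullback ι).map φ = 0
    rw [(hI _ ι).1 ⟨𝟙 _, Category.id_comp _⟩, comp_zero, comp_zero]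
  obtain ⟨s, hs⟩ := exists_desc_pullback ρ v _ hz
  have hs' : Epi s := by
    haveI := hG₁.epi
    haveI : Epi ((Scheme.Modules.pullback ρ).map v ≫ s) := by rw [hs]; exact epi_quotBC _ _
    exact epi_of_epi ((Scheme.Modules.pullback ρ).map v) s
  refine ⟨_, ρ, _, s, isFinLocFreeOfRank_pullback ι hG₁.rank, hs', fun T g L hL t ht => ?_⟩
  haveI := ht
  haveI := epi_pullback_map g v
  -- base changes of the universal quotient
  have key : ∀ (h : T ⟶ I.subscheme) (hg : h ≫ ρ = g),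
      (Scheme.Modules.pullback g).map v ≫ quotBC hg s =
        quotBC (show (h ≫ ι) ≫ π₁ = g by rw [Category.assoc]; exact hg) q₁ ≫
          quotBC (rfl : h ≫ ι = h ≫ ι) (𝟙 ((Scheme.Modules.pullback ι).obj Q₁)) := fun h hg => by
    rw [← quotBC_pre, hs, quotBC_quotBC (π := ρ) (rfl : ι ≫ π₁ = ρ) q₁ (𝟙 _), Category.comp_id]
  obtain ⟨h₁, ⟨hh₁, a, ha⟩, hu⟩ := hG₁.univ T g L hL ((Scheme.Modules.pullback g).map v ≫ t) (epi_comp _ _)
  obtain ⟨h, hh⟩ := (hI T h₁).2 (by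
    have h0 : quotBC hh₁ φ = 0 := by
      rw [quotBC_pre, show quotBC hh₁ q₁ = ((Scheme.Modules.pullback g).map v ≫ t) ≫ a.inv by
        rw [← ha, Category.assoc, Iso.hom_inv_id, Category.comp_id]]
      rw [Category.assoc, ← Functor.map_comp_assoc, kernel.condition]
      haveI : (Scheme.Modules.pullback g).PreservesZeroMorphisms := Functor.preservesZeroMorphisms_of_isLeftAdjoint _
      rw [Functor.map_zero, zero_comp]
    rw [quotBC, ← Category.assoc] at h0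
    rwa [← cancel_epi ((Scheme.Modules.pullbackCongr hh₁).inv.app (kernel v) ≫
      (Scheme.Modules.pullbackComp h₁ π₁).inv.app (kernel v)), comp_zero])
  refine ⟨h, ⟨show h ≫ ρ = g by rw [← hh₁, ← hh, Category.assoc], ?_⟩, fun h' ⟨hg', e', he'⟩ => ?_⟩
  · haveI := isIso_quotBC (rfl : h ≫ ι = h ≫ ι) (𝟙 ((Scheme.Modules.pullback ι).obj Q₁))
    refine ⟨(asIso (quotBC (rfl : h ≫ ι = h ≫ ι) (𝟙 ((Scheme.Modules.pullback ι).obj Q₁)))).symm ≪≫
      (Scheme.Modules.pullbackCongr hh).app Q₁ ≪≫ a, ?_⟩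
    rw [← cancel_epi ((Scheme.Modules.pullback g).map v), ← ha, ← Category.assoc, key, Category.assoc]
    simp only [Iso.trans_hom, Iso.symm_hom, asIso_inv, IsIso.hom_inv_id_assoc, Iso.app_hom]
    rw [← Category.assoc]
    congr 1
    exact quotBC_congr _ hh q₁
  · haveI := isIso_quotBC (rfl : h' ≫ ι = h' ≫ ι) (𝟙 ((Scheme.Modules.pullback ι).obj Q₁))
    refine (cancel_mono ι).1 ((hu (h' ≫ ι) ⟨by rw [Category.assoc]; exact hg',
      asIso (quotBC (rfl : h' ≫ ι = h' ≫ ι) (𝟙 ((Scheme.Modules.pullback ι).obj Q₁))) ≪≫ e', ?_⟩).trans hh.symm)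
    rw [Iso.trans_hom, asIso_hom, ← Category.assoc, ← key h' hg', Category.assoc, he']

end

end Groth.Agent.H26Gr
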