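import Mathlib.CategoryTheory.Abelian.Exact
import Mathlib.Algebra.Homology.ShortComplex.ExactFunctor

/-!
# Submodules as kernels of quotient maps
-/

set_option autoImplicit false

universe v u v' u'

open CategoryTheory CategoryTheory.Limits

namespace Groth.Agent.H26Gr

variable {C : Type u} [Category.{v} C] [Abelian C]

/-- A subobject is the kernel of the projection onto the quotient. -/
theorem kernelSubobject_cokernel_π {M : C} (K : Subobject M) : kernelSubobject (cokernel.π K.arrow) = K := by
  have h := ((ShortComplex.mk K.arrow (cokernel.π K.arrow) (cokernel.condition _)).exact_iff_image_eq_kernel).1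
    (ShortComplex.exact_of_g_is_cokernel _ (cokernelIsCokernel _))
  rw [← h, imageSubobject_mono, Subobject.mk_arrow]

/-- Quotient maps have the same kernel exactly when they are isomorphic. -/
theorem kernelSubobject_eq_iff {M A B : C} (f : M ⟶ A) [Epi f] (g : M ⟶ B) [Epi g] :
    kernelSubobject f = kernelSubobject g ↔ ∃ e : A ≅ B, f ≫ e.hom = g := by
  refine ⟨fun h => ?_, fun ⟨e, he⟩ => ?_⟩
  · let Sf := ShortComplex.mk (kernelSubobject f).arrow f (kernelSubobject_arrow_comp f)
    let Sg := ShortComplex.mk (kernelSubobject g).arrow g (kernelSubobject_arrow_comp g)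
    have hfg : (kernelSubobject f).arrow ≫ g = 0 := by
      rw [← Subobject.ofLE_arrow h.le, Category.assoc, kernelSubobject_arrow_comp, comp_zero]
    have hgf : (kernelSubobject g).arrow ≫ f = 0 := by
      rw [← Subobject.ofLE_arrow h.ge, Category.assoc, kernelSubobject_arrow_comp, comp_zero]
    have ef : Sf.Exact := Sf.exact_iff_image_eq_kernel.2 (by simp [Sf, imageSubobject_mono])
    have eg : Sg.Exact := Sg.exact_iff_image_eq_kernel.2 (by simp [Sg, imageSubobject_mono])
    haveI : Epi Sf.g := ‹Epi f›
    haveI : Epi Sg.g := ‹Epi g›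
    have h1 : f ≫ ef.desc g hfg = g := ef.g_desc _ _
    have h2 : g ≫ eg.desc f hgf = f := eg.g_desc _ _
    exact ⟨⟨ef.desc g hfg, eg.desc f hgf, by rw [← cancel_epi f]; simp [← Category.assoc, h1, h2],
      by rw [← cancel_epi g]; simp [← Category.assoc, h1, h2]⟩, h1⟩
  · subst he
    exact (kernelSubobject_comp_mono f e.hom).symm

/-- A right exact functor carries the kernel of a quotient map to the image. -/
theorem image_map_kernelSubobject {D : Type u'} [Category.{v'} D] [Abelian D] (F : C ⥤ D) [F.PreservesZeroMorphisms]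
    [PreservesColimitsOfShape WalkingParallelPair F] {M A : C} (f : M ⟶ A) [Epi f] {N : D} (i : F.obj M ≅ N) :
    imageSubobject (F.map (kernelSubobject f).arrow ≫ i.hom) = kernelSubobject (i.inv ≫ F.map f) := by
  let S := ShortComplex.mk (kernelSubobject f).arrow f (kernelSubobject_arrow_comp f)
  have hS : S.Exact := S.exact_iff_image_eq_kernel.2 (by simp [S, imageSubobject_mono])
  haveI : Epi S.g := ‹Epi f›
  have h1 : (S.map F).Exact :=
    ShortComplex.exact_of_g_is_cokernel _ ((CokernelCofork.mapIsColimit _ hS.gIsCokernel F))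
  let T := ShortComplex.mk (F.map (kernelSubobject f).arrow ≫ i.hom) (i.inv ≫ F.map f) (by
    rw [Category.assoc, Iso.hom_inv_id_assoc, ← F.map_comp, kernelSubobject_arrow_comp, F.map_zero])
  have h2 : T.Exact := ShortComplex.exact_of_iso
    (ShortComplex.isoMk (S₁ := S.map F) (S₂ := T) (Iso.refl _) i (Iso.refl _)
      (Category.id_comp _) ((i.hom_inv_id_assoc (F.map f)).trans (Category.comp_id _).symm)) h1
  exact T.exact_iff_image_eq_kernel.1 h2

end Groth.Agent.H26Gr
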